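import Mathlib
import Cfsg.Agent.Lib.Involves
import Cfsg.Prelude.Def_PLocal
set_option linter.all false

/-!
# W4.4: a finite group with abelian Sylow 2-subgroups involves neither `SL(2,p)` nor `Qd(p)`, `p` odd
-/

set_option autoImplicit false

namespace Cfsg.Agent.Walter.QdAbelian

open Cfsg.Agent.Lib.Involves Subgroup

/-- all 2-subgroups of `G` are abelian -/
def AbTwo (G : Type*) [Group G] : Prop :=
  ∀ T : Subgroup G, IsPGroup 2 T → ∀ a ∈ T, ∀ b ∈ T, a * b = b * a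

theorem abTwo_of_sylow {G : Type*} [Group G] [Finite G] (S : Sylow 2 G)
    (hS : ∀ a ∈ (S : Subgroup G), ∀ b ∈ (S : Subgroup G), a * b = b * a) : AbTwo G := by
  intro T hT a ha b hb
  obtain ⟨R, hR⟩ := hT.exists_le_sylow
  obtain ⟨g, hg⟩ := MulAction.exists_smul_eq G S R
  have h1 : ∀ x ∈ T, ∃ y ∈ (S : Subgroup G), g * y * g⁻¹ = x := by
    intro x hx
    have h2 : x ∈ (R : Subgroup G) := hR hx
    rw [← hg, Sylow.coe_subgroup_smul] at h2
    obtain ⟨y, hy, hyx⟩ := h2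
    exact ⟨y, hy, hyx⟩
  obtain ⟨x, hx, rfl⟩ := h1 a ha
  obtain ⟨y, hy, rfl⟩ := h1 b hb
  have := hS x hx y hy
  calc g * x * g⁻¹ * (g * y * g⁻¹) = g * (x * y) * g⁻¹ := by group
    _ = g * (y * x) * g⁻¹ := by rw [this]
    _ = g * y * g⁻¹ * (g * x * g⁻¹) := by group

theorem abTwo_of_isMulCommutative {G : Type*} [Group G] [Finite G] (S : Sylow 2 G)
    (hS : IsMulCommutative (S : Subgroup G)) : AbTwo G := by
  refine abTwo_of_sylow S fun a ha b hb => ?_
  have := hS.is_comm.comm (⟨a, ha⟩ : (S : Subgroup G)) ⟨b, hb⟩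
  exact congrArg Subtype.val this

/-- abelian 2-subgroups pass to sections -/
theorem AbTwo.of_involves {G Y : Type*} [Group G] [Group Y] [Finite G] (hG : AbTwo G)
    (h : Involves G Y) : AbTwo Y := by
  obtain ⟨H, f, hf⟩ := h
  intro Q hQ x hx y hy
  let K : Subgroup H := Q.comap f
  obtain ⟨T⟩ : Nonempty (Sylow 2 K) := inferInstance
  let φ : K →* Q := f.subgroupComap Q
  have hφ : Function.Surjective φ := by
    intro q
    obtain ⟨h, hh⟩ := hf q
    refine ⟨⟨h, ?_⟩, Subtype.ext hh⟩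
    change f h ∈ Q
    rw [hh]; exact q.2
  have hfin : Finite Q := Finite.of_surjective φ hφ
  -- the image of `T` is everything
  have hT : ((T : Subgroup K).map φ) = ⊤ := by
    have h1 : ((T.mapSurjective hφ : Sylow 2 Q) : Subgroup Q) = ⊤ := by
      have h2 : IsPGroup 2 (⊤ : Subgroup Q) := hQ.of_equiv Subgroup.topEquiv.symm
      exact ((T.mapSurjective hφ : Sylow 2 Q).3 h2 le_top).symm
    exact h1
  have hx' : (⟨x, hx⟩ : Q) ∈ (T : Subgroup K).map φ := by rw [hT]; trivial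
  have hy' : (⟨y, hy⟩ : Q) ∈ (T : Subgroup K).map φ := by rw [hT]; trivial
  obtain ⟨a, ha, hax⟩ := hx'
  obtain ⟨b, hb, hby⟩ := hy'
  have hp : IsPGroup 2 (((T : Subgroup K).map K.subtype).map H.subtype) :=
    (T.2.map _).map _
  have hab := hG _ hp _ (mem_map_of_mem _ (mem_map_of_mem _ ha)) _ (mem_map_of_mem _ (mem_map_of_mem _ hb))
  have hab' : a * b = b * a := by
    apply K.subtype_injective
    apply H.subtype_injective
    rw [map_mul, map_mul, map_mul, map_mul]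
    exact hab
  have h3 : (⟨x, hx⟩ : Q) * ⟨y, hy⟩ = ⟨y, hy⟩ * ⟨x, hx⟩ := by
    rw [← hax, ← hby, ← map_mul, hab', map_mul]
  exact congrArg Subtype.val h3

/-- two non-commuting elements `i, j` with `i ^ 4 = 1`, `j ^ 4 = 1`, `j i j⁻¹ = i⁻¹` contradict `AbTwo` -/
theorem AbTwo.comm_of {Y : Type*} [Group Y] (hY : AbTwo Y) (i j : Y) (hi : i ^ 4 = 1)
    (hj : j ^ 4 = 1) (hij : j * i * j⁻¹ = i⁻¹) : i * j = j * i := by
  have h1 : IsPGroup 2 (zpowers i) := by
    intro x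
    obtain ⟨k, hk⟩ := mem_zpowers_iff.1 x.2
    refine ⟨2, Subtype.ext ?_⟩
    change (x : Y) ^ 2 ^ 2 = 1
    rw [← hk, ← zpow_natCast, zpow_comm]
    norm_num
    rw [hi, one_zpow]
  have h2 : IsPGroup 2 (zpowers j) := by
    intro x
    obtain ⟨k, hk⟩ := mem_zpowers_iff.1 x.2
    refine ⟨2, Subtype.ext ?_⟩
    change (x : Y) ^ 2 ^ 2 = 1
    rw [← hk, ← zpow_natCast, zpow_comm]
    norm_num
    rw [hj, one_zpow]
  have h3 : zpowers j ≤ normalizer (zpowers i : Set Y) := by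
    rw [zpowers_le, mem_normalizer_iff]
    intro x
    constructor
    · rintro hx
      obtain ⟨k, rfl⟩ := mem_zpowers_iff.1 hx
      rw [← conj_zpow, hij]
      exact zpow_mem (inv_mem (mem_zpowers i)) _
    · intro hx
      obtain ⟨k, hk⟩ := mem_zpowers_iff.1 hx
      have h4 : x = j⁻¹ * i ^ k * j := by rw [hk]; group
      have h5 : j⁻¹ * i * j = i⁻¹ := by
        have : j⁻¹ * i⁻¹ * j = i := by rw [← hij]; group
        calc j⁻¹ * i * j = (j⁻¹ * i⁻¹ * j)⁻¹ := by group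
          _ = i⁻¹ := by rw [this]
      have h6 : j⁻¹ * i ^ k * j = (j⁻¹ * i * j) ^ k := by
        have := conj_zpow (i := k) (a := j⁻¹) (b := i)
        rw [inv_inv] at this
        exact this.symm
      rw [h4, h6, h5]
      exact zpow_mem (inv_mem (mem_zpowers i)) _
  have h4 : IsPGroup 2 (zpowers j ⊔ zpowers i : Subgroup Y) := h2.to_sup_of_normal_right' h1 h3
  exact hY _ h4 i ((le_sup_right : zpowers i ≤ _) (mem_zpowers i)) j
    ((le_sup_left : zpowers j ≤ _) (mem_zpowers j))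

theorem two_ne_zero' {p : ℕ} [Fact p.Prime] (hp : p ≠ 2) : (2 : ZMod p) ≠ 0 := by
  intro h
  have h1 : ((2 : ℕ) : ZMod p) = 0 := by exact_mod_cast h
  rw [ZMod.natCast_eq_zero_iff] at h1
  have h2 := (Nat.prime_dvd_prime_iff_eq (Fact.out : p.Prime) Nat.prime_two).1 h1
  exact hp h2

/-- `SL(2,p)`, `p` odd, has a non-abelian 2-subgroup -/
theorem not_abTwo_sl {p : ℕ} [Fact p.Prime] (hp : p ≠ 2) :
    ¬ AbTwo (Matrix.SpecialLinearGroup (Fin 2) (ZMod p)) := by
  intro h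
  obtain ⟨a, b, hab⟩ := ZMod.sq_add_sq p (-1)
  let I : Matrix.SpecialLinearGroup (Fin 2) (ZMod p) := ⟨!![0, 1; -1, 0], by
    rw [Matrix.det_fin_two_of]; ring⟩
  let J : Matrix.SpecialLinearGroup (Fin 2) (ZMod p) := ⟨!![a, b; b, -a], by
    rw [Matrix.det_fin_two_of]; linear_combination -hab⟩
  have hI : I ^ 4 = 1 := by
    apply Subtype.ext
    rw [Matrix.SpecialLinearGroup.coe_pow, Matrix.SpecialLinearGroup.coe_one]
    change (!![0, 1; -1, 0] : Matrix (Fin 2) (Fin 2) (ZMod p)) ^ 4 = 1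
    ext i j
    fin_cases i <;> fin_cases j <;> simp [pow_succ, Matrix.mul_apply, Fin.sum_univ_two]
  have hJ : J ^ 4 = 1 := by
    apply Subtype.ext
    rw [Matrix.SpecialLinearGroup.coe_pow, Matrix.SpecialLinearGroup.coe_one]
    change (!![a, b; b, -a] : Matrix (Fin 2) (Fin 2) (ZMod p)) ^ 4 = 1
    have h2 : (!![a, b; b, -a] : Matrix (Fin 2) (Fin 2) (ZMod p)) ^ 2 = -1 := by
      ext i j
      fin_cases i <;> fin_cases j <;>
        simp [pow_succ, Matrix.mul_apply, Fin.sum_univ_two] <;>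
        first | (linear_combination hab) | ring1
    calc (!![a, b; b, -a] : Matrix (Fin 2) (Fin 2) (ZMod p)) ^ 4
        = ((!![a, b; b, -a] : Matrix (Fin 2) (Fin 2) (ZMod p)) ^ 2) ^ 2 := by rw [← pow_mul]
      _ = 1 := by rw [h2]; simp
  have hIJ : J * I * J⁻¹ = I⁻¹ := by
    rw [mul_inv_eq_iff_eq_mul, eq_inv_mul_iff_mul_eq]
    apply Subtype.ext
    simp only [Matrix.SpecialLinearGroup.coe_mul]
    change (!![0, 1; -1, 0] : Matrix (Fin 2) (Fin 2) (ZMod p)) * (!![a, b; b, -a] * !![0, 1; -1, 0]) =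
      !![a, b; b, -a]
    ext i j
    fin_cases i <;> fin_cases j <;> simp [Matrix.mul_apply, Fin.sum_univ_two]
  have h1 := h.comm_of I J hI hJ hIJ
  have h2 := congrArg Subtype.val h1
  simp only [Matrix.SpecialLinearGroup.coe_mul] at h2
  change (!![0, 1; -1, 0] : Matrix (Fin 2) (Fin 2) (ZMod p)) * !![a, b; b, -a] =
    !![a, b; b, -a] * !![0, 1; -1, 0] at h2
  have h3 := congrFun (congrFun h2 0) 0
  have h4 := congrFun (congrFun h2 0) 1
  simp [Matrix.mul_apply, Fin.sum_univ_two] at h3 h4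
  have h5 : (2 : ZMod p) ≠ 0 := two_ne_zero' hp
  have hb : b = 0 := by
    have : 2 * b = 0 := by linear_combination h3
    exact (mul_eq_zero.1 this).resolve_left h5
  have ha : a = 0 := by
    have : 2 * a = 0 := by linear_combination -h4
    exact (mul_eq_zero.1 this).resolve_left h5
  rw [ha, hb] at hab
  have : (1 : ZMod p) = 0 := by linear_combination hab
  exact one_ne_zero this

/-- `Qd(p)`, `p` odd, has a non-abelian 2-subgroup -/
theorem not_abTwo_qd {p : ℕ} [Fact p.Prime] (hp : p ≠ 2) : ¬ AbTwo ↥(Cfsg.qd p) := by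
  intro h
  obtain ⟨a, b, hab⟩ := ZMod.sq_add_sq p (-1)
  let I : Matrix.SpecialLinearGroup (Fin 3) (ZMod p) := ⟨!![0, 1, 0; -1, 0, 0; 0, 0, 1], by
    rw [Matrix.det_fin_three]; simp⟩
  let J : Matrix.SpecialLinearGroup (Fin 3) (ZMod p) := ⟨!![a, b, 0; b, -a, 0; 0, 0, 1], by
    rw [Matrix.det_fin_three]; simp; linear_combination -hab⟩
  have hIm : I ∈ Cfsg.qd p := subset_closure ⟨rfl, rfl, rfl⟩
  have hJm : J ∈ Cfsg.qd p := subset_closure ⟨rfl, rfl, rfl⟩
  have hI : (⟨I, hIm⟩ : ↥(Cfsg.qd p)) ^ 4 = 1 := by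
    apply Subtype.ext
    apply Subtype.ext
    change (I ^ 4).1 = _
    rw [Matrix.SpecialLinearGroup.coe_pow]
    change (!![0, 1, 0; -1, 0, 0; 0, 0, 1] : Matrix (Fin 3) (Fin 3) (ZMod p)) ^ 4 = 1
    ext i j
    fin_cases i <;> fin_cases j <;> simp [pow_succ, Matrix.mul_apply, Fin.sum_univ_three]
  have hJ : (⟨J, hJm⟩ : ↥(Cfsg.qd p)) ^ 4 = 1 := by
    apply Subtype.ext
    apply Subtype.ext
    change (J ^ 4).1 = _
    rw [Matrix.SpecialLinearGroup.coe_pow]
    change (!![a, b, 0; b, -a, 0; 0, 0, 1] : Matrix (Fin 3) (Fin 3) (ZMod p)) ^ 4 = 1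
    have h2 : (!![a, b, 0; b, -a, 0; 0, 0, 1] : Matrix (Fin 3) (Fin 3) (ZMod p)) ^ 2 =
        !![-1, 0, 0; 0, -1, 0; 0, 0, 1] := by
      ext i j
      fin_cases i <;> fin_cases j <;>
        simp [pow_succ, Matrix.mul_apply, Fin.sum_univ_three] <;>
        first | (linear_combination hab) | ring1
    calc (!![a, b, 0; b, -a, 0; 0, 0, 1] : Matrix (Fin 3) (Fin 3) (ZMod p)) ^ 4
        = ((!![a, b, 0; b, -a, 0; 0, 0, 1] : Matrix (Fin 3) (Fin 3) (ZMod p)) ^ 2) ^ 2 := by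
          rw [← pow_mul]
      _ = 1 := by
          rw [h2]
          ext i j
          fin_cases i <;> fin_cases j <;> simp [pow_succ, Matrix.mul_apply, Fin.sum_univ_three]
  have hIJ : (⟨J, hJm⟩ : ↥(Cfsg.qd p)) * ⟨I, hIm⟩ * (⟨J, hJm⟩)⁻¹ = (⟨I, hIm⟩)⁻¹ := by
    rw [mul_inv_eq_iff_eq_mul, eq_inv_mul_iff_mul_eq]
    apply Subtype.ext
    apply Subtype.ext
    change (I * (J * I)).1 = J.1
    simp only [Matrix.SpecialLinearGroup.coe_mul]
    change (!![0, 1, 0; -1, 0, 0; 0, 0, 1] : Matrix (Fin 3) (Fin 3) (ZMod p)) *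
      (!![a, b, 0; b, -a, 0; 0, 0, 1] * !![0, 1, 0; -1, 0, 0; 0, 0, 1]) =
      !![a, b, 0; b, -a, 0; 0, 0, 1]
    ext i j
    fin_cases i <;> fin_cases j <;> simp [Matrix.mul_apply, Fin.sum_univ_three]
  have h1 := h.comm_of _ _ hI hJ hIJ
  have h2 := congrArg Subtype.val (congrArg Subtype.val h1)
  change (I * J).1 = (J * I).1 at h2
  simp only [Matrix.SpecialLinearGroup.coe_mul] at h2
  change (!![0, 1, 0; -1, 0, 0; 0, 0, 1] : Matrix (Fin 3) (Fin 3) (ZMod p)) *
      !![a, b, 0; b, -a, 0; 0, 0, 1] =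
    !![a, b, 0; b, -a, 0; 0, 0, 1] * !![0, 1, 0; -1, 0, 0; 0, 0, 1] at h2
  have h3 := congrFun (congrFun h2 0) 0
  have h4 := congrFun (congrFun h2 0) 1
  simp [Matrix.mul_apply, Fin.sum_univ_three] at h3 h4
  have h5 : (2 : ZMod p) ≠ 0 := two_ne_zero' hp
  have hb : b = 0 := by
    have : 2 * b = 0 := by linear_combination h3
    exact (mul_eq_zero.1 this).resolve_left h5
  have ha : a = 0 := by
    have : 2 * a = 0 := by linear_combination -h4
    exact (mul_eq_zero.1 this).resolve_left h5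
  rw [ha, hb] at hab
  have : (1 : ZMod p) = 0 := by linear_combination hab
  exact one_ne_zero this

/-- W4.4, `Involves` form -/
theorem not_involves_qd {G : Type*} [Group G] [Finite G] (hG : AbTwo G) {p : ℕ} [Fact p.Prime]
    (hp : p ≠ 2) : ¬ Involves G ↥(Cfsg.qd p) := fun h => not_abTwo_qd hp (hG.of_involves h)

theorem not_involves_sl {G : Type*} [Group G] [Finite G] (hG : AbTwo G) {p : ℕ} [Fact p.Prime]
    (hp : p ≠ 2) : ¬ Involves G (Matrix.SpecialLinearGroup (Fin 2) (ZMod p)) :=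
  fun h => not_abTwo_sl hp (hG.of_involves h)

/-- W4.4, the form of the hypothesis of `S0664` -/
theorem not_exists_qd {G : Type*} [Group G] [Finite G] (hG : AbTwo G) {p : ℕ} [Fact p.Prime]
    (hp : p ≠ 2) : ¬ ∃ (K R : Subgroup G) (_ : (R.subgroupOf K).Normal),
      Nonempty ((K ⧸ R.subgroupOf K) ≃* ↥(Cfsg.qd p)) :=
  fun h => not_involves_qd hG hp (involves_iff.2 h)

/-- W4.4, the form of the hypothesis of `S0118`, `S0653` -/
theorem not_exists_sl {G : Type*} [Group G] [Finite G] (hG : AbTwo G) {p : ℕ} [Fact p.Prime]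
    (hp : p ≠ 2) : ¬ ∃ (H K : Subgroup G) (_ : (K.subgroupOf H).Normal),
      Nonempty ((H ⧸ K.subgroupOf H) ≃* Matrix.SpecialLinearGroup (Fin 2) (ZMod p)) :=
  fun h => not_involves_sl hG hp (involves_iff.2 h)

/-- the statement `¬ PLocal.StableOfNotInvolves.Inv G (SL 2 p)`, unfolded -/
theorem not_inv_sl_two {G : Type*} [Group G] [Finite G]
    (hab : ∀ T : Sylow 2 G, IsMulCommutative (T : Subgroup G)) {p : ℕ} [Fact p.Prime]
    (hp : p ≠ 2) : ¬ ∃ (K : Subgroup G) (f : K →* Matrix.SpecialLinearGroup (Fin 2) (ZMod p)),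
      Function.Surjective f := by
  obtain ⟨T⟩ : Nonempty (Sylow 2 G) := inferInstance
  exact not_involves_sl (abTwo_of_isMulCommutative T (hab T)) hp

theorem abTwo_iff {G : Type*} [Group G] [Finite G] :
    AbTwo G ↔ ∀ T : Sylow 2 G, IsMulCommutative (T : Subgroup G) := by
  constructor
  · intro h T
    exact ⟨⟨fun a b => Subtype.ext (h T T.2 a a.2 b b.2)⟩⟩
  · intro h
    obtain ⟨T⟩ : Nonempty (Sylow 2 G) := inferInstance
    exact abTwo_of_isMulCommutative T (h T)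

theorem AbTwo.subgroup {G : Type*} [Group G] [Finite G] (hG : AbTwo G) (H : Subgroup G) : AbTwo H :=
  hG.of_involves (of_injective H.subtype H.subtype_injective)

theorem AbTwo.quotient {G : Type*} [Group G] [Finite G] (hG : AbTwo G) (N : Subgroup G) [N.Normal] :
    AbTwo (G ⧸ N) :=
  hG.of_involves (of_surjective (QuotientGroup.mk' N) (QuotientGroup.mk'_surjective N))

end Cfsg.Agent.Walter.QdAbelian
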