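import Cfsg.Agent.Lib.Cores
import Cfsg.Agent.SignalizersComponents.RelSylow
import Cfsg.Prelude.Def_Local
import Cfsg.Prelude.Def_Involutions
import Cfsg.Agent.S0058
import Mathlib
import Cfsg.Agent.SmallSimple.PSLTwoPart
import Cfsg.Agent.Classification.NGroupExclude
import Cfsg.Agent.S1141
import Cfsg.Prelude.Def_Exceptional
import Cfsg.Agent.TwoFusion.PSLTwoGood
import Cfsg.Agent.FastGrp
import Cfsg.Agent.Prune
set_option linter.all false

section
prune_inst 0x7f00000000000000000000000000000000000000000000000000000000000000000000000000000000000000000000000000000000000000000000000000000000000000000000000000000000000000003fffffffffffffffffffffffffffbeffbdffffffff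

-- part: Walter/Embed
section
set_option linter.all false
open scoped Cfsg.Agent.FastGrp

-- part: Walter/LocalBal
section
/-!
# Local lemmas: 2-subgroups central modulo the core

`H` is a finite group (in use the centraliser of an involution), `S` a Sylow 2-subgroup and
`T ≤ S` a subgroup which centralises all conjugates of `S` modulo `O(H)`.
-/

set_option autoImplicit false

namespace Cfsg.Agent.Walter.LocalBal

open Subgroup Cfsg
open scoped commutatorElement
open Cfsg.Agent.SignalizersComponents.RelSylow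

variable {H : Type*} [Group H] [Finite H]

omit [Finite H] in
theorem normalClosure_commutator (S : Sylow 2 H) (T : Subgroup H)
    (hZ : ∀ h : H, ∀ x ∈ (S : Subgroup H), ∀ t ∈ T, ⁅h * x * h⁻¹, t⁆ ∈ pPrimeCore 2 H)
    {k t : H} (hk : k ∈ normalClosure ((S : Subgroup H) : Set H)) (ht : t ∈ T) :
    ⁅k, t⁆ ∈ pPrimeCore 2 H := by
  have h1 : normalClosure ((S : Subgroup H) : Set H) ≤
      (centralizer ((T.map (QuotientGroup.mk' (pPrimeCore 2 H)) :
        Subgroup (H ⧸ pPrimeCore 2 H)) : Set (H ⧸ pPrimeCore 2 H))).comap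
          (QuotientGroup.mk' (pPrimeCore 2 H)) := by
    rw [normalClosure, closure_le]
    intro y hy
    rw [Group.mem_conjugatesOfSet_iff] at hy
    obtain ⟨x, hx, hxy⟩ := hy
    obtain ⟨h, rfl⟩ := isConj_iff.1 hxy
    rw [SetLike.mem_coe, mem_comap, mem_centralizer_iff]
    rintro _ ⟨l, hl, rfl⟩
    have h1 := hZ h x hx l hl
    rw [← QuotientGroup.eq_one_iff, ← QuotientGroup.mk'_apply, map_commutatorElement,
      commutatorElement_eq_one_iff_mul_comm] at h1
    exact h1.symm
  have h2 := h1 hk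
  rw [mem_comap, mem_centralizer_iff] at h2
  have h3 := h2 _ ⟨t, ht, rfl⟩
  rw [← QuotientGroup.eq_one_iff, ← QuotientGroup.mk'_apply, map_commutatorElement,
    commutatorElement_eq_one_iff_mul_comm]
  exact h3.symm

/-- If `k` centralises the 2-group `T` modulo `O(H)` then `k ∈ O(H) N(T)`. -/
theorem exists_mul_mem_normalizer {T : Subgroup H} (hT : IsPGroup 2 T) {k : H}
    (hk : ∀ t ∈ T, ⁅k, t⁆ ∈ pPrimeCore 2 H) :
    ∃ o ∈ pPrimeCore 2 H, o * k ∈ normalizer (T : Set H) := by
  have hmax : IsMaxP 2 (pPrimeCore 2 H ⊔ T) T := by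
    refine isMaxP_of_not_dvd hT le_sup_right ?_
    have h1 := Lib.Cores.card_sup_dvd (pPrimeCore 2 H) T inferInstance
    rw [← relIndex_bot_left, ← relIndex_mul_relIndex ⊥ T (pPrimeCore 2 H ⊔ T) bot_le le_sup_right,
      relIndex_bot_left, mul_comm] at h1
    have h2 : 0 < Nat.card T := Nat.card_pos
    have h3 : T.relIndex (pPrimeCore 2 H ⊔ T) ∣ Nat.card (pPrimeCore 2 H) :=
      Nat.dvd_of_mul_dvd_mul_right h2 h1
    intro h4
    have h5 := (Lib.Cores.pPrimeCore_coprime (G := H) 2).coprime_dvd_left (h4.trans h3)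
    norm_num at h5
  have hle : T.map (MulAut.conj k).toMonoidHom ≤ pPrimeCore 2 H ⊔ T := by
    rintro _ ⟨t, ht, rfl⟩
    have h1 : k * t * k⁻¹ = ⁅k, t⁆ * t := by
      rw [commutatorElement_def]; group
    change k * t * k⁻¹ ∈ _
    rw [h1]
    exact mul_mem_sup (hk t ht) ht
  obtain ⟨c, hc, hcle⟩ := hmax.exists_conj_le (hT.map _) hle
  rw [mem_sup_of_normal_left] at hc
  obtain ⟨o, ho, t, ht, rfl⟩ := hc
  have hck : o * t * k ∈ normalizer (T : Set H) := by
    have h2 : T.map (MulAut.conj (o * t * k)).toMonoidHom ≤ T := by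
      rintro _ ⟨x, hx, rfl⟩
      have h3 := hcle ⟨k * x * k⁻¹, ⟨x, hx, rfl⟩, rfl⟩
      change o * t * (k * x * k⁻¹) * (o * t)⁻¹ ∈ T at h3
      change o * t * k * x * (o * t * k)⁻¹ ∈ T
      convert h3 using 1
      group
    have h3 : T.map (MulAut.conj (o * t * k)).toMonoidHom = T :=
      eq_of_le_of_card_ge h2 (by rw [card_map_conj])
    rwa [mem_normalizer_iff_map_conj_eq]
  refine ⟨t⁻¹ * o * t, ?_, ?_⟩
  · have := (Lib.Cores.pPrimeCore_normal (G := H) 2).conj_mem o ho t⁻¹
    simpa using this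
  · have h4 : t⁻¹ * o * t * k = t⁻¹ * (o * t * k) := by group
    rw [h4]
    exact mul_mem (inv_mem (le_normalizer ht)) hck

theorem exists_mul_mem_of_frattini (S : Sylow 2 H) {T : Subgroup H} (hT : IsPGroup 2 T)
    (hZ : ∀ h : H, ∀ x ∈ (S : Subgroup H), ∀ t ∈ T, ⁅h * x * h⁻¹, t⁆ ∈ pPrimeCore 2 H)
    (hN : normalizer ((S : Subgroup H) : Set H) ≤ normalizer (T : Set H)) (h : H) :
    ∃ o ∈ pPrimeCore 2 H, o * h ∈ normalizer (T : Set H) := by
  have h1 : normalizer ((S : Subgroup H) : Set H) ⊔ normalClosure ((S : Subgroup H) : Set H) = ⊤ :=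
    Sylow.normalizer_sup_eq_top' S subset_normalClosure
  have h2 : h ∈ normalClosure ((S : Subgroup H) : Set H) ⊔
      normalizer ((S : Subgroup H) : Set H) := by
    rw [sup_comm, h1]; trivial
  rw [mem_sup_of_normal_left] at h2
  obtain ⟨k, hk, n, hn, rfl⟩ := h2
  obtain ⟨o, ho, hok⟩ := exists_mul_mem_normalizer hT
    (fun t ht => normalClosure_commutator S T hZ hk ht)
  refine ⟨o, ho, ?_⟩
  rw [← mul_assoc]
  exact mul_mem hok (hN hn)

/-- A subgroup of odd order centralising all conjugates of a Sylow 2-subgroup lies in the core;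
here for groups with trivial core. -/
theorem eq_bot_of_centralizes (hO : pPrimeCore 2 H = ⊥) (S : Sylow 2 H)
    (X : Subgroup H) (hX : (Nat.card X).Coprime 2)
    (hXK : X ≤ centralizer (normalClosure ((S : Subgroup H) : Set H) : Set H)) : X = ⊥ := by
  have h2 : Fact (Nat.Prime 2) := ⟨Nat.prime_two⟩
  set K := normalClosure ((S : Subgroup H) : Set H) with hK
  set D : Subgroup H := centralizer (K : Set H) with hD
  have hDn : D.Normal := inferInstance
  -- a Sylow 2-subgroup of `D`
  let P : Sylow 2 D := Classical.arbitrary _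
  have hPK : (P : Subgroup D).map D.subtype ≤ K := by
    have h3 : IsPGroup 2 ((P : Subgroup D).map D.subtype) := P.isPGroup'.map _
    obtain ⟨Q, hQ⟩ := h3.exists_le_sylow
    obtain ⟨g, hg⟩ := MulAction.exists_smul_eq H S Q
    intro x hx
    have hxQ := hQ hx
    rw [← hg] at hxQ
    obtain ⟨s, hs, hsx⟩ := hxQ
    have : x = g * s * g⁻¹ := hsx.symm
    rw [this]
    exact normalClosure_normal.conj_mem s (subset_normalClosure hs) g
  have hP : normalizer ((P : Subgroup D) : Set D) ≤ centralizer ((P : Subgroup D) : Set D) := by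
    intro x _
    rw [mem_centralizer_iff]
    intro y hy
    apply Subtype.ext
    have h4 : (y : H) ∈ K := hPK ⟨y, hy, rfl⟩
    exact mem_centralizer_iff.1 x.2 _ h4
  have hcomp := MonoidHom.ker_transferSylow_isComplement' P hP
  set N := (MonoidHom.transferSylow P hP).ker with hN
  have hNc : (Nat.card N).Coprime 2 := by
    rw [Nat.coprime_comm, Nat.Prime.coprime_iff_not_dvd Nat.prime_two]
    intro h7
    have h8 : (P : Subgroup D).index = Nat.card N := hcomp.index_eq_card
    exact P.not_dvd_index (h8 ▸ h7)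
  -- the core of `D` is trivial
  have hOD : pPrimeCore 2 D = ⊥ := by
    have h9 := Lib.Cores.map_subtype_pPrimeCore (G := H) 2 hDn
    rw [hO, inf_bot_eq] at h9
    exact (Subgroup.map_eq_bot_iff_of_injective _ D.subtype_injective).1 h9
  have hNbot : N = ⊥ := by
    have h10 := Lib.Cores.le_pPrimeCore (G := D) (N := N) (MonoidHom.normal_ker _) hNc
    rwa [hOD, le_bot_iff] at h10
  have hDP : IsPGroup 2 D := by
    have h11 : (P : Subgroup D) = ⊤ := by
      rw [hNbot] at hcomp
      exact isComplement'_bot_left.1 hcomp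
    have := P.isPGroup'
    rw [h11] at this
    exact this.of_equiv topEquiv
  have hXp : IsPGroup 2 X := hDP.of_injective (inclusion hXK) (inclusion_injective hXK)
  obtain ⟨n, hn⟩ := IsPGroup.iff_card.1 hXp
  rw [hn] at hX
  have : n = 0 := by
    by_contra h0
    exact absurd hX (by
      rw [Nat.coprime_comm, Nat.Prime.coprime_iff_not_dvd Nat.prime_two, not_not]
      exact dvd_pow_self 2 h0)
  rw [this, pow_zero] at hn
  exact card_eq_one.1 hn

/-- **Balance.** -/
theorem le_core (S : Sylow 2 H) {a : H} (ha : orderOf a = 2)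
    (hZ : ∀ h : H, ∀ x ∈ (S : Subgroup H), ⁅h * x * h⁻¹, a⁆ ∈ pPrimeCore 2 H)
    (X : Subgroup H) (hX : (Nat.card X).Coprime 2)
    (hXn : ∀ c : H, c * a = a * c → ∀ x ∈ X, c * x * c⁻¹ ∈ X) : X ≤ pPrimeCore 2 H := by
  have h2 : Fact (Nat.Prime 2) := ⟨Nat.prime_two⟩
  set O := pPrimeCore 2 H with hOdef
  set π := QuotientGroup.mk' O with hπ
  have hπs : Function.Surjective π := QuotientGroup.mk'_surjective O
  have hZ' : ∀ h : H, ∀ x ∈ (S : Subgroup H), ∀ t ∈ zpowers a, ⁅h * x * h⁻¹, t⁆ ∈ O := by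
    intro h x hx t ht
    have h3 : t = 1 ∨ t = a := by
      obtain ⟨n, rfl⟩ := mem_zpowers_iff.1 ht
      have h4 : a ^ 2 = 1 := by rw [← ha]; exact pow_orderOf_eq_one a
      rcases Int.even_or_odd' n with ⟨m, hm | hm⟩
      · left
        rw [hm, zpow_mul, zpow_ofNat, h4, one_zpow]
      · right
        rw [hm, zpow_add, zpow_mul, zpow_ofNat, h4, one_zpow, one_mul, zpow_one]
    rcases h3 with rfl | rfl
    · rw [commutatorElement_one_right]; exact one_mem _
    · exact hZ h x hx
  set K := normalClosure ((S : Subgroup H) : Set H) with hK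
  have ha2 : IsPGroup 2 (zpowers a) := by
    refine IsPGroup.of_card (n := 1) ?_
    rw [Nat.card_zpowers, ha, pow_one]
  -- elements of `K` lift to elements commuting with `a`
  have hlift : ∀ k ∈ K, ∃ o ∈ O, (o * k) * a = a * (o * k) := by
    intro k hk
    obtain ⟨o, ho, hok⟩ := exists_mul_mem_normalizer ha2
      (fun t ht => normalClosure_commutator S (zpowers a) hZ' hk ht)
    refine ⟨o, ho, ?_⟩
    have h5 := (mem_normalizer_iff.1 hok a).1 (mem_zpowers a)
    have h6 : o * k * a * (o * k)⁻¹ = 1 ∨ o * k * a * (o * k)⁻¹ = a := by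
      obtain ⟨n, hn⟩ := mem_zpowers_iff.1 h5
      have h4 : a ^ 2 = 1 := by rw [← ha]; exact pow_orderOf_eq_one a
      rw [← hn]
      rcases Int.even_or_odd' n with ⟨m, hm | hm⟩
      · left
        rw [hm, zpow_mul, zpow_ofNat, h4, one_zpow]
      · right
        rw [hm, zpow_add, zpow_mul, zpow_ofNat, h4, one_zpow, one_mul, zpow_one]
    rcases h6 with h6 | h6
    · exfalso
      rw [conj_eq_one_iff] at h6
      rw [h6, orderOf_one] at ha
      omega
    · rwa [mul_inv_eq_iff_eq_mul] at h6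
  -- the images
  set XQ := X.map π with hXQ
  set KQ := K.map π with hKQ
  have hKn : K.Normal := normalClosure_normal
  have hKQn : KQ.Normal := hKn.map π hπs
  have hQO : pPrimeCore 2 (H ⧸ O) = ⊥ := Lib.Cores.pPrimeCore_quotient_pPrimeCore 2
  have hXQc : (Nat.card XQ).Coprime 2 := hX.coprime_dvd_left (card_map_dvd _ _)
  have hKX : ∀ k ∈ KQ, ∀ x ∈ XQ, k * x * k⁻¹ ∈ XQ := by
    rintro _ ⟨k, hk, rfl⟩ _ ⟨x, hx, rfl⟩
    obtain ⟨o, ho, hok⟩ := hlift k hk
    have h7 : π k = π (o * k) := by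
      rw [map_mul, (QuotientGroup.eq_one_iff o).2 ho |> fun h => (show π o = 1 from h), one_mul]
    rw [h7, ← map_mul, ← map_inv, ← map_mul]
    exact ⟨_, hXn (o * k) hok x hx, rfl⟩
  have hinf : XQ ⊓ KQ = ⊥ := by
    have h8 : ((XQ ⊓ KQ).subgroupOf KQ).Normal := by
      refine ⟨fun x hx k => ?_⟩
      rw [mem_subgroupOf] at hx ⊢
      exact ⟨hKX k k.2 x hx.1, KQ.mul_mem (KQ.mul_mem k.2 hx.2) (KQ.inv_mem k.2)⟩
    have h9 : (Nat.card ((XQ ⊓ KQ).subgroupOf KQ)).Coprime 2 := by
      rw [Nat.card_congr (subgroupOfEquivOfLe inf_le_right).toEquiv]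
      exact hXQc.coprime_dvd_left (card_dvd_of_le inf_le_left)
    have h10 := Lib.Cores.le_pPrimeCore h8 h9
    have h11 := Lib.Cores.map_subtype_pPrimeCore (G := H ⧸ O) 2 hKQn
    rw [hQO, inf_bot_eq] at h11
    have h12 : pPrimeCore 2 KQ = ⊥ :=
      (Subgroup.map_eq_bot_iff_of_injective _ KQ.subtype_injective).1 h11
    rw [h12, le_bot_iff, subgroupOf_eq_bot, disjoint_iff, inf_assoc, inf_idem] at h10
    exact h10
  have hcent : XQ ≤ centralizer (KQ : Set (H ⧸ O)) := by
    intro x hx
    rw [mem_centralizer_iff]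
    intro k hk
    have h13 : k * x * k⁻¹ * x⁻¹ ∈ XQ ⊓ KQ := by
      refine ⟨XQ.mul_mem (hKX k hk x hx) (XQ.inv_mem hx), ?_⟩
      have h14 : k * x * k⁻¹ * x⁻¹ = k * (x * k⁻¹ * x⁻¹) := by group
      rw [h14]
      exact KQ.mul_mem hk (hKQn.conj_mem _ (KQ.inv_mem hk) x)
    rw [hinf, mem_bot] at h13
    rw [mul_inv_eq_one, mul_inv_eq_iff_eq_mul] at h13
    exact h13
  -- the Sylow subgroup of the quotient
  let SQ : Sylow 2 (H ⧸ O) := S.mapSurjective hπs
  have hSQ : normalClosure ((SQ : Subgroup (H ⧸ O)) : Set (H ⧸ O)) = KQ := by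
    rw [hKQ, hK, Subgroup.map_normalClosure _ _ hπs, Sylow.coe_mapSurjective, coe_map]
  have hbot : XQ = ⊥ := eq_bot_of_centralizes hQO SQ XQ hXQc (by rw [hSQ]; exact hcent)
  rw [hXQ, Subgroup.map_eq_bot_iff, QuotientGroup.ker_mk'] at hbot
  exact hbot

end Cfsg.Agent.Walter.LocalBal
end

-- part: Walter/Embed
section
/-!
# Strongly embedded subgroups from 2-subgroups which are central modulo the cores

`G` is a finite group with abelian Sylow 2-subgroup `S`, and `T ≤ Ω₁(S)` is normalised by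
`N_G(S)`, has order at least 8 and centralises `O^{2'}(C_G(s))` modulo `O(C_G(s))` for every
involution `s ∈ S`. Then `G` has a strongly embedded subgroup (if it is simple).
-/

set_option autoImplicit false

namespace Cfsg.Agent.Walter.Embed

open Subgroup Cfsg
open scoped commutatorElement
open Cfsg.Agent.SignalizersComponents.RelSylow

variable {G : Type*} [Group G]

/-- the join of the `O(C_G(a))`, `a ∈ T`, `a ≠ 1` -/
def W (T : Subgroup G) : Subgroup G :=
  ⨆ a : {a : G // a ∈ T ∧ a ≠ 1}, centralizerPPrimeCore 2 (a : G)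

theorem le_W (T : Subgroup G) {a : G} (ha : a ∈ T) (ha1 : a ≠ 1) :
    centralizerPPrimeCore 2 a ≤ W T :=
  le_iSup (fun a : {a : G // a ∈ T ∧ a ≠ 1} => centralizerPPrimeCore 2 (a : G)) ⟨a, ha, ha1⟩

theorem core_le (a : G) : centralizerPPrimeCore 2 a ≤ centralizer ({a} : Set G) :=
  map_subtype_le _

theorem conj_mem_core {a c x : G} (hc : c ∈ centralizer ({a} : Set G))
    (hx : x ∈ centralizerPPrimeCore 2 a) : c * x * c⁻¹ ∈ centralizerPPrimeCore 2 a := by
  obtain ⟨y, hy, rfl⟩ := hx
  exact ⟨(⟨c, hc⟩ * y * ⟨c, hc⟩⁻¹ :),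
    (Lib.Cores.pPrimeCore_normal (G := ↥(centralizer ({a} : Set G))) 2).conj_mem y hy _, rfl⟩

theorem mem_core_iff {a : G} (x : centralizer ({a} : Set G)) :
    (x : G) ∈ centralizerPPrimeCore 2 a ↔ x ∈ pPrimeCore 2 ↥(centralizer ({a} : Set G)) := by
  constructor
  · rintro ⟨y, hy, hyx⟩
    have : y = x := Subtype.ext hyx
    rwa [← this]
  · intro h
    exact ⟨x, h, rfl⟩

theorem core_conj_le (a g : G) : (centralizerPPrimeCore 2 a).map (MulAut.conj g).toMonoidHom ≤
    centralizerPPrimeCore 2 (g * a * g⁻¹) := by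
  have hmem : ∀ x, x ∈ centralizer ({a} : Set G) ↔
      g * x * g⁻¹ ∈ centralizer ({g * a * g⁻¹} : Set G) := by
    intro x
    rw [mem_centralizer_singleton_iff, mem_centralizer_singleton_iff]
    constructor
    · intro h
      calc g * x * g⁻¹ * (g * a * g⁻¹) = g * (x * a) * g⁻¹ := by group
        _ = g * (a * x) * g⁻¹ := by rw [h]
        _ = _ := by group
    · intro h
      have h1 : g * (x * a) * g⁻¹ = g * (a * x) * g⁻¹ := by
        calc g * (x * a) * g⁻¹ = g * x * g⁻¹ * (g * a * g⁻¹) := by group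
          _ = g * a * g⁻¹ * (g * x * g⁻¹) := h
          _ = _ := by group
      simpa using h1
  have heq : (centralizer ({a} : Set G)).map (MulAut.conj g).toMonoidHom =
      centralizer ({g * a * g⁻¹} : Set G) := by
    ext y
    constructor
    · rintro ⟨x, hx, rfl⟩
      exact (hmem x).1 hx
    · intro hy
      refine ⟨g⁻¹ * y * g, (hmem _).2 ?_, ?_⟩
      · have : g * (g⁻¹ * y * g) * g⁻¹ = y := by group
        rwa [this]
      · change g * (g⁻¹ * y * g) * g⁻¹ = y
        group
  let e : ↥(centralizer ({a} : Set G)) ≃* ↥(centralizer ({g * a * g⁻¹} : Set G)) :=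
    ((centralizer ({a} : Set G)).equivMapOfInjective (MulAut.conj g).toMonoidHom
      (MulAut.conj g).injective).trans (MulEquiv.subgroupCongr heq)
  rintro _ ⟨_, ⟨y, hy, rfl⟩, rfl⟩
  have h1 := Lib.Cores.map_equiv_pPrimeCore e 2
  have h2 : e y ∈ pPrimeCore 2 ↥(centralizer ({g * a * g⁻¹} : Set G)) := by
    rw [← h1]; exact ⟨y, hy, rfl⟩
  exact ⟨e y, h2, rfl⟩

theorem normalizer_le_normalizer_W [Finite G] (T : Subgroup G) :
    normalizer (T : Set G) ≤ normalizer (W T : Set G) := by
  have key : ∀ g ∈ normalizer (T : Set G), (W T).map (MulAut.conj g).toMonoidHom ≤ W T := by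
    intro g hg
    rw [W, Subgroup.map_iSup]
    refine iSup_le ?_
    rintro ⟨a, ha, ha1⟩
    refine (core_conj_le a g).trans (le_W T ((mem_normalizer_iff.1 hg a).1 ha) ?_)
    rwa [Ne, conj_eq_one_iff]
  intro g hg
  rw [mem_normalizer_iff_map_conj_eq]
  exact eq_of_le_of_card_ge (key g hg) (card_map_conj (W T) g).ge

/-- Criterion for strong embedding, abelian Sylow 2-subgroup. -/
theorem isStronglyEmbedded_of_le [Finite G] (S : Sylow 2 G)
    (hS : ∀ x ∈ (S : Subgroup G), ∀ y ∈ (S : Subgroup G), x * y = y * x) {M : Subgroup G}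
    (hM : M ≠ ⊤) (heven : Even (Nat.card G))
    (hN : normalizer ((S : Subgroup G) : Set G) ≤ M)
    (hC : ∀ s ∈ (S : Subgroup G), orderOf s = 2 → centralizer ({s} : Set G) ≤ M) :
    IsStronglyEmbedded M := by
  have h2 : Fact (Nat.Prime 2) := ⟨Nat.prime_two⟩
  have hSM : (S : Subgroup G) ≤ M := le_normalizer.trans hN
  have hcomm : IsMulCommutative (S : Subgroup G) :=
    ⟨⟨fun a b => Subtype.ext (hS a a.2 b b.2)⟩⟩
  have hmax : IsMaxP 2 M (S : Subgroup G) := by
    refine isMaxP_of_not_dvd S.isPGroup' hSM ?_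
    intro h
    exact S.not_dvd_index (h.trans (relIndex_dvd_index_of_le hSM |> fun h' => h'))
  have horder : ∀ s g : G, orderOf s = 2 → orderOf (g * s * g⁻¹) = 2 := by
    intro s g hs
    rw [← hs]
    exact orderOf_injective (MulAut.conj g).toMonoidHom (MulAut.conj g).injective s
  -- conjugating involutions of `M` into `S`
  have hconj : ∀ u ∈ M, orderOf u = 2 → ∃ m ∈ M, m * u * m⁻¹ ∈ (S : Subgroup G) := by
    intro u hu hu2
    have hp : IsPGroup 2 (zpowers u) := by
      refine IsPGroup.of_card (n := 1) ?_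
      rw [Nat.card_zpowers, hu2, pow_one]
    obtain ⟨m, hm, hle⟩ := hmax.exists_conj_le hp (by rwa [zpowers_le])
    exact ⟨m, hm, hle ⟨u, mem_zpowers u, rfl⟩⟩
  refine ⟨hM, ?_, ?_⟩
  · rw [even_iff_two_dvd] at heven ⊢
    exact (S.dvd_card_of_dvd_card heven).trans (card_dvd_of_le hSM)
  · intro g hg
    by_contra hodd
    rw [Nat.not_odd_iff_even, even_iff_two_dvd] at hodd
    obtain ⟨w, hw⟩ := exists_prime_orderOf_dvd_card' 2 hodd
    obtain ⟨u, hwu⟩ : ∃ u : G, u = w := ⟨_, rfl⟩
    have hu : orderOf u = 2 := by rw [hwu, Subgroup.orderOf_coe, hw]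
    have huM : u ∈ M := by rw [hwu]; exact w.2.1
    obtain ⟨v, hvM, hvu⟩ : ∃ v ∈ M, g * v * g⁻¹ = u := by
      obtain ⟨v, hvM, hvu⟩ := w.2.2
      exact ⟨v, hvM, hvu.trans hwu.symm⟩
    have hvu' : g * v * g⁻¹ = u := hvu
    have hv2 : orderOf v = 2 := by
      have := horder u g⁻¹ hu
      rw [← hvu'] at this
      rw [← this]
      congr 1
      group
    obtain ⟨m, hm, hmS⟩ := hconj u huM hu
    obtain ⟨m', hm', hmS'⟩ := hconj v hvM hv2
    -- `m' v m'⁻¹` and `m u m⁻¹` are conjugate by `y = m g m'⁻¹`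
    set s := m' * v * m'⁻¹ with hs
    have hs2 : orderOf s = 2 := horder v m' hv2
    set y := m * g * m'⁻¹ with hy
    have hys : y * s * y⁻¹ = m * u * m⁻¹ := by
      rw [hy, hs, ← hvu']; group
    obtain ⟨n, hn, hns⟩ := S.conj_eq_normalizer_conj_of_mem s y⁻¹ hmS' (by
      rw [inv_inv, hys]; exact hmS)
    rw [inv_inv] at hns
    have hc : n * y ∈ centralizer ({s} : Set G) := by
      rw [mem_centralizer_singleton_iff]
      have h3 : n * (y * s * y⁻¹) * n⁻¹ = s := by rw [hns]; group
      calc n * y * s = n * (y * s * y⁻¹) * n⁻¹ * (n * y) := by group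
        _ = s * (n * y) := by rw [h3]
    have h4 := hC s hmS' hs2 hc
    have h5 : y ∈ M := (M.mul_mem_cancel_left (hN hn)).1 h4
    apply hg
    have h6 : g = m⁻¹ * y * m' := by rw [hy]; group
    rw [h6]
    exact M.mul_mem (M.mul_mem (M.inv_mem hm) h5) hm'

/-- `T` centralises, modulo `O(C_G(s))`, all `C_G(s)`-conjugates of `S`. -/
def CentralMod (S : Sylow 2 G) (T : Subgroup G) : Prop :=
  ∀ s ∈ (S : Subgroup G), orderOf s = 2 → ∀ c ∈ centralizer ({s} : Set G),
    ∀ x ∈ (S : Subgroup G), ∀ t ∈ T, ⁅c * x * c⁻¹, t⁆ ∈ centralizerPPrimeCore 2 s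

section

variable [Finite G] {S : Sylow 2 G}
  (hS : ∀ x ∈ (S : Subgroup G), ∀ y ∈ (S : Subgroup G), x * y = y * x) {T : Subgroup G}
  (hTS : T ≤ (S : Subgroup G)) (hZ : CentralMod S T)

omit [Finite G] in
include hS in
theorem sylow_le_centralizer {s : G} (hs : s ∈ (S : Subgroup G)) :
    (S : Subgroup G) ≤ centralizer ({s} : Set G) := fun x hx =>
  mem_centralizer_singleton_iff.2 (hS x hx s hs)

include hS hTS hZ

theorem exists_mul_mem (hN : normalizer ((S : Subgroup G) : Set G) ≤ normalizer (T : Set G))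
    {s c : G} (hs : s ∈ (S : Subgroup G)) (hs2 : orderOf s = 2)
    (hc : c ∈ centralizer ({s} : Set G)) :
    ∃ o ∈ centralizerPPrimeCore 2 s, o * c ∈ normalizer (T : Set G) := by
  have hle := sylow_le_centralizer hS hs
  have hTle : T ≤ centralizer ({s} : Set G) := hTS.trans hle
  set H := centralizer ({s} : Set G) with hH
  have hTp : IsPGroup 2 (T.subgroupOf H) := by
    have h1 : IsPGroup 2 T := S.isPGroup'.to_le hTS
    exact h1.comap_of_injective _ (subtype_injective _)
  obtain ⟨o, ho, hoc⟩ := LocalBal.exists_mul_mem_of_frattini (H := ↥H) (S.subtype hle)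
    (T := T.subgroupOf H) hTp (by
      intro h x hx t ht
      have h1 := hZ s hs hs2 h h.2 x hx t ht
      exact (mem_core_iff ⁅h * x * h⁻¹, t⁆).1 h1) (by
      intro n hn
      have h1 : (n : G) ∈ normalizer ((S : Subgroup G) : Set G) := by
        rw [mem_normalizer_iff] at hn ⊢
        intro x
        constructor
        · intro hx
          have := (hn ⟨x, hle hx⟩).1 hx
          exact this
        · intro hx
          have hxH : x ∈ H := by
            have h2 := H.mul_mem (H.mul_mem (H.inv_mem n.2) (hle hx)) n.2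
            have h3 : (n : G)⁻¹ * (n * x * (n : G)⁻¹) * n = x := by group
            rwa [h3] at h2
          exact (hn ⟨x, hxH⟩).2 hx
      have h2 := hN h1
      rw [mem_normalizer_iff] at h2 ⊢
      intro x
      exact h2 x) ⟨c, hc⟩
  refine ⟨o, (mem_core_iff o).2 ho, ?_⟩
  rw [mem_normalizer_iff] at hoc ⊢
  intro x
  constructor
  · intro hx
    exact (hoc ⟨x, hTle hx⟩).1 hx
  · intro hx
    have hxH : x ∈ H := by
      have hmem : ((o : G) * c) ∈ H := H.mul_mem o.2 hc
      have h2 := H.mul_mem (H.mul_mem (H.inv_mem hmem) (hTle hx)) hmem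
      have h3 : ((o : G) * c)⁻¹ * (o * c * x * ((o : G) * c)⁻¹) * (o * c) = x := by group
      rwa [h3] at h2
    exact (hoc ⟨x, hxH⟩).2 hx

theorem balance (hT2 : ∀ t ∈ T, t * t = 1) {a b : G} (ha : a ∈ T) (ha1 : a ≠ 1) (hb : b ∈ T)
    (hb1 : b ≠ 1) :
    centralizerPPrimeCore 2 a ⊓ centralizer ({b} : Set G) ≤ centralizerPPrimeCore 2 b := by
  have hord : ∀ t ∈ T, t ≠ 1 → orderOf t = 2 := fun t ht ht1 =>
    orderOf_eq_prime (by rw [pow_two]; exact hT2 t ht) ht1
  have hle := sylow_le_centralizer hS (hTS hb)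
  set H := centralizer ({b} : Set G) with hH
  have haH : a ∈ H := hle (hTS ha)
  have hb2 := hord b hb hb1
  have h1 : (centralizerPPrimeCore 2 a ⊓ H).subgroupOf H ≤ pPrimeCore 2 ↥H := by
    refine LocalBal.le_core (H := ↥H) (S.subtype hle) (a := ⟨a, haH⟩) ?_ ?_ _ ?_ ?_
    · rw [← Subgroup.orderOf_coe]; exact hord a ha ha1
    · intro h x hx
      have h1 := hZ b (hTS hb) hb2 h h.2 x hx a ha
      exact (mem_core_iff ⁅h * x * h⁻¹, (⟨a, haH⟩ : ↥H)⁆).1 h1
    · rw [Nat.card_congr (subgroupOfEquivOfLe inf_le_right).toEquiv]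
      have h3 : (Nat.card ↥(centralizerPPrimeCore 2 a)).Coprime 2 := by
        rw [centralizerPPrimeCore, card_map_of_injective (subtype_injective _)]
        exact Lib.Cores.pPrimeCore_coprime 2
      exact h3.coprime_dvd_left (card_dvd_of_le inf_le_left)
    · intro c hc x hx
      rw [mem_subgroupOf] at hx ⊢
      refine ⟨conj_mem_core ?_ hx.1, H.mul_mem (H.mul_mem c.2 x.2) (H.inv_mem c.2)⟩
      rw [mem_centralizer_singleton_iff]
      exact congrArg Subtype.val hc
  intro x hx
  have h2 := @h1 ⟨x, hx.2⟩ (by rw [mem_subgroupOf]; exact hx)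
  exact (mem_core_iff _).2 h2

/-- A subgroup containing `N(T)` and the cores `O(C(a))`, `a ∈ T`, contains the centralisers of
all involutions of `S`. -/
theorem centralizer_le (hT2 : ∀ t ∈ T, t * t = 1) (hT4 : 4 ≤ Nat.card T)
    (hN : normalizer ((S : Subgroup G) : Set G) ≤ normalizer (T : Set G)) {M : Subgroup G}
    (hNM : normalizer (T : Set G) ≤ M)
    (hcore : ∀ a ∈ T, a ≠ 1 → centralizerPPrimeCore 2 a ≤ M) {s : G}
    (hs : s ∈ (S : Subgroup G)) (hs2 : orderOf s = 2) : centralizer ({s} : Set G) ≤ M := by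
  have hord : ∀ t ∈ T, t ≠ 1 → orderOf t = 2 := fun t ht ht1 =>
    orderOf_eq_prime (by rw [pow_two]; exact hT2 t ht) ht1
  have h1 : ∀ a ∈ T, a ≠ 1 → centralizer ({a} : Set G) ≤ M := by
    intro a ha ha1 c hc
    obtain ⟨o, ho, hoc⟩ := exists_mul_mem hS hTS hZ hN (hTS ha) (hord a ha ha1) hc
    exact (M.mul_mem_cancel_left (hcore a ha ha1 ho)).1 (hNM hoc)
  have hTc : IsMulCommutative T :=
    ⟨⟨fun a b => Subtype.ext (hS a (hTS a.2) b (hTS b.2))⟩⟩
  have hncyc : ¬ IsCyclic T := by
    intro hcyc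
    obtain ⟨g, hg⟩ := hcyc.exists_generator
    have h3 : orderOf g = Nat.card T := orderOf_eq_card_of_forall_mem_zpowers hg
    have h4 : orderOf g ∣ 2 := by
      apply orderOf_dvd_of_pow_eq_one
      apply Subtype.ext
      rw [pow_two]
      exact hT2 g g.2
    have h5 := Nat.le_of_dvd (by norm_num) h4
    omega
  have hTn : T ≤ normalizer (centralizerPPrimeCore 2 s : Set G) := by
    have h3 : ∀ t ∈ centralizer ({s} : Set G), ∀ x ∈ centralizerPPrimeCore 2 s,
        t * x * t⁻¹ ∈ centralizerPPrimeCore 2 s := fun t ht x hx => conj_mem_core ht hx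
    intro t ht
    have htc := sylow_le_centralizer hS hs (hTS ht)
    rw [mem_normalizer_iff]
    intro x
    refine ⟨h3 t htc x, fun hx => ?_⟩
    have h4 := h3 t⁻¹ (inv_mem htc) _ hx
    have h5 : t⁻¹ * (t * x * t⁻¹) * t⁻¹⁻¹ = x := by group
    rwa [h5] at h4
  have hcop : (Nat.card T).Coprime (Nat.card ↥(centralizerPPrimeCore 2 s)) := by
    obtain ⟨n, hn⟩ := IsPGroup.iff_card.1 (S.isPGroup'.to_le hTS)
    rw [hn]
    refine Nat.Coprime.pow_left n ?_
    rw [Nat.coprime_comm, centralizerPPrimeCore, card_map_of_injective (subtype_injective _)]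
    exact Lib.Cores.pPrimeCore_coprime 2
  have hcs : centralizerPPrimeCore 2 s ≤ M := by
    rw [← S0058.result T (centralizerPPrimeCore 2 s) hncyc hTn hcop]
    refine iSup₂_le ?_
    rintro a ⟨ha, ha1⟩
    exact inf_le_right.trans (h1 a ha ha1)
  intro c hc
  obtain ⟨o, ho, hoc⟩ := exists_mul_mem hS hTS hZ hN hs hs2 hc
  exact (M.mul_mem_cancel_left (hcs ho)).1 (hNM hoc)

/-- **Main lemma.** `hSF` is what the solvable signalizer functor theorem and the odd order theorem
give for the functor `a ↦ O(C_G(a))` on `T`. -/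
theorem exists_isStronglyEmbedded [IsSimpleGroup G] (hna : ∃ a b : G, a * b ≠ b * a)
    (hT2 : ∀ t ∈ T, t * t = 1) (hT8 : 8 ≤ Nat.card T)
    (hN : normalizer ((S : Subgroup G) : Set G) ≤ normalizer (T : Set G))
    (hSF : (∀ a ∈ T, a ≠ 1 → ∀ b ∈ T, b ≠ 1 →
      centralizerPPrimeCore 2 a ⊓ centralizer ({b} : Set G) ≤ centralizerPPrimeCore 2 b) →
      ¬ 2 ∣ Nat.card ↥(W T)) : ∃ M : Subgroup G, IsStronglyEmbedded M := by
  have hodd := hSF (fun a ha ha1 b hb hb1 => balance hS hTS hZ hT2 ha ha1 hb hb1)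
  have heven : Even (Nat.card G) := by
    have h1 : T ≠ ⊥ := by
      rintro rfl
      rw [card_bot] at hT8
      omega
    obtain ⟨n, hn⟩ := IsPGroup.iff_card.1 (S.isPGroup'.to_le hTS)
    have hn0 : n ≠ 0 := by
      rintro rfl
      rw [hn] at hT8
      norm_num at hT8
    rw [even_iff_two_dvd]
    exact ((dvd_pow_self 2 hn0).trans hn.symm.dvd).trans (card_subgroup_dvd_card T)
  have hmain : ∀ M : Subgroup G, M ≠ ⊤ → normalizer (T : Set G) ≤ M →
      (∀ a ∈ T, a ≠ 1 → centralizerPPrimeCore 2 a ≤ M) → IsStronglyEmbedded M := by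
    intro M hM hNM hcore
    exact isStronglyEmbedded_of_le S hS hM heven (hN.trans hNM)
      (fun s hs hs2 => centralizer_le hS hTS hZ hT2 (by omega) hN hNM hcore hs hs2)
  by_cases hW : W T = ⊥
  · refine ⟨normalizer (T : Set G), hmain _ ?_ le_rfl ?_⟩
    · intro h
      have hTn : T.Normal := normalizer_eq_top_iff.1 h
      rcases hTn.eq_bot_or_eq_top with h1 | h1
      · rw [h1, card_bot] at hT8
        omega
      · obtain ⟨a, b, hab⟩ := hna
        exact hab (hS a (hTS (h1 ▸ mem_top a)) b (hTS (h1 ▸ mem_top b)))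
    · intro a ha ha1
      have := le_W T ha ha1
      rw [hW, le_bot_iff] at this
      rw [this]
      exact bot_le
  · refine ⟨normalizer (W T : Set G), hmain _ ?_ (normalizer_le_normalizer_W T) ?_⟩
    · intro h
      have hWn : (W T).Normal := normalizer_eq_top_iff.1 h
      rcases hWn.eq_bot_or_eq_top with h1 | h1
      · exact hW h1
      · rw [h1, card_top] at hodd
        exact hodd (even_iff_two_dvd.1 heven)
    · intro a ha ha1
      exact (le_W T ha ha1).trans le_normalizer

end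

end Cfsg.Agent.Walter.Embed
end

private theorem dce_e48600100af5 : _root_.True := by
  try have : _root_.True := by simp only [_root_.Cfsg.centralizerPPrimeCore.eq_1]
  try have : _root_.True := by simp only [_root_.Cfsg.Agent.Walter.Embed.W.eq_1]
  exact _root_.True.intro
end

-- part: Walter/Types
section
set_option linter.all false
open scoped Cfsg.Agent.FastGrp

/-!
# The known simple groups with abelian Sylow 2-subgroups

Predicates used in the induction for the theorem on simple groups with abelian Sylow 2-subgroups.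
-/

set_option autoImplicit false

namespace Cfsg.Agent.Walter.Types

open Subgroup

/-- `PSL(2, 2^n)`, `n ≥ 2`. -/
def IsEvenType (K : Type*) [Group K] : Prop :=
  ∃ (F : Type) (_ : Field F) (_ : Fintype F) (n : ℕ), 2 ≤ n ∧ Fintype.card F = 2 ^ n ∧
    Nonempty (K ≃* Matrix.ProjectiveSpecialLinearGroup (Fin 2) F)

/-- `PSL(2, q)`, `q ≡ 3, 5 mod 8`, `q ≥ 5`. -/
def IsOddType (K : Type*) [Group K] : Prop :=
  ∃ (F : Type) (_ : Field F) (_ : Fintype F),
    (Fintype.card F % 8 = 3 ∨ Fintype.card F % 8 = 5) ∧ 5 ≤ Fintype.card F ∧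
      Nonempty (K ≃* Matrix.ProjectiveSpecialLinearGroup (Fin 2) F)

/-- Sylow 2-subgroup elementary abelian of order 8 and all centralizers of involutions
`Z₂ × PSL(2, q)`, `q ≡ 3, 5 mod 8`, `q ≥ 5` (`q` independent of the involution). -/
def IsJR (K : Type*) [Group K] : Prop :=
  (∃ S : Sylow 2 K, Nat.card (S : Subgroup K) = 8 ∧ ∀ s ∈ (S : Subgroup K), s * s = 1) ∧
    ∃ (F : Type) (_ : Field F) (_ : Fintype F),
      (Fintype.card F % 8 = 3 ∨ Fintype.card F % 8 = 5) ∧ 5 ≤ Fintype.card F ∧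
        ∀ t : K, orderOf t = 2 → Nonempty (centralizer ({t} : Set K) ≃*
          Multiplicative (ZMod 2) × Matrix.ProjectiveSpecialLinearGroup (Fin 2) F)

/-- The conclusion of the theorem. -/
def WType (K : Type*) [Group K] : Prop :=
  IsEvenType K ∨ IsOddType K ∨ IsJR K

variable {K L : Type*} [Group K] [Group L]

theorem IsEvenType.congr (e : K ≃* L) (h : IsEvenType K) : IsEvenType L := by
  obtain ⟨F, i1, i2, n, h1, h2, ⟨f⟩⟩ := h
  exact ⟨F, i1, i2, n, h1, h2, ⟨e.symm.trans f⟩⟩

theorem IsOddType.congr (e : K ≃* L) (h : IsOddType K) : IsOddType L := by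
  obtain ⟨F, i1, i2, h1, h2, ⟨f⟩⟩ := h
  exact ⟨F, i1, i2, h1, h2, ⟨e.symm.trans f⟩⟩

/-- the centralizers of `e t` and `t` are isomorphic -/
theorem centralizer_congr (e : K ≃* L) (t : K) :
    Nonempty (centralizer ({t} : Set K) ≃* centralizer ({e t} : Set L)) := by
  have h : (centralizer ({t} : Set K)).map e.toMonoidHom = centralizer ({e t} : Set L) := by
    ext y
    rw [mem_centralizer_singleton_iff]
    constructor
    · rintro ⟨x, hx, rfl⟩
      rw [SetLike.mem_coe, mem_centralizer_singleton_iff] at hx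
      change e x * e t = e t * e x
      rw [← map_mul, hx, map_mul]
    · intro hy
      refine ⟨e.symm y, ?_, e.apply_symm_apply y⟩
      rw [SetLike.mem_coe, mem_centralizer_singleton_iff]
      apply e.injective
      rw [map_mul, map_mul, e.apply_symm_apply]
      exact hy
  exact ⟨(e.subgroupMap _).trans (MulEquiv.subgroupCongr h)⟩

theorem IsJR.congr (e : K ≃* L) (h : IsJR K) : IsJR L := by
  obtain ⟨⟨S, h1, h2⟩, F, i1, i2, h3, h4, h5⟩ := h
  refine ⟨?_, F, i1, i2, h3, h4, ?_⟩
  · obtain ⟨S', hS'⟩ : ∃ S' : Sylow 2 L, (S' : Subgroup L) = (S : Subgroup K).map e.toMonoidHom := by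
      refine ⟨⟨(S : Subgroup K).map e.toMonoidHom, S.2.map _, ?_⟩, rfl⟩
      intro Q hQ hle
      have h6 : (S : Subgroup K) ≤ Q.comap e.toMonoidHom := by
        rwa [← map_le_iff_le_comap]
      have h7 : Q.comap e.toMonoidHom = S := by
        refine S.3 ?_ h6
        exact hQ.comap_of_injective _ e.injective
      rw [← h7]
      exact (Subgroup.map_comap_eq_self_of_surjective e.surjective Q).symm
    refine ⟨S', ?_, ?_⟩
    · rw [hS', Subgroup.card_map_of_injective e.injective, h1]
    · intro s hs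
      rw [hS'] at hs
      obtain ⟨x, hx, rfl⟩ := hs
      rw [← map_mul, h2 x hx, map_one]
  · intro t ht
    have h6 : orderOf (e.symm t) = 2 := by
      rw [← ht]
      exact orderOf_injective e.symm.toMonoidHom e.symm.injective t
    obtain ⟨f⟩ := h5 (e.symm t) h6
    obtain ⟨g⟩ := centralizer_congr e (e.symm t)
    rw [e.apply_symm_apply] at g
    exact ⟨g.symm.trans f⟩

theorem WType.congr (e : K ≃* L) (h : WType K) : WType L := by
  rcases h with h | h | h
  · exact Or.inl (h.congr e)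
  · exact Or.inr (Or.inl (h.congr e))
  · exact Or.inr (Or.inr (h.congr e))

end Cfsg.Agent.Walter.Types
end
end

-- part: Walter/PSLFacts
section
set_option linter.all false

-- part: Walter/AutFix
section
/-!
# Automorphisms of odd order fixing a TI Sylow 2-subgroup pointwise (W4.10, types `L₂(4)`, `L₂(8)`)
-/

set_option autoImplicit false

namespace Cfsg.Agent.Walter.AutFix

open Subgroup

variable {L : Type*} [Group L]

theorem conj_smul (g : L) (P : Sylow 2 L) : (MulAut.conj g) • P = g • P := rfl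

theorem smul_smul' (φ : MulAut L) (g : L) (P : Sylow 2 L) : φ • (g • P) = (φ g) • (φ • P) := by
  rw [← conj_smul, ← conj_smul, smul_smul, smul_smul]
  congr 1
  ext x
  simp only [_root_.MulAut.mul_apply, _root_.MulAut.conj_apply, _root_.map_mul, _root_.map_inv]

/-- an automorphism fixing all Sylow 2-subgroups is trivial if no non-trivial normal subgroup normalises
all Sylow 2-subgroups -/
theorem eq_one_of_smul_eq [IsSimpleGroup L] (S : Sylow 2 L) (hS : normalizer (S : Set L) ≠ ⊤)
    (φ : MulAut L) (h : ∀ P : Sylow 2 L, φ • P = P) : φ = 1 := by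
  have hker : (MulAction.toPermHom L (Sylow 2 L)).ker = ⊥ := by
    rcases (inferInstance : (MulAction.toPermHom L (Sylow 2 L)).ker.Normal).eq_bot_or_eq_top with h1 | h1
    · exact h1
    · exfalso
      apply hS
      rw [eq_top_iff]
      intro g _
      rw [← Sylow.smul_eq_iff_mem_normalizer]
      have h2 : g ∈ (MulAction.toPermHom L (Sylow 2 L)).ker := by rw [h1]; trivial
      have h3 := congrFun (congrArg DFunLike.coe (MonoidHom.mem_ker.1 h2)) S
      exact h3
  ext x
  have h1 : x⁻¹ * φ x ∈ (MulAction.toPermHom L (Sylow 2 L)).ker := by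
    rw [MonoidHom.mem_ker]
    ext1 P
    change (x⁻¹ * φ x) • P = P
    have h2 : (φ x) • P = x • P := by
      have h3 := smul_smul' φ x P
      rw [h, h] at h3
      exact h3.symm
    rw [mul_smul, h2, inv_smul_smul]
  rw [hker, mem_bot] at h1
  change φ x = x
  exact (inv_mul_eq_one.1 h1).symm

/-- An automorphism of odd order fixing pointwise the abelian Sylow 2-subgroup `S`, where `S` is TI and there are
`|S| + 1` Sylow 2-subgroups, is trivial. -/
theorem eq_one_of_fix [Finite L] [IsSimpleGroup L] (S : Sylow 2 L)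
    (hS : ∀ x ∈ (S : Subgroup L), ∀ y ∈ (S : Subgroup L), x * y = y * x)
    (hTI : ∀ P : Sylow 2 L, P ≠ S → (S : Subgroup L) ⊓ P = ⊥)
    (hcard : Nat.card (Sylow 2 L) = Nat.card (S : Subgroup L) + 1)
    (φ : MulAut L) (hφ : Odd (orderOf φ)) (hfix : ∀ s ∈ (S : Subgroup L), φ s = s) : φ = 1 := by
  classical
  have hφS : φ • S = S := by
    apply Sylow.ext
    rw [Sylow.pointwise_smul_def]
    ext x
    constructor
    · rintro ⟨s, hs, rfl⟩
      change φ s ∈ (S : Subgroup L)
      rw [hfix s hs]; exact hs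
    · intro hx
      exact ⟨x, hx, hfix x hx⟩
  have hne : normalizer (S : Set L) ≠ ⊤ := by
    intro h
    have h1 := Sylow.card_eq_index_normalizer S
    rw [h, index_top, hcard] at h1
    have h2 : 0 < Nat.card (S : Subgroup L) := Nat.card_pos
    omega
  -- the action of `S` on the other Sylow subgroups is free
  have hfree : ∀ (P : Sylow 2 L), P ≠ S → ∀ s ∈ (S : Subgroup L), s • P = P → s = 1 := by
    intro P hP s hs h
    rw [Sylow.smul_eq_iff_mem_normalizer] at h
    have h1 : IsPGroup 2 (zpowers s) := by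
      apply S.isPGroup'.to_le
      rwa [zpowers_le]
    have h2 : zpowers s ≤ (P : Subgroup L) := by
      have h3 : (zpowers s : Subgroup L) ≤ normalizer (P : Set L) := by rwa [zpowers_le]
      have h5 := IsPGroup.inf_normalizer_sylow h1 P
      rw [inf_eq_left.2 h3] at h5
      exact h5.le.trans inf_le_right
    have h4 : s ∈ (S : Subgroup L) ⊓ P := mem_inf.2 ⟨hs, h2 (mem_zpowers s)⟩
    rw [hTI P hP, mem_bot] at h4
    exact h4
  have hSP : ∀ (P : Sylow 2 L), P ≠ S → ∀ s ∈ (S : Subgroup L), s • P ≠ S := by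
    intro P hP s hs h
    apply hP
    have h1 : s • S = S := by
      rw [Sylow.smul_eq_iff_mem_normalizer]; exact le_normalizer hs
    rw [← h1] at h
    exact MulAction.injective s h
  -- hence transitive
  have htrans : ∀ P : Sylow 2 L, P ≠ S → ∀ Q : Sylow 2 L, Q ≠ S → ∃ s ∈ (S : Subgroup L), s • P = Q := by
    intro P hP Q hQ
    let f : ↥(S : Subgroup L) → {Q : Sylow 2 L // Q ≠ S} := fun s => ⟨(s : L) • P, hSP P hP s s.2⟩
    have hinj : Function.Injective f := by
      intro s s' h
      have h1 : (s : L) • P = (s' : L) • P := congrArg Subtype.val h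
      have h2 : ((s' : L)⁻¹ * s) • P = P := by rw [mul_smul, h1, inv_smul_smul]
      have h3 := hfree P hP _ (mul_mem (inv_mem s'.2) s.2) h2
      exact Subtype.ext (inv_mul_eq_one.1 h3).symm
    have hc : Nat.card {Q : Sylow 2 L // Q ≠ S} = Nat.card (S : Subgroup L) := by
      have h1 : Nat.card {Q : Sylow 2 L // Q ≠ S} + 1 = Nat.card (Sylow 2 L) := by
        have : Fintype (Sylow 2 L) := Fintype.ofFinite _
        rw [Nat.card_eq_fintype_card, Nat.card_eq_fintype_card]
        have h2 := Fintype.card_subtype_compl (fun Q : Sylow 2 L => Q = S)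
        have h3 : Fintype.card {Q : Sylow 2 L // Q = S} = 1 := Fintype.card_subtype_eq S
        have h4 : 0 < Fintype.card (Sylow 2 L) := Fintype.card_pos
        rw [h3] at h2
        change Fintype.card {Q : Sylow 2 L // ¬ Q = S} + 1 = _
        rw [h2]; omega
      omega
    have hbij : Function.Bijective f := by
      have : Finite {Q : Sylow 2 L // Q ≠ S} := inferInstance
      exact (Function.Injective.bijective_of_nat_card_le hinj (by rw [hc]))
    obtain ⟨s, hs⟩ := hbij.2 ⟨Q, hQ⟩
    exact ⟨s, s.2, congrArg Subtype.val hs⟩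
  -- choose another Sylow subgroup
  obtain ⟨P₀, hP₀⟩ : ∃ P : Sylow 2 L, P ≠ S := by
    by_contra hcon
    push Not at hcon
    have h1 : Nat.card (Sylow 2 L) = 1 := Nat.card_eq_one_iff_unique.2 ⟨⟨fun a b => by
      rw [hcon a, hcon b]⟩, ⟨S⟩⟩
    have h2 : 0 < Nat.card (S : Subgroup L) := Nat.card_pos
    omega
  have hφP₀ : φ • P₀ ≠ S := by
    intro h
    rw [← hφS] at h
    exact hP₀ (MulAction.injective φ h)
  obtain ⟨s₀, hs₀, hs₀P⟩ := htrans P₀ hP₀ (φ • P₀) hφP₀
  have hall : ∀ P : Sylow 2 L, φ • P = s₀ • P := by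
    intro P
    by_cases hP : P = S
    · rw [hP, hφS]
      symm
      rw [Sylow.smul_eq_iff_mem_normalizer]; exact le_normalizer hs₀
    · obtain ⟨s, hs, rfl⟩ := htrans P₀ hP₀ P hP
      rw [smul_smul', hfix s hs, ← hs₀P, ← mul_smul, ← mul_smul, hS s hs s₀ hs₀]
  have h1 : (MulAut.conj s₀)⁻¹ * φ = 1 := by
    apply eq_one_of_smul_eq S hne
    intro P
    rw [mul_smul, hall, ← conj_smul, inv_smul_smul]
  have h2 : φ = MulAut.conj s₀ := (inv_mul_eq_one.1 h1).symm
  -- orders
  have h3 : orderOf φ ∣ orderOf s₀ := by rw [h2]; exact orderOf_map_dvd MulAut.conj s₀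
  have h4 : ∃ k, orderOf s₀ = 2 ^ k := by
    obtain ⟨k, hk⟩ := (IsPGroup.iff_orderOf.1 S.isPGroup') ⟨s₀, hs₀⟩
    exact ⟨k, by rw [← hk, Subgroup.orderOf_mk]⟩
  obtain ⟨k, hk⟩ := h4
  rw [hk] at h3
  have h5 : Nat.Coprime (orderOf φ) (2 ^ k) := (Nat.Coprime.pow_right k (Nat.coprime_two_right.2 hφ))
  have h6 : orderOf φ = 1 := Nat.Coprime.eq_one_of_dvd h5 h3
  exact orderOf_eq_one_iff.1 h6

end Cfsg.Agent.Walter.AutFix
end

-- part: Walter/AutFacts
section
/-!
# Automorphisms of simple groups with small elementary Sylow 2-subgroup fixing an involution centralizer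
-/

set_option autoImplicit false

namespace Cfsg.Agent.Walter.AutFacts

open Subgroup

/-- The conclusion of Bender's theorem for the (simple non-abelian) group `L`. -/
def Bender (L : Type*) [Group L] : Prop :=
  ∀ M : Subgroup L, IsStronglyEmbedded M →
    ((∃ (F : Type) (_ : Field F) (_ : Fintype F), CharP F 2 ∧ 4 ≤ Fintype.card F ∧
        Nonempty (L ≃* Matrix.ProjectiveSpecialLinearGroup (Fin 2) F)) ∨
      Cfsg.IsSuzuki L ∨
      (∃ (F : Type) (_ : Field F) (_ : Fintype F) (q : ℕ), Fintype.card F = q ^ 2 ∧ Even q ∧ 4 ≤ q ∧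
        Nonempty (L ≃* Cfsg.PSU 3 F q)))

variable {L : Type*} [Group L] [Finite L]

theorem pow_dvd (S : Sylow 2 L) {n : ℕ} (h : 2 ^ n ∣ Nat.card L) :
    2 ^ n ∣ Nat.card (S : Subgroup L) := S.pow_dvd_card_of_pow_dvd_card h

/-- The order of a simple group with a strongly embedded subgroup and small Sylow 2-subgroups. -/
theorem card_eq (hB : Bender L) (S : Sylow 2 L) (hS : Nat.card (S : Subgroup L) < 64) {M : Subgroup L}
    (hM : IsStronglyEmbedded M) :
    4 ≤ Nat.card (S : Subgroup L) ∧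
      Nat.card L = Nat.card (S : Subgroup L) * (Nat.card (S : Subgroup L) ^ 2 - 1) := by
  have h2 : Fact (Nat.Prime 2) := ⟨Nat.prime_two⟩
  have hpos : 0 < Nat.card (S : Subgroup L) := Nat.card_pos
  have h64 : ¬ 2 ^ 6 ∣ Nat.card L := by
    intro h
    have := Nat.le_of_dvd hpos (pow_dvd S h)
    omega
  rcases hB M hM with ⟨F, i1, i2, hch, hF, ⟨e⟩⟩ | ⟨-, m, hm, hcard⟩ | ⟨F, i1, i2, q, hF, hq, hq4, ⟨e⟩⟩
  · obtain ⟨k, hk2, hk⟩ := FiniteField.card F 2
    have hke : Even (Fintype.card F) := by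
      rw [hk]; exact (Nat.even_pow' k.ne_zero).2 even_two
    have hcard : Nat.card L = 2 ^ (k : ℕ) * ((2 ^ (k : ℕ)) ^ 2 - 1) := by
      rw [Nat.card_congr e.toEquiv, SmallSimple.PSLTwoPart.card_psl_two_even hke, hk]
    obtain ⟨j, hj⟩ := (IsPGroup.iff_card (p := 2)).1 S.isPGroup'
    have h3 : 2 ^ (k : ℕ) ∣ Nat.card (S : Subgroup L) := pow_dvd S ⟨_, hcard⟩
    have h4 : Nat.card (S : Subgroup L) ∣ 2 ^ (k : ℕ) := by
      have h5 : Nat.card (S : Subgroup L) ∣ 2 ^ (k : ℕ) * ((2 ^ (k : ℕ)) ^ 2 - 1) := by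
        rw [← hcard]; exact card_subgroup_dvd_card _
      refine Nat.Coprime.dvd_of_dvd_mul_right ?_ h5
      rw [hj]
      apply Nat.Coprime.pow_left
      rw [Nat.coprime_two_left]
      have h6 : 1 ≤ (2 ^ (k : ℕ)) ^ 2 := Nat.one_le_two_pow |> fun h => Nat.one_le_pow _ _ h
      rw [← Nat.not_even_iff_odd]
      intro h7
      have h8 : Even ((2 ^ (k : ℕ)) ^ 2) := by
        rw [Nat.even_pow' two_ne_zero, Nat.even_pow' k.ne_zero]; exact even_two
      have h9 : Even 1 := by
        have h10 := (Nat.even_sub h6).1 h7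
        exact h10.1 h8
      simp only [_root_.Nat.not_even_one] at h9
    have h5 : Nat.card (S : Subgroup L) = 2 ^ (k : ℕ) := Nat.dvd_antisymm h4 h3
    rw [h5]
    exact ⟨hk ▸ hF, hcard⟩
  · exfalso
    apply h64
    rw [hcard, mul_assoc]
    refine Dvd.dvd.mul_right ?_ _
    rw [← pow_mul]
    exact pow_dvd_pow 2 (by omega)
  · exfalso
    apply h64
    obtain ⟨n, hn, rfl⟩ := LieExceptional.PSUThreeWitness.exists_pow_two hF hq hq4
    rw [Nat.card_congr e.toEquiv]
    let T : Sylow 2 (Cfsg.PSU 3 F (2 ^ n)) := default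
    have h3 := (Cfsg.Agent.S1141.result hn hF T).1
    have h4 : (2 ^ n) ^ 3 ∣ Nat.card (Cfsg.PSU 3 F (2 ^ n)) := by
      rw [← h3]; exact card_subgroup_dvd_card _
    refine dvd_trans ?_ h4
    rw [← pow_mul]
    exact pow_dvd_pow 2 (by omega)

section SE

variable {M : Subgroup L} (hM : IsStronglyEmbedded M)

include hM in
/-- an element of 2-power order in `M ⊓ M ^ g`, `g ∉ M`, is trivial -/
theorem eq_one_of_mem {x g : L} (hx : x ∈ M) (hg : g⁻¹ * x * g ∈ M) (hgM : g ∉ M)
    (hx2 : IsPGroup 2 (zpowers x)) : x = 1 := by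
  have h1 := hM.2.2 g hgM
  have h2 : (zpowers x : Subgroup L) ≤ M ⊓ M.map (MulAut.conj g).toMonoidHom := by
    rw [zpowers_le, mem_inf]
    refine ⟨hx, g⁻¹ * x * g, hg, ?_⟩
    simp [MulAut.conj_apply, mul_assoc]
  have h3 : Nat.card (zpowers x) ∣
      Nat.card ↥(M ⊓ M.map (MulAut.conj g).toMonoidHom : Subgroup L) := card_dvd_of_le h2
  have h4 : Odd (Nat.card (zpowers x)) := Odd.of_dvd_nat h1 h3
  obtain ⟨k, hk⟩ := (IsPGroup.iff_card (p := 2)).1 hx2
  rw [hk] at h4
  have h5 : k = 0 := by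
    by_contra hk0
    exact (Nat.not_even_iff_odd.2 h4) ((Nat.even_pow' hk0).2 even_two)
  rw [h5, pow_zero, Nat.card_zpowers, orderOf_eq_one_iff] at hk
  exact hk

include hM in
theorem normalizer_le (S : Sylow 2 L) (hS1 : (S : Subgroup L) ≠ ⊥) (hSM : (S : Subgroup L) ≤ M) :
    normalizer ((S : Subgroup L) : Set L) ≤ M := by
  intro n hn
  by_contra hnM
  obtain ⟨x, hx, hx1⟩ := (bot_or_exists_ne_one (S : Subgroup L)).resolve_left hS1
  refine hx1 (eq_one_of_mem hM (hSM hx) (hSM ?_) hnM (S.isPGroup'.to_le (by rwa [zpowers_le])))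
  have h1 := (mem_normalizer_iff.1 (inv_mem hn) x).1 hx
  simpa using h1

include hM in
/-- the congruence for the index of a strongly embedded subgroup -/
theorem index_eq (S : Sylow 2 L) (hSM : (S : Subgroup L) ≤ M) :
    ∃ k : ℕ, M.index = k * Nat.card (S : Subgroup L) + 1 := by
  classical
  let X : SubMulAction (S : Subgroup L) (L ⧸ M) :=
    { carrier := {x | x ≠ ((1 : L) : L ⧸ M)}
      smul_mem' := by
        intro c x hx h
        apply hx
        have h1 : (c : L) • ((1 : L) : L ⧸ M) = ((1 : L) : L ⧸ M) := by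
          change ((((c : L) * 1 : L)) : L ⧸ M) = _
          rw [QuotientGroup.eq]
          simpa using hSM c.2
        have h2 : (c : L) • x = (c : L) • ((1 : L) : L ⧸ M) := by rw [h1]; exact h
        exact MulAction.injective (c : L) h2 }
  have hfree : ∀ b : X, MulAction.stabilizer (S : Subgroup L) b = ⊥ := by
    rintro ⟨x, hx⟩
    rw [eq_bot_iff]
    intro c hc
    rw [MulAction.mem_stabilizer_iff] at hc
    have hc' : (c : L) • x = x := congrArg Subtype.val hc
    obtain ⟨g, rfl⟩ := QuotientGroup.mk_surjective x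
    have h1 : g⁻¹ * (c : L) * g ∈ M := by
      have h2 : (((c : L) * g : L) : L ⧸ M) = (g : L ⧸ M) := hc'
      rw [eq_comm, QuotientGroup.eq] at h2
      simpa only [mul_assoc] using h2
    have hg : g ∉ M := by
      intro hg
      apply hx
      rw [QuotientGroup.eq]
      simpa using hg
    have h3 : (c : L) = 1 := eq_one_of_mem hM (hSM c.2) h1 hg
      (S.isPGroup'.to_le (by rw [zpowers_le]; exact c.2))
    rw [mem_bot]
    exact Subtype.ext h3
  have e := MulAction.selfEquivOrbitsQuotientProd hfree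
  refine ⟨Nat.card (Quotient (MulAction.orbitRel (S : Subgroup L) X)), ?_⟩
  have h1 : Nat.card X = Nat.card (Quotient (MulAction.orbitRel (S : Subgroup L) X)) *
      Nat.card (S : Subgroup L) := by
    rw [Nat.card_congr e, Nat.card_prod]
  rw [← h1]
  have : Fintype (L ⧸ M) := Fintype.ofFinite _
  have h2 : Nat.card X = Nat.card {x : L ⧸ M // ¬ x = ((1 : L) : L ⧸ M)} := rfl
  have h3 := Fintype.card_subtype_compl (fun x : L ⧸ M => x = ((1 : L) : L ⧸ M))
  have h4 : Fintype.card {x : L ⧸ M // x = ((1 : L) : L ⧸ M)} = 1 := Fintype.card_subtype_eq _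
  have h5 : 0 < Fintype.card (L ⧸ M) := Fintype.card_pos_iff.2 ⟨((1 : L) : L ⧸ M)⟩
  rw [h2, Nat.card_eq_fintype_card, h3, h4, index, Nat.card_eq_fintype_card]
  omega

end SE

section simple

variable [IsSimpleGroup L]

/-- Burnside's transfer theorem in a simple group. -/
theorem not_le_centralizer (hna : ∃ a b : L, a * b ≠ b * a) (S : Sylow 2 L) (hS1 : (S : Subgroup L) ≠ ⊥)
    (hS : ∀ x ∈ (S : Subgroup L), ∀ y ∈ (S : Subgroup L), x * y = y * x) :
    ¬ normalizer ((S : Subgroup L) : Set L) ≤ centralizer ((S : Subgroup L) : Set L) := by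
  intro h
  have h2 : Fact (Nat.Prime 2) := ⟨Nat.prime_two⟩
  have h1 := MonoidHom.ker_transferSylow_isComplement' S h
  rcases (inferInstance : (MonoidHom.transferSylow S h).ker.Normal).eq_bot_or_eq_top with h3 | h3
  · rw [h3, isComplement'_bot_left] at h1
    obtain ⟨a, b, hab⟩ := hna
    exact hab (hS a (h1 ▸ mem_top a) b (h1 ▸ mem_top b))
  · rw [h3, isComplement'_top_left] at h1
    exact hS1 h1

/-- In a simple non-abelian group with abelian Sylow 2-subgroup `S` no non-trivial element of `S` is central in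
`N(S)`. -/
theorem eq_one_of_central (hna : ∃ a b : L, a * b ≠ b * a) (S : Sylow 2 L)
    (hS : ∀ x ∈ (S : Subgroup L), ∀ y ∈ (S : Subgroup L), x * y = y * x) {z : L}
    (hz : z ∈ (S : Subgroup L)) (hzN : ∀ n ∈ normalizer ((S : Subgroup L) : Set L), n * z = z * n) :
    z = 1 := by
  have h2 : Fact (Nat.Prime 2) := ⟨Nat.prime_two⟩
  have hcomm : IsMulCommutative (S : Subgroup L) :=
    ⟨⟨fun a b => Subtype.ext (hS a a.2 b b.2)⟩⟩
  let _ : CommGroup (S : Subgroup L) :=
    { (inferInstance : Group (S : Subgroup L)) with mul_comm := fun a b => Subtype.ext (hS a a.2 b b.2) }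
  have key : ∀ (k : ℕ) (g₀ : L), g₀⁻¹ * z ^ k * g₀ ∈ (S : Subgroup L) → g₀⁻¹ * z ^ k * g₀ = z ^ k := by
    intro k g₀ hk
    obtain ⟨n, hn, h⟩ := S.conj_eq_normalizer_conj_of_mem (z ^ k) g₀ (pow_mem hz k) hk
    rw [h]
    have h3 : Commute n z := hzN n hn
    have h4 : n⁻¹ * z ^ k = z ^ k * n⁻¹ := ((h3.inv_left).pow_right k).eq
    rw [h4, inv_mul_cancel_right]
  let τ : L →* (S : Subgroup L) := MonoidHom.transfer (MonoidHom.id (S : Subgroup L))
  have h3 : τ z = ⟨z ^ (S : Subgroup L).index, MonoidHom.transfer_eq_pow_aux z key⟩ :=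
    MonoidHom.transfer_eq_pow (MonoidHom.id (S : Subgroup L)) z key
  have h4 : τ z = 1 := by
    rcases (inferInstance : τ.ker.Normal).eq_bot_or_eq_top with h5 | h5
    · exfalso
      obtain ⟨a, b, hab⟩ := hna
      apply hab
      apply (MonoidHom.ker_eq_bot_iff τ).1 h5
      rw [map_mul, map_mul, mul_comm]
    · have : z ∈ τ.ker := by rw [h5]; trivial
      exact this
  rw [h3] at h4
  have h5 : z ^ (S : Subgroup L).index = 1 := congrArg Subtype.val h4
  have h6 : orderOf z ∣ (S : Subgroup L).index := orderOf_dvd_of_pow_eq_one h5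
  have h7 : ¬ 2 ∣ (S : Subgroup L).index := S.not_dvd_index
  obtain ⟨k, hk⟩ := (IsPGroup.iff_orderOf.1 S.isPGroup') ⟨z, hz⟩
  rw [Subgroup.orderOf_mk] at hk
  rw [hk] at h6
  have h8 : k = 0 := by
    by_contra hk0
    exact h7 ((dvd_pow_self 2 hk0).trans h6)
  rw [h8, pow_zero, orderOf_eq_one_iff] at hk
  exact hk

/-- `N(S)` is transitive on the involutions of `S`. -/
theorem transitive (hna : ∃ a b : L, a * b ≠ b * a) (S : Sylow 2 L)
    (hS : ∀ x ∈ (S : Subgroup L), x * x = 1) (hcard : Nat.card (S : Subgroup L) < 16) {v w : L}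
    (hv : v ∈ (S : Subgroup L)) (hv1 : v ≠ 1) (hw : w ∈ (S : Subgroup L)) (hw1 : w ≠ 1) :
    ∃ n ∈ normalizer ((S : Subgroup L) : Set L), n * v * n⁻¹ = w := by
  classical
  have h2 : Fact (Nat.Prime 2) := ⟨Nat.prime_two⟩
  have hcomm : ∀ x ∈ (S : Subgroup L), ∀ y ∈ (S : Subgroup L), x * y = y * x := by
    intro x hx y hy
    have h1 := hS (x * y) (mul_mem hx hy)
    have h3 : x⁻¹ = x := inv_eq_of_mul_eq_one_left (hS x hx)
    have h4 : y⁻¹ = y := inv_eq_of_mul_eq_one_left (hS y hy)
    have h5 : (x * y)⁻¹ = x * y := inv_eq_of_mul_eq_one_left h1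
    rw [← h5, mul_inv_rev, h3, h4]
  -- the action of `N(S)` on `S#`
  let N := normalizer ((S : Subgroup L) : Set L)
  let act : MulAction N {x : L // x ∈ (S : Subgroup L) ∧ x ≠ 1} :=
    { smul := fun n x => ⟨(n : L) * x * (n : L)⁻¹, (mem_normalizer_iff.1 n.2 _).1 x.2.1, fun h =>
        x.2.2 (by
          have h1 : (x : L) = (n : L)⁻¹ * ((n : L) * x * (n : L)⁻¹) * n := by group
          rw [h1, h]; group)⟩
      one_smul := fun x => Subtype.ext (by
        change ((1 : N) : L) * x * ((1 : N) : L)⁻¹ = x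
        simp only [_root_.OneMemClass.coe_one, _root_.ne_eq, _root_.one_mul, _root_.inv_one, _root_.mul_one])
      mul_smul := fun a b x => Subtype.ext (by
        change ((a * b : N) : L) * x * ((a * b : N) : L)⁻¹ = (a : L) * ((b : L) * x * (b : L)⁻¹) * (a : L)⁻¹
        simp only [mul_assoc, _root_.Subgroup.coe_mul, _root_.ne_eq, _root_.mul_assoc, _root_.mul_inv_rev]) }
  have hsmul : ∀ (n : N) (x : {x : L // x ∈ (S : Subgroup L) ∧ x ≠ 1}),
      ((n • x : {x : L // x ∈ (S : Subgroup L) ∧ x ≠ 1}) : L) = (n : L) * x * (n : L)⁻¹ := fun _ _ => rfl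
  -- orbits have odd length, at least three
  have horb : ∀ x : {x : L // x ∈ (S : Subgroup L) ∧ x ≠ 1},
      Odd (Nat.card (MulAction.orbit N x)) ∧ 3 ≤ Nat.card (MulAction.orbit N x) := by
    intro x
    have h3 : Nat.card (MulAction.orbit N x) = (MulAction.stabilizer N x).index :=
      (MulAction.index_stabilizer N x).symm
    have h4 : ((S : Subgroup L).subgroupOf N) ≤ MulAction.stabilizer N x := by
      intro s hs
      rw [MulAction.mem_stabilizer_iff]
      apply Subtype.ext
      rw [hsmul, hcomm s (mem_subgroupOf.1 hs) x x.2.1, mul_inv_cancel_right]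
    have h5 : Odd (Nat.card (MulAction.orbit N x)) := by
      rw [h3, ← Nat.not_even_iff_odd, even_iff_two_dvd]
      intro h
      have h6 : (MulAction.stabilizer N x).index ∣ ((S : Subgroup L).subgroupOf N).index :=
        index_dvd_of_le h4
      have h7 : ((S : Subgroup L).subgroupOf N).index ∣ (S : Subgroup L).index :=
        relIndex_dvd_index_of_le le_normalizer
      exact S.not_dvd_index (h.trans (h6.trans h7))
    refine ⟨h5, ?_⟩
    have h6 : Nat.card (MulAction.orbit N x) ≠ 1 := by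
      intro h
      apply x.2.2
      apply eq_one_of_central hna S hcomm x.2.1
      intro n hn
      have h7 : (⟨n, hn⟩ : N) • x = x := by
        have h8 := (Nat.card_eq_one_iff_unique.1 h).1
        have h9 := h8.elim ⟨(⟨n, hn⟩ : N) • x, MulAction.mem_orbit _ _⟩ ⟨x, MulAction.mem_orbit_self x⟩
        exact congrArg Subtype.val h9
      have h8 := congrArg Subtype.val h7
      rw [hsmul] at h8
      exact mul_inv_eq_iff_eq_mul.1 h8
    obtain ⟨k, hk⟩ := h5
    omega
  have hcardX : Nat.card {x : L // x ∈ (S : Subgroup L) ∧ x ≠ 1} + 1 = Nat.card (S : Subgroup L) := by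
    have : Fintype (S : Subgroup L) := Fintype.ofFinite _
    have h3 := Fintype.card_subtype_compl (fun x : (S : Subgroup L) => x = 1)
    have h4 : Fintype.card {x : (S : Subgroup L) // x = 1} = 1 := Fintype.card_subtype_eq _
    have h5 : 0 < Fintype.card (S : Subgroup L) := Fintype.card_pos
    have e : {x : L // x ∈ (S : Subgroup L) ∧ x ≠ 1} ≃ {x : (S : Subgroup L) // ¬ x = 1} :=
      { toFun := fun x => ⟨⟨x, x.2.1⟩, fun h => x.2.2 (congrArg Subtype.val h)⟩
        invFun := fun x => ⟨x.1, x.1.2, fun h => x.2 (Subtype.ext h)⟩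
        left_inv := fun x => rfl
        right_inv := fun x => rfl }
    rw [Nat.card_congr e, Nat.card_eq_fintype_card, h3, h4, Nat.card_eq_fintype_card]
    omega
  obtain ⟨j, hj0⟩ := (IsPGroup.iff_card (p := 2)).1 S.isPGroup'
  have hj : Nat.card (S : Subgroup L) = 2 ^ j := hj0
  clear hj0
  have hj3 : j ≤ 3 := by
    by_contra hcon
    have : 2 ^ 4 ≤ 2 ^ j := Nat.pow_le_pow_right (by norm_num) (by omega)
    omega
  by_contra hcon
  push Not at hcon
  let xv : {x : L // x ∈ (S : Subgroup L) ∧ x ≠ 1} := ⟨v, hv, hv1⟩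
  let xw : {x : L // x ∈ (S : Subgroup L) ∧ x ≠ 1} := ⟨w, hw, hw1⟩
  -- the complement of the orbit of `v`
  have hw' : xw ∉ MulAction.orbit N xv := by
    rintro ⟨n, hn⟩
    exact hcon n n.2 (congrArg Subtype.val hn)
  have hdisj : Disjoint (MulAction.orbit N xv) (MulAction.orbit N xw) := by
    rw [Set.disjoint_left]
    intro y hy hy'
    apply hw'
    have h3 := MulAction.orbit_eq_iff.2 hy
    have h4 := MulAction.orbit_eq_iff.2 hy'
    rw [← h3, h4]
    exact MulAction.mem_orbit_self _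
  obtain ⟨ho1, ho2⟩ := horb xv
  obtain ⟨hp1, hp2⟩ := horb xw
  have h4 := Set.ncard_union_eq hdisj (Set.toFinite _) (Set.toFinite _)
  rw [← Nat.card_coe_set_eq, ← Nat.card_coe_set_eq (MulAction.orbit N xv),
    ← Nat.card_coe_set_eq (MulAction.orbit N xw)] at h4
  have h3 : Nat.card (MulAction.orbit N xv) + Nat.card (MulAction.orbit N xw) ≤
      Nat.card {x : L // x ∈ (S : Subgroup L) ∧ x ≠ 1} := by
    rw [← h4]
    exact Nat.card_le_card_of_injective _ Subtype.val_injective
  rw [hj] at hcardX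
  have h5 : j = 3 := by
    rcases (by omega : j = 0 ∨ j = 1 ∨ j = 2 ∨ j = 3) with rfl | rfl | rfl | rfl <;> omega
  subst h5
  -- a point outside both orbits
  obtain ⟨y, hy⟩ : ∃ y, y ∉ MulAction.orbit N xv ∪ MulAction.orbit N xw := by
    by_contra hall
    push Not at hall
    have h6 : MulAction.orbit N xv ∪ MulAction.orbit N xw = Set.univ := Set.eq_univ_of_forall hall
    rw [h6, Nat.card_congr (Equiv.Set.univ _)] at h4
    obtain ⟨a, ha⟩ := ho1
    obtain ⟨b, hb⟩ := hp1
    omega
  have hdisj2 : Disjoint (MulAction.orbit N xv ∪ MulAction.orbit N xw) (MulAction.orbit N y) := by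
    rw [Set.disjoint_left]
    intro z hz hz'
    apply hy
    have h7 := MulAction.orbit_eq_iff.2 hz'
    rcases hz with hz | hz
    · left
      have h8 := MulAction.orbit_eq_iff.2 hz
      rw [← h8, h7]
      exact MulAction.mem_orbit_self _
    · right
      have h8 := MulAction.orbit_eq_iff.2 hz
      rw [← h8, h7]
      exact MulAction.mem_orbit_self _
  have h6 := Set.ncard_union_eq hdisj2 (Set.toFinite _) (Set.toFinite _)
  rw [← Nat.card_coe_set_eq, ← Nat.card_coe_set_eq (MulAction.orbit N xv ∪ MulAction.orbit N xw),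
    ← Nat.card_coe_set_eq (MulAction.orbit N y)] at h6
  have h7 : Nat.card ↥(MulAction.orbit N xv ∪ MulAction.orbit N xw ∪ MulAction.orbit N y) ≤
      Nat.card {x : L // x ∈ (S : Subgroup L) ∧ x ≠ 1} :=
    Nat.card_le_card_of_injective _ Subtype.val_injective
  have h8 := (horb y).2
  omega

/-- Structure of a simple group with a strongly embedded subgroup `M` containing the small Sylow 2-subgroup `S`:
`M = N(S)`, `S` is TI and has `|S| + 1` conjugates. -/
theorem structure_of_stronglyEmbedded (hB : Bender L) (hna : ∃ a b : L, a * b ≠ b * a) (S : Sylow 2 L)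
    (hS : ∀ x ∈ (S : Subgroup L), ∀ y ∈ (S : Subgroup L), x * y = y * x)
    (hcard : Nat.card (S : Subgroup L) < 16) {M : Subgroup L} (hM : IsStronglyEmbedded M)
    (hSM : (S : Subgroup L) ≤ M) :
    (4 ≤ Nat.card (S : Subgroup L) ∧
      Nat.card L = Nat.card (S : Subgroup L) * (Nat.card (S : Subgroup L) ^ 2 - 1)) ∧
    M = normalizer ((S : Subgroup L) : Set L) ∧
    Nat.card (Sylow 2 L) = Nat.card (S : Subgroup L) + 1 ∧
    ∀ P : Sylow 2 L, P ≠ S → (S : Subgroup L) ⊓ P = ⊥ := by
  have h2 : Fact (Nat.Prime 2) := ⟨Nat.prime_two⟩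
  obtain ⟨h4, hL⟩ := card_eq hB S (by omega) hM
  obtain ⟨j, hj0⟩ := (IsPGroup.iff_card (p := 2)).1 S.isPGroup'
  have hj : Nat.card (S : Subgroup L) = 2 ^ j := hj0
  clear hj0
  have hj3 : j ≤ 3 := by
    by_contra hcon
    have : 2 ^ 4 ≤ 2 ^ j := Nat.pow_le_pow_right (by norm_num) (by omega)
    omega
  have hj2 : 2 ≤ j := by
    by_contra hcon
    have : 2 ^ j ≤ 2 ^ 1 := Nat.pow_le_pow_right (by norm_num) (by omega)
    omega
  have hS1 : (S : Subgroup L) ≠ ⊥ := by
    intro h
    rw [h, card_bot] at h4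
    omega
  obtain ⟨k, hk⟩ := index_eq hM S hSM
  have hk0 : k ≠ 0 := by
    rintro rfl
    rw [zero_mul, zero_add, index_eq_one] at hk
    exact hM.1 hk
  have hN := normalizer_le hM S hS1 hSM
  have hodd : ¬ 2 ∣ M.index := fun h => S.not_dvd_index (h.trans (index_dvd_of_le hSM))
  have hmul := M.card_mul_index
  -- `[L : M] = |S| + 1` and `[M : S] = |S| - 1` is prime
  have hidx : M.index = Nat.card (S : Subgroup L) + 1 ∧
      ((S : Subgroup L).relIndex M).Prime := by
    have hr : (S : Subgroup L).relIndex M * M.index = (S : Subgroup L).index :=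
      relIndex_mul_index hSM
    have hSi := (S : Subgroup L).card_mul_index
    rcases (by omega : j = 2 ∨ j = 3) with rfl | rfl
    · norm_num only [] at hj
      rw [hj] at hL hk hSi ⊢
      norm_num at hL
      rw [hL] at hSi
      have h5 : (S : Subgroup L).index = 15 := by omega
      rw [h5, hk] at hr
      have h6 : k * 4 + 1 ∣ 15 := ⟨_, by rw [mul_comm]; exact hr.symm⟩
      have h7 : k * 4 + 1 ≤ 15 := Nat.le_of_dvd (by norm_num) h6
      have h8 : k ≤ 3 := by omega
      rw [hk]
      interval_cases k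
      · exact absurd rfl hk0
      · refine ⟨rfl, ?_⟩
        have : (S : Subgroup L).relIndex M = 3 := by omega
        rw [this]; norm_num
      · exfalso; revert h6; decide
      · exfalso; revert h6; decide
    · norm_num only [] at hj
      rw [hj] at hL hk hSi ⊢
      norm_num at hL
      rw [hL] at hSi
      have h5 : (S : Subgroup L).index = 63 := by omega
      rw [h5, hk] at hr
      have h6 : k * 8 + 1 ∣ 63 := ⟨_, by rw [mul_comm]; exact hr.symm⟩
      have h7 : k * 8 + 1 ≤ 63 := Nat.le_of_dvd (by norm_num) h6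
      have h8 : k ≤ 7 := by omega
      rw [hk]
      interval_cases k
      · exact absurd rfl hk0
      · refine ⟨rfl, ?_⟩
        have : (S : Subgroup L).relIndex M = 7 := by omega
        rw [this]; norm_num
      all_goals exfalso; revert h6; decide
  have hMN : M = normalizer ((S : Subgroup L) : Set L) := by
    refine le_antisymm ?_ hN
    have h5 : (S : Subgroup L).relIndex (normalizer ((S : Subgroup L) : Set L)) *
        (normalizer ((S : Subgroup L) : Set L)).relIndex M = (S : Subgroup L).relIndex M :=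
      relIndex_mul_relIndex _ _ _ le_normalizer hN
    rcases (Nat.dvd_prime hidx.2).1 ⟨_, h5.symm⟩ with h6 | h6
    · exfalso
      rw [relIndex_eq_one] at h6
      exact not_le_centralizer hna S hS1 hS (h6.trans (fun x hx y hy => hS y hy x hx))
    · rw [h6] at h5
      have h7 : 0 < (S : Subgroup L).relIndex M := hidx.2.pos
      have h8 : (normalizer ((S : Subgroup L) : Set L)).relIndex M = 1 :=
        Nat.eq_of_mul_eq_mul_left h7 (by rw [h5, mul_one])
      exact relIndex_eq_one.1 h8
  refine ⟨⟨h4, hL⟩, hMN, ?_, ?_⟩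
  · rw [← hidx.1, hMN]
    exact Sylow.card_eq_index_normalizer S
  · intro P hP
    obtain ⟨g, rfl⟩ := MulAction.exists_smul_eq L S P
    by_contra hne
    obtain ⟨x, hx, hx1⟩ := (bot_or_exists_ne_one _).resolve_left hne
    rw [mem_inf] at hx
    have hg : g ∉ M := by
      intro hg
      rw [hMN] at hg
      exact hP (Sylow.smul_eq_iff_mem_normalizer.2 hg)
    refine hx1 (eq_one_of_mem hM (hSM hx.1) (hSM ?_) hg (S.isPGroup'.to_le (by
      rw [zpowers_le]; exact hx.1)))
    obtain ⟨s, hs, hsx⟩ := hx.2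
    have h5 : g * s * g⁻¹ = x := hsx
    have h6 : g⁻¹ * x * g = s := by rw [← h5]; group
    rw [h6]
    exact hs

omit [Finite L] [IsSimpleGroup L] in
theorem comm_of_sq (S : Sylow 2 L) (hS : ∀ x ∈ (S : Subgroup L), x * x = 1) :
    ∀ x ∈ (S : Subgroup L), ∀ y ∈ (S : Subgroup L), x * y = y * x := by
  intro x hx y hy
  have h1 := hS (x * y) (mul_mem hx hy)
  have h3 : x⁻¹ = x := inv_eq_of_mul_eq_one_left (hS x hx)
  have h4 : y⁻¹ = y := inv_eq_of_mul_eq_one_left (hS y hy)
  have h5 : (x * y)⁻¹ = x * y := inv_eq_of_mul_eq_one_left h1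
  rw [← h5, mul_inv_rev, h3, h4]

/-- **Generation.** If `M` contains `N(S)` and the centralizer of one involution of `S`, then `M = ⊤` or
`M` is strongly embedded. -/
theorem eq_top_or_stronglyEmbedded (hna : ∃ a b : L, a * b ≠ b * a) (S : Sylow 2 L)
    (hS : ∀ x ∈ (S : Subgroup L), x * x = 1) (hcard : Nat.card (S : Subgroup L) < 16) {v : L}
    (hv : v ∈ (S : Subgroup L)) (hv1 : v ≠ 1) {M : Subgroup L}
    (hN : normalizer ((S : Subgroup L) : Set L) ≤ M) (hC : centralizer ({v} : Set L) ≤ M) :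
    M = ⊤ ∨ IsStronglyEmbedded M := by
  by_cases hM : M = ⊤
  · exact Or.inl hM
  right
  have heven : Even (Nat.card L) := by
    rw [even_iff_two_dvd]
    have h1 : orderOf v = 2 := by
      rw [orderOf_eq_prime_iff, sq]
      exact ⟨hS v hv, hv1⟩
    rw [← h1]
    exact orderOf_dvd_natCard v
  refine Embed.isStronglyEmbedded_of_le S (comm_of_sq S hS) hM heven hN ?_
  intro s hs hs2
  have hs1 : s ≠ 1 := by
    rintro rfl
    rw [orderOf_one] at hs2
    omega
  obtain ⟨n, hn, rfl⟩ := transitive hna S hS hcard hv hv1 hs hs1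
  intro x hx
  rw [mem_centralizer_singleton_iff] at hx
  have h1 : n⁻¹ * x * n ∈ M := by
    apply hC
    rw [mem_centralizer_singleton_iff]
    have h2 : n⁻¹ * (x * (n * v * n⁻¹)) * n = n⁻¹ * (n * v * n⁻¹ * x) * n := by rw [hx]
    calc n⁻¹ * x * n * v = n⁻¹ * (x * (n * v * n⁻¹)) * n := by group
      _ = n⁻¹ * (n * v * n⁻¹ * x) * n := h2
      _ = v * (n⁻¹ * x * n) := by group
  have h2 : x = n * (n⁻¹ * x * n) * n⁻¹ := by group
  rw [h2]
  exact mul_mem (mul_mem (hN hn) h1) (inv_mem (hN hn))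

/-- **Generation**, numerical form. -/
theorem eq_top_of_le (hB : Bender L) (hna : ∃ a b : L, a * b ≠ b * a) (S : Sylow 2 L)
    (hS : ∀ x ∈ (S : Subgroup L), x * x = 1) (hcard : Nat.card (S : Subgroup L) < 16)
    (hL : Nat.card L ≠ Nat.card (S : Subgroup L) * (Nat.card (S : Subgroup L) ^ 2 - 1)) {v : L}
    (hv : v ∈ (S : Subgroup L)) (hv1 : v ≠ 1) {M : Subgroup L}
    (hN : normalizer ((S : Subgroup L) : Set L) ≤ M) (hC : centralizer ({v} : Set L) ≤ M) :
    M = ⊤ := by
  rcases eq_top_or_stronglyEmbedded hna S hS hcard hv hv1 hN hC with h | h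
  · exact h
  · exact absurd (card_eq hB S (by omega) h).2 hL

omit [Finite L] [IsSimpleGroup L] in
/-- An automorphism of odd order which centralizes the self-centralizing Sylow 2-subgroup `S` centralizes
`N(S)`. -/
theorem fix_normalizer (S : Sylow 2 L) (hCS : centralizer ((S : Subgroup L) : Set L) ≤ S) (φ : MulAut L)
    (hφ : Odd (orderOf φ)) (hfix : ∀ s ∈ (S : Subgroup L), φ s = s) {n : L}
    (hn : n ∈ normalizer ((S : Subgroup L) : Set L)) : φ n = n := by
  have h1 : φ n * n⁻¹ ∈ (S : Subgroup L) := by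
    apply hCS
    rw [mem_centralizer_iff]
    intro s hs
    have h2 : n⁻¹ * s * n ∈ (S : Subgroup L) := by
      have h3 := (mem_normalizer_iff.1 (inv_mem hn) s).1 hs
      simpa using h3
    have h3 := hfix _ h2
    rw [map_mul, map_mul, hfix s hs, map_inv] at h3
    calc s * (φ n * n⁻¹) = φ n * ((φ n)⁻¹ * s * φ n) * n⁻¹ := by group
      _ = φ n * (n⁻¹ * s * n) * n⁻¹ := by rw [h3]
      _ = φ n * n⁻¹ * s := by group
  set z := φ n * n⁻¹ with hz
  have hφn : φ n = z * n := by rw [hz]; group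
  have hpow : ∀ k : ℕ, (φ ^ k) n = z ^ k * n := by
    intro k
    induction k with
    | zero => simp
    | succ k ih =>
      rw [pow_succ', MulAut.mul_apply, ih, map_mul, map_pow, hfix z h1, hφn, ← mul_assoc, ← pow_succ]
  have h2 := hpow (orderOf φ)
  rw [pow_orderOf_eq_one, MulAut.one_apply] at h2
  have h3 : z ^ orderOf φ = 1 := by
    have h4 : z ^ orderOf φ * n = 1 * n := by rw [← h2, one_mul]
    exact mul_right_cancel h4
  have h4 : orderOf z ∣ orderOf φ := orderOf_dvd_of_pow_eq_one h3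
  obtain ⟨k, hk⟩ := (IsPGroup.iff_orderOf.1 S.isPGroup') ⟨z, h1⟩
  rw [Subgroup.orderOf_mk] at hk
  rw [hk] at h4
  have h8 : k = 0 := by
    by_contra hk0
    have h9 : 2 ∣ orderOf φ := (dvd_pow_self 2 hk0).trans h4
    exact (Nat.not_even_iff_odd.2 hφ) (even_iff_two_dvd.2 h9)
  rw [h8, pow_zero, orderOf_eq_one_iff] at hk
  rw [hφn, hk, one_mul]

/-- **W4.10.** Let `L` be simple non-abelian with a self-centralizing elementary abelian Sylow 2-subgroup `S` of
order at most 8. An automorphism of odd order which centralizes `C(v)` for some `v ∈ S#` is trivial. -/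
theorem aut_eq_one (hB : Bender L) (hna : ∃ a b : L, a * b ≠ b * a) (S : Sylow 2 L)
    (hS : ∀ x ∈ (S : Subgroup L), x * x = 1) (hcard : Nat.card (S : Subgroup L) < 16)
    (hCS : centralizer ((S : Subgroup L) : Set L) ≤ S) {v : L}
    (hv : v ∈ (S : Subgroup L)) (hv1 : v ≠ 1) (φ : MulAut L) (hφ : Odd (orderOf φ))
    (hfix : ∀ x ∈ centralizer ({v} : Set L), φ x = x) : φ = 1 := by
  have hcomm := comm_of_sq S hS
  have hfixS : ∀ s ∈ (S : Subgroup L), φ s = s := by
    intro s hs
    apply hfix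
    rw [mem_centralizer_singleton_iff]
    exact hcomm s hs v hv
  let M : Subgroup L := φ.toMonoidHom.eqLocus (MonoidHom.id L)
  have hMmem : ∀ x, x ∈ M ↔ φ x = x := fun x => Iff.rfl
  have hN : normalizer ((S : Subgroup L) : Set L) ≤ M := by
    intro n hn
    rw [hMmem]
    exact fix_normalizer S hCS φ hφ hfixS hn
  have hC : centralizer ({v} : Set L) ≤ M := by
    intro x hx
    rw [hMmem]
    exact hfix x hx
  rcases eq_top_or_stronglyEmbedded hna S hS hcard hv hv1 hN hC with h | h
  · ext x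
    have hx : x ∈ M := by rw [h]; trivial
    exact hx
  · obtain ⟨-, -, h3, h4⟩ := structure_of_stronglyEmbedded hB hna S hcomm hcard h
      (le_normalizer.trans hN)
    exact AutFix.eq_one_of_fix S hcomm h4 h3 φ hφ hfixS

end simple

section subgroup

variable {X : Type*} [Group X] [Finite X] {K O : Subgroup X}

/-- **W4.10**, subgroup form. -/
theorem le_centralizer (hK : IsSimpleGroup K) (hB : Bender K) (hna : ∃ a b : K, a * b ≠ b * a)
    (S : Sylow 2 K) (hS : ∀ x ∈ (S : Subgroup K), x * x = 1) (hcard : Nat.card (S : Subgroup K) < 16)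
    (hCS : centralizer ((S : Subgroup K) : Set K) ≤ S) (hO : O ≤ normalizer (K : Set X))
    (hodd : Odd (Nat.card O)) {v : K} (hv : v ∈ (S : Subgroup K)) (hv1 : v ≠ 1)
    (hfix : ∀ o ∈ O, ∀ x ∈ centralizer ({v} : Set K), o * x = x * o) :
    O ≤ centralizer (K : Set X) := by
  intro o ho
  have h1 : normalizerMonoidHom K ⟨o, hO ho⟩ = 1 := by
    refine aut_eq_one hB hna S hS hcard hCS hv hv1 _ ?_ ?_
    · refine Odd.of_dvd_nat (Odd.of_dvd_nat hodd (orderOf_dvd_natCard (⟨o, ho⟩ : O))) ?_
      rw [Subgroup.orderOf_mk]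
      refine (orderOf_map_dvd (normalizerMonoidHom K) _).trans ?_
      rw [Subgroup.orderOf_mk]
    · intro x hx
      apply Subtype.ext
      rw [normalizerMonoidHom_apply_apply_coe]
      change o * (x : X) * o⁻¹ = x
      rw [hfix o ho x hx, mul_inv_cancel_right]
  rw [mem_centralizer_iff]
  intro k hk
  have h2 := congrArg (fun φ : MulAut K => ((φ ⟨k, hk⟩ : K) : X)) h1
  simp only [normalizerMonoidHom_apply_apply_coe, MulAut.one_apply] at h2
  exact (mul_inv_eq_iff_eq_mul.1 h2).symm

end subgroup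

end Cfsg.Agent.Walter.AutFacts
end

-- part: Walter/PSLFacts
section
/-!
# Local facts on the known simple groups with abelian Sylow 2-subgroups
-/

set_option autoImplicit false

namespace Cfsg.Agent.Walter.PSLFacts

open Subgroup Matrix Cfsg.Agent.Walter.Types

section even

variable {F : Type*} [Field F] [CharP F 2]

/-- In `SL(2, F)`, characteristic two, everything commuting with an involution has square one. -/
theorem sl_sq {A X : SpecialLinearGroup (Fin 2) F} (hA : A * A = 1) (hA1 : A ≠ 1)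
    (h : A * X = X * A) : X * X = 1 := by
  have h2 : (2 : F) = 0 := CharTwo.two_eq_zero
  have hAdet := A.det_coe
  have hXdet := X.det_coe
  rw [det_fin_two] at hAdet hXdet
  have hA' : A.1 * A.1 = 1 := congrArg Subtype.val hA
  have h' : A.1 * X.1 = X.1 * A.1 := congrArg Subtype.val h
  have a00 := congrFun (congrFun hA' 0) 0
  have a01 := congrFun (congrFun hA' 0) 1
  have a10 := congrFun (congrFun hA' 1) 0
  have a11 := congrFun (congrFun hA' 1) 1
  have c00 := congrFun (congrFun h' 0) 0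
  have c01 := congrFun (congrFun h' 0) 1
  have c10 := congrFun (congrFun h' 1) 0
  simp only [mul_apply, Fin.sum_univ_two, one_apply, Fin.isValue] at a00 a01 a10 a11 c00 c01 c10
  norm_num only [_root_.ite_true, _root_.zero_ne_one, _root_.ite_false, _root_.one_ne_zero] at a00 a01 a10 a11
  set a := A.1 0 0 with ha
  set b := A.1 0 1 with hb
  set c := A.1 1 0 with hc
  set d := A.1 1 1 with hd
  set x := X.1 0 0 with hx
  set y := X.1 0 1 with hy
  set z := X.1 1 0 with hz
  set w := X.1 1 1 with hw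
  -- the trace of `A` is zero
  have htr : a = d := by
    have e1 : (a - d) * (a - d) = 0 := by
      have : (a + d) * (a + d) = 0 := by
        linear_combination a00 + a11 + 2 * hAdet + 2 * h2
      linear_combination this - 2 * a * d * h2
    exact sub_eq_zero.1 (mul_self_eq_zero.1 e1)
  have hxw : x = w := by
    by_contra hne
    have hne' : w - x ≠ 0 := fun h => hne (sub_eq_zero.1 h).symm
    have hb0 : b = 0 := by
      have e1 : b * (w - x) = 0 := by rw [htr] at c01; linear_combination c01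
      exact (mul_eq_zero.1 e1).resolve_right hne'
    have hc0 : c = 0 := by
      have e1 : c * (w - x) = 0 := by rw [htr] at c10; linear_combination -c10
      exact (mul_eq_zero.1 e1).resolve_right hne'
    have ha1 : a = 1 := by
      rw [hb0, zero_mul, add_zero] at a00
      have e1 : (a - 1) * (a - 1) = 0 := by linear_combination a00 + (1 - a) * h2
      exact sub_eq_zero.1 (mul_self_eq_zero.1 e1)
    apply hA1
    apply Subtype.ext
    ext i j
    fin_cases i <;> fin_cases j
    · simpa using ha1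
    · simpa only [_root_.Fin.zero_eta, _root_.Fin.isValue, _root_.Fin.mk_one, _root_.Matrix.SpecialLinearGroup.coe_one, _root_.Nat.reduceAdd, _root_.ne_eq, _root_.zero_ne_one, _root_.not_false_eq_true, _root_.Matrix.one_apply_ne] using hb0
    · simpa using hc0
    · have : d = 1 := by rw [← htr]; exact ha1
      simpa only [_root_.Fin.mk_one, _root_.Fin.isValue, _root_.Matrix.SpecialLinearGroup.coe_one, _root_.Matrix.one_apply_eq] using this
  apply Subtype.ext
  change X.1 * X.1 = 1
  ext i j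
  fin_cases i <;> fin_cases j
  · simp only [mul_apply, Fin.sum_univ_two, one_apply, Fin.isValue, Fin.zero_eta, if_true]
    change x * x + y * z = 1
    rw [← hxw] at hXdet
    linear_combination hXdet + y * z * h2
  · simp only [mul_apply, Fin.sum_univ_two, one_apply, Fin.isValue, Fin.zero_eta, Fin.mk_one]
    change x * y + y * w = _
    rw [← hxw]
    simp only [zero_ne_one, if_false]
    linear_combination x * y * h2
  · simp only [mul_apply, Fin.sum_univ_two, one_apply, Fin.isValue, Fin.zero_eta, Fin.mk_one]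
    change z * x + w * z = _
    rw [← hxw]
    simp only [one_ne_zero, if_false]
    linear_combination x * z * h2
  · simp only [mul_apply, Fin.sum_univ_two, one_apply, Fin.isValue, Fin.mk_one, if_true]
    change z * y + w * w = 1
    rw [hxw] at hXdet
    linear_combination hXdet + y * z * h2

theorem center_eq_bot : center (SpecialLinearGroup (Fin 2) F) = ⊥ := by
  have h2 : (2 : F) = 0 := CharTwo.two_eq_zero
  rw [eq_bot_iff]
  intro A hA
  obtain ⟨r, hr, hrA⟩ := Matrix.SpecialLinearGroup.mem_center_iff.1 hA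
  rw [Fintype.card_fin] at hr
  have hr1 : r = 1 := by
    have e1 : (r - 1) * (r - 1) = 0 := by linear_combination hr + (1 - r) * h2
    exact sub_eq_zero.1 (mul_self_eq_zero.1 e1)
  rw [mem_bot]
  apply Subtype.ext
  rw [← hrA, hr1]
  simp

/-- In `PSL(2, F)`, characteristic two, everything commuting with an involution has square one. -/
theorem psl_sq {t x : ProjectiveSpecialLinearGroup (Fin 2) F} (ht : t * t = 1) (ht1 : t ≠ 1)
    (h : t * x = x * t) : x * x = 1 := by
  obtain ⟨A, rfl⟩ := QuotientGroup.mk_surjective t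
  obtain ⟨X, rfl⟩ := QuotientGroup.mk_surjective x
  have key : ∀ B C : SpecialLinearGroup (Fin 2) F,
      ((B : SpecialLinearGroup (Fin 2) F ⧸ center (SpecialLinearGroup (Fin 2) F)) = C) ↔ B = C := by
    intro B C
    rw [QuotientGroup.eq, center_eq_bot, mem_bot, inv_mul_eq_one]
  have h1 : A * A = 1 := (key _ _).1 ht
  have h2 : A ≠ 1 := fun h => ht1 (by rw [h]; rfl)
  have h3 : A * X = X * A := (key _ _).1 h
  exact (key _ _).2 (sl_sq h1 h2 h3)

end even

/-- 2-elements normalizing a Sylow 2-subgroup lie in it -/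
theorem mem_of_pow {K : Type*} [Group K] (S : Sylow 2 K) {x : K}
    (hx : x ∈ normalizer ((S : Subgroup K) : Set K)) {n : ℕ} (hn : x ^ 2 ^ n = 1) :
    x ∈ (S : Subgroup K) := by
  have h2 : Fact (Nat.Prime 2) := ⟨Nat.prime_two⟩
  have h1 : IsPGroup 2 (zpowers x) := by
    obtain ⟨m, -, hm⟩ := (Nat.dvd_prime_pow Nat.prime_two).1 (orderOf_dvd_of_pow_eq_one hn)
    exact IsPGroup.of_card (n := m) (by rw [Nat.card_zpowers, hm])
  have h3 : (zpowers x : Subgroup K) ≤ normalizer ((S : Subgroup K) : Set K) := by rwa [zpowers_le]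
  have h5 := IsPGroup.inf_normalizer_sylow h1 S
  have h6 : x ∈ zpowers x ⊓ normalizer ((S : Subgroup K) : Set K) := ⟨mem_zpowers x, hx⟩
  rw [show (zpowers x ⊓ normalizer ((S : Subgroup K) : Set K) : Subgroup K) = _ from h5] at h6
  exact h6.2

theorem le_centralizer_of_comm {K : Type*} [Group K] {S : Subgroup K}
    (hS : ∀ x ∈ S, ∀ y ∈ S, x * y = y * x) {t : K} (ht : t ∈ S) : S ≤ centralizer ({t} : Set K) := by
  intro s hs
  rw [mem_centralizer_singleton_iff]
  exact hS s hs t ht

section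

variable {K : Type*} [Group K] [Finite K]

/-- `PSL(2, 2^n)`: the Sylow 2-subgroups are elementary abelian and equal to the centralizers of their
involutions. -/
theorem even_facts {F : Type*} [Field F] [Fintype F] {n : ℕ} (hn : n ≠ 0) (hF : Fintype.card F = 2 ^ n)
    (e : K ≃* ProjectiveSpecialLinearGroup (Fin 2) F) (S : Sylow 2 K) :
    (∀ s ∈ (S : Subgroup K), s * s = 1) ∧
    (∀ t ∈ (S : Subgroup K), t ≠ 1 → centralizer ({t} : Set K) = S) ∧
    Nat.card (S : Subgroup K) = 2 ^ n := by
  have h2 : Fact (Nat.Prime 2) := ⟨Nat.prime_two⟩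
  have hF2 : CharP F 2 := by
    obtain ⟨p, hp⟩ := CharP.exists F
    have hpp : p.Prime := (CharP.char_is_prime_or_zero F p).resolve_right
      (CharP.char_ne_zero_of_finite F p)
    obtain ⟨m, _, hm⟩ := FiniteField.card F p
    rw [hF] at hm
    have h1 : p = 2 := by
      have h3 : p ∣ 2 ^ n := by rw [hm]; exact dvd_pow_self p m.ne_zero
      exact (Nat.prime_dvd_prime_iff_eq hpp Nat.prime_two).1 (hpp.dvd_of_dvd_pow h3)
    rwa [← h1]
  have hsq : ∀ t x : K, t * t = 1 → t ≠ 1 → t * x = x * t → x * x = 1 := by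
    intro t x ht ht1 h
    apply e.injective
    rw [map_mul, map_one]
    refine psl_sq (t := e t) ?_ ?_ ?_
    · rw [← map_mul, ht, map_one]
    · intro h3; exact ht1 (e.injective (by rw [h3, map_one]))
    · rw [← map_mul, h, map_mul]
  have heven : Even (Fintype.card F) := by rw [hF]; exact (Nat.even_pow' hn).2 even_two
  have hcard : Nat.card K = 2 ^ n * ((2 ^ n) ^ 2 - 1) := by
    rw [Nat.card_congr e.toEquiv, SmallSimple.PSLTwoPart.card_psl_two_even heven, hF]
  obtain ⟨j, hj0⟩ := (IsPGroup.iff_card (p := 2)).1 S.isPGroup'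
  have hj : Nat.card (S : Subgroup K) = 2 ^ j := hj0
  have h3 : 2 ^ n ∣ Nat.card (S : Subgroup K) := AutFacts.pow_dvd S ⟨_, hcard⟩
  have h4 : Nat.card (S : Subgroup K) ∣ 2 ^ n := by
    have h5 : Nat.card (S : Subgroup K) ∣ 2 ^ n * ((2 ^ n) ^ 2 - 1) := by
      rw [← hcard]; exact card_subgroup_dvd_card _
    refine Nat.Coprime.dvd_of_dvd_mul_right ?_ h5
    rw [hj]
    apply Nat.Coprime.pow_left
    rw [Nat.coprime_two_left]
    have h6 : 1 ≤ (2 ^ n) ^ 2 := Nat.one_le_pow _ _ Nat.one_le_two_pow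
    rw [← Nat.not_even_iff_odd]
    intro h7
    have h8 : Even ((2 ^ n) ^ 2) := by
      rw [Nat.even_pow' two_ne_zero, Nat.even_pow' hn]; exact even_two
    have h9 : Even 1 := ((Nat.even_sub h6).1 h7).1 h8
    simp only [_root_.Nat.not_even_one] at h9
  have hcardS : Nat.card (S : Subgroup K) = 2 ^ n := Nat.dvd_antisymm h4 h3
  -- a central involution of `S`
  have hSne : (S : Subgroup K) ≠ ⊥ := by
    intro h
    rw [h, card_bot] at hcardS
    have : 1 < 2 ^ n := Nat.one_lt_two_pow hn
    omega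
  have hSsq : ∀ s ∈ (S : Subgroup K), s * s = 1 := by
    have hnt : Nontrivial (S : Subgroup K) := (nontrivial_iff_ne_bot _).2 hSne
    have h5 : Nontrivial (center (S : Subgroup K)) := S.isPGroup'.center_nontrivial
    obtain ⟨⟨z, hz⟩, hz1⟩ := exists_ne (1 : center (S : Subgroup K))
    obtain ⟨k, hk⟩ := (IsPGroup.iff_orderOf.1 S.isPGroup') z
    have hzne : z ≠ 1 := fun h => hz1 (Subtype.ext h)
    have hk0 : k ≠ 0 := by
      rintro rfl
      rw [pow_zero, orderOf_eq_one_iff] at hk
      exact hzne hk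
    obtain ⟨k, rfl⟩ := Nat.exists_eq_succ_of_ne_zero hk0
    set u := z ^ 2 ^ k with hu
    have hu2 : u * u = 1 := by
      rw [hu, ← pow_two, ← pow_mul, ← pow_succ]
      change z ^ 2 ^ (k.succ) = 1
      rw [← hk, pow_orderOf_eq_one]
    have hu1 : u ≠ 1 := by
      intro h
      have h6 : 2 ^ (k + 1) ∣ 2 ^ k := by
        have := orderOf_dvd_of_pow_eq_one h
        rwa [hk] at this
      have h7 := Nat.le_of_dvd (by positivity) h6
      rw [pow_succ] at h7
      have : 0 < 2 ^ k := by positivity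
      omega
    have huc : u ∈ center (S : Subgroup K) := pow_mem hz _
    intro s hs
    refine hsq u s ?_ ?_ ?_
    · exact congrArg Subtype.val hu2
    · intro h; exact hu1 (Subtype.ext h)
    · exact congrArg Subtype.val (mem_center_iff.1 huc ⟨s, hs⟩).symm
  have hcomm := AutFacts.comm_of_sq S hSsq
  refine ⟨hSsq, ?_, hcardS⟩
  intro t ht ht1
  refine le_antisymm ?_ (le_centralizer_of_comm hcomm ht)
  have h5 : IsPGroup 2 (centralizer ({t} : Set K)) := by
    intro x
    refine ⟨1, Subtype.ext ?_⟩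
    rw [pow_one, pow_two]
    exact hsq t x (hSsq t ht) ht1 (mem_centralizer_singleton_iff.1 x.2).symm
  exact (S.3 h5 (le_centralizer_of_comm hcomm ht)).le

/-- `PSL(2, q)`, `q ≡ 3, 5 mod 8`: self-centralizing Klein four Sylow 2-subgroups. -/
theorem odd_facts {F : Type*} [Field F] [Fintype F]
    (h8 : Fintype.card F % 8 = 3 ∨ Fintype.card F % 8 = 5)
    (e : K ≃* ProjectiveSpecialLinearGroup (Fin 2) F) (S : Sylow 2 K) :
    (∀ s ∈ (S : Subgroup K), s * s = 1) ∧ Nat.card (S : Subgroup K) = 4 ∧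
      centralizer ((S : Subgroup K) : Set K) ≤ S := by
  have h2 : Fact (Nat.Prime 2) := ⟨Nat.prime_two⟩
  have hodd : Odd (Fintype.card F) := by
    rw [Nat.odd_iff]; omega
  have hgood : TwoFusion.PSLTwoGood.Good K := by
    refine TwoFusion.PSLTwoGood.Good.of_mulEquiv e ?_
    let P : Sylow 2 (ProjectiveSpecialLinearGroup (Fin 2) F) := default
    have hk : IsKleinFour (P : Subgroup (ProjectiveSpecialLinearGroup (Fin 2) F)) :=
      Cfsg.Agent.S0276.result rfl h8 P
    refine TwoFusion.PSLTwoGood.good_psl hodd P ?_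
    exact ⟨⟨fun x y => Subtype.ext (TwoFusion.PSLTwoGood.klein_comm hk x.2 y.2)⟩⟩
  have hk := hgood.klein S
  exact ⟨fun s hs => TwoFusion.PSLTwoGood.klein_sq hk hs, hk.card_four, hgood.selfc S⟩

theorem IsOddType.facts (h : IsOddType K) (S : Sylow 2 K) :
    (∀ s ∈ (S : Subgroup K), s * s = 1) ∧ Nat.card (S : Subgroup K) = 4 ∧
      centralizer ((S : Subgroup K) : Set K) ≤ S := by
  obtain ⟨F, i1, i2, h8, -, ⟨e⟩⟩ := h
  exact odd_facts h8 e S

theorem IsEvenType.facts (h : IsEvenType K) (S : Sylow 2 K) :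
    (∀ s ∈ (S : Subgroup K), s * s = 1) ∧
    (∀ t ∈ (S : Subgroup K), t ≠ 1 → centralizer ({t} : Set K) = S) ∧
    ∃ n : ℕ, 2 ≤ n ∧ Nat.card (S : Subgroup K) = 2 ^ n := by
  obtain ⟨F, i1, i2, n, hn, hF, ⟨e⟩⟩ := h
  obtain ⟨h1, h2, h3⟩ := even_facts (by omega) hF e S
  exact ⟨h1, h2, n, hn, h3⟩

theorem z2_sq : ∀ y : Multiplicative (ZMod 2), y * y = 1 := by decide

/-- Janko-Ree type: the Sylow 2-subgroups are self-centralizing -/
theorem IsJR.facts (h : IsJR K) (S : Sylow 2 K) :
    (∀ s ∈ (S : Subgroup K), s * s = 1) ∧ Nat.card (S : Subgroup K) = 8 ∧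
      centralizer ((S : Subgroup K) : Set K) ≤ S := by
  have h2 : Fact (Nat.Prime 2) := ⟨Nat.prime_two⟩
  obtain ⟨⟨S₀, hS₀, hsq₀⟩, F, i1, i2, h8, h5, hC⟩ := h
  have hcard : Nat.card (S : Subgroup K) = 8 := by
    rw [← hS₀]; exact Nat.card_congr (Sylow.equiv S S₀).toEquiv
  have hsq : ∀ s ∈ (S : Subgroup K), s * s = 1 := by
    intro s hs
    have h3 : ((Sylow.equiv S S₀) ⟨s, hs⟩) * ((Sylow.equiv S S₀) ⟨s, hs⟩) = 1 :=
      Subtype.ext (hsq₀ _ ((Sylow.equiv S S₀) ⟨s, hs⟩).2)
    rw [← map_mul] at h3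
    have h4 := (Sylow.equiv S S₀).injective (h3.trans (map_one _).symm)
    exact congrArg Subtype.val h4
  refine ⟨hsq, hcard, ?_⟩
  have hcomm := AutFacts.comm_of_sq S hsq
  -- an involution
  obtain ⟨t, ht, ht1⟩ : ∃ t ∈ (S : Subgroup K), t ≠ 1 := by
    refine (bot_or_exists_ne_one (S : Subgroup K)).resolve_left ?_
    intro h
    rw [h, card_bot] at hcard
    omega
  have ht2 : orderOf t = 2 := by
    rw [orderOf_eq_prime_iff, sq]
    exact ⟨hsq t ht, ht1⟩
  obtain ⟨f⟩ := hC t ht2
  let π : centralizer ({t} : Set K) →* ProjectiveSpecialLinearGroup (Fin 2) F :=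
    (MonoidHom.snd _ _).comp f.toMonoidHom
  have hπker : ∀ x, π x = 1 → x * x = 1 := by
    intro x hx
    apply f.injective
    rw [map_mul, map_one]
    have h3 : (f x).2 = 1 := hx
    refine Prod.ext ?_ ?_
    · exact z2_sq (f x).1
    · change (f x).2 * (f x).2 = 1
      rw [h3, mul_one]
  have hSC := le_centralizer_of_comm hcomm ht
  let S₁ : Subgroup (centralizer ({t} : Set K)) := (S : Subgroup K).subgroupOf _
  have hS₁ : Nat.card S₁ = 8 := by
    rw [← hcard]; exact Nat.card_congr (subgroupOfEquivOfLe hSC).toEquiv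
  -- the image is a Sylow subgroup
  obtain ⟨Q, hQ⟩ : ∃ Q : Sylow 2 (ProjectiveSpecialLinearGroup (Fin 2) F), S₁.map π ≤ Q := by
    apply IsPGroup.exists_le_sylow
    exact IsPGroup.map (S.isPGroup'.comap_subtype) _
  obtain ⟨hQ1, hQ2, hQ3⟩ := odd_facts h8 (MulEquiv.refl _) Q
  have hcards : 4 ≤ Nat.card (S₁.map π) := by
    have h3 : Nat.card (π.subgroupMap S₁).ker * Nat.card (S₁.map π) = Nat.card S₁ := by
      rw [← Nat.card_congr (QuotientGroup.quotientKerEquivOfSurjective _
        (π.subgroupMap_surjective S₁)).toEquiv]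
      exact card_mul_index _
    have h4 : Nat.card (π.subgroupMap S₁).ker ≤ 2 := by
      have h6 : ∀ x : (π.subgroupMap S₁).ker, ∃ y : Multiplicative (ZMod 2),
          f ((x : S₁) : centralizer ({t} : Set K)) = (y, 1) := by
        intro x
        have h7 : π ((x : S₁) : centralizer ({t} : Set K)) = 1 := congrArg Subtype.val x.2
        exact ⟨(f ((x : S₁) : centralizer ({t} : Set K))).1, Prod.ext rfl h7⟩
      choose g hg using h6
      have hg' : Function.Injective g := by
        intro x y hxy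
        apply Subtype.ext
        apply Subtype.ext
        apply f.injective
        rw [hg, hg, hxy]
      have h8 := Nat.card_le_card_of_injective g hg'
      simpa only [_root_.MonoidHom.mem_ker, _root_.ge_iff_le, _root_.Nat.card_eq_fintype_card, _root_.Fintype.card_multiplicative, _root_.ZMod.card] using h8
    rw [hS₁] at h3
    by_contra hcon
    have h6 : Nat.card (S₁.map π) ≤ 3 := by omega
    have := Nat.mul_le_mul h4 h6
    omega
  have hQeq : S₁.map π = Q := by
    apply Subgroup.eq_of_le_of_card_ge hQ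
    rw [hQ2]; exact hcards
  intro x hx
  have hxC : x ∈ centralizer ({t} : Set K) := by
    rw [mem_centralizer_singleton_iff]
    exact ((mem_centralizer_iff.1 hx) t ht).symm
  have h3 : π ⟨x, hxC⟩ ∈ (Q : Subgroup _) := by
    apply hQ3
    rw [mem_centralizer_iff]
    intro y hy
    rw [SetLike.mem_coe, ← hQeq] at hy
    obtain ⟨s, hs, rfl⟩ := hy
    rw [← map_mul, ← map_mul]
    congr 1
    apply Subtype.ext
    exact (mem_centralizer_iff.1 hx) s (mem_subgroupOf.1 hs)
  have h4 : π (⟨x, hxC⟩ * ⟨x, hxC⟩) = 1 := by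
    rw [map_mul]; exact hQ1 _ h3
  have h6 := hπker _ h4
  have h7 : x ^ 2 ^ 2 = 1 := by
    have h9 : x * x * (x * x) = 1 := congrArg Subtype.val h6
    rw [← h9]
    simp [pow_succ, mul_assoc]
  refine mem_of_pow S ?_ h7
  rw [mem_normalizer_iff]
  intro s
  have hxs : ∀ s ∈ (S : Subgroup K), x * s * x⁻¹ = s := by
    intro s hs
    rw [← (mem_centralizer_iff.1 hx) s hs, mul_inv_cancel_right]
  constructor
  · intro hs
    rw [hxs s hs]; exact hs
  · intro hs
    have h9 := hxs _ hs
    have h10 : x * s * x⁻¹ = s := by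
      have := congrArg (fun y => x⁻¹ * y * x) h9
      simpa only [mul_assoc, _root_.inv_mul_cancel_left, _root_.inv_mul_cancel, _root_.mul_one] using this
    rwa [h10] at hs

/-- Sylow 2-subgroups of the known groups are elementary abelian. -/
theorem WType.sq (h : WType K) (S : Sylow 2 K) : ∀ s ∈ (S : Subgroup K), s * s = 1 := by
  rcases h with h | h | h
  · exact (IsEvenType.facts h S).1
  · exact (IsOddType.facts h S).1
  · exact (IsJR.facts h S).1

/-- Sylow 2-subgroups of the known groups are self-centralizing. -/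
theorem WType.selfc (h : WType K) (S : Sylow 2 K) : centralizer ((S : Subgroup K) : Set K) ≤ S := by
  rcases h with h | h | h
  · obtain ⟨h1, h2, n, hn, h3⟩ := IsEvenType.facts h S
    obtain ⟨t, ht, ht1⟩ : ∃ t ∈ (S : Subgroup K), t ≠ 1 := by
      refine (bot_or_exists_ne_one (S : Subgroup K)).resolve_left ?_
      intro h
      rw [h, card_bot] at h3
      have : 1 < 2 ^ n := Nat.one_lt_two_pow (by omega)
      omega
    refine le_trans ?_ (h2 t ht ht1).le
    intro x hx
    rw [mem_centralizer_singleton_iff]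
    exact ((mem_centralizer_iff.1 hx) t ht).symm
  · exact (IsOddType.facts h S).2.2
  · exact (IsJR.facts h S).2.2

omit [Finite K] in
/-- order of a group of Janko-Ree type -/
theorem IsJR.not_card (h : IsJR K) : Nat.card K ≠ 504 := by
  have h2 : Fact (Nat.Prime 2) := ⟨Nat.prime_two⟩
  obtain ⟨⟨S, hS, hsq⟩, F, i1, i2, h8, h5, hC⟩ := h
  obtain ⟨t, ht, ht1⟩ : ∃ t ∈ (S : Subgroup K), t ≠ 1 := by
    refine (bot_or_exists_ne_one (S : Subgroup K)).resolve_left ?_
    intro h
    rw [h, card_bot] at hS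
    omega
  have ht2 : orderOf t = 2 := by
    rw [orderOf_eq_prime_iff, sq]
    exact ⟨hsq t ht, ht1⟩
  obtain ⟨f⟩ := hC t ht2
  have hodd : Odd (Fintype.card F) := by rw [Nat.odd_iff]; omega
  have h3 : Nat.card (centralizer ({t} : Set K)) =
      Fintype.card F * (Fintype.card F ^ 2 - 1) := by
    rw [Nat.card_congr f.toEquiv, Nat.card_prod]
    have h4 := SmallSimple.PSLTwoPart.card_psl_two_odd hodd
    have h6 : Nat.card (Multiplicative (ZMod 2)) = 2 := by
      rw [Nat.card_congr Multiplicative.toAdd, Nat.card_zmod]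
    rw [h6]
    omega
  intro hK
  have h4 : Fintype.card F * (Fintype.card F ^ 2 - 1) ∣ 504 := by
    rw [← hK, ← h3]; exact card_subgroup_dvd_card _
  have h6 := Nat.le_of_dvd (by norm_num) h4
  have h7 : Fintype.card F < 8 := by
    by_contra hcon
    push Not at hcon
    have h9 : 8 ^ 2 ≤ Fintype.card F ^ 2 := Nat.pow_le_pow_left hcon 2
    have h10 : 8 * 63 ≤ Fintype.card F * (Fintype.card F ^ 2 - 1) :=
      Nat.mul_le_mul hcon (by omega)
    have h11 : Fintype.card F = 8 := by
      by_contra hne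
      have h12 : 9 ≤ Fintype.card F := by omega
      have h13 : 9 * 63 ≤ Fintype.card F * (Fintype.card F ^ 2 - 1) :=
        Nat.mul_le_mul h12 (by omega)
      omega
    omega
  have h9 : Fintype.card F = 5 := by omega
  rw [h9] at h4
  revert h4
  decide

/-- no strongly embedded subgroups in groups of Janko-Ree type -/
theorem IsJR.not_stronglyEmbedded (h : IsJR K) (hB : AutFacts.Bender K) (M : Subgroup K) :
    ¬ IsStronglyEmbedded M := by
  intro hM
  let S : Sylow 2 K := default
  have h1 := (IsJR.facts h S).2.1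
  have h3 := (AutFacts.card_eq hB S (by omega) hM).2
  rw [h1] at h3
  exact IsJR.not_card h h3

/-- no strongly embedded subgroups in `PSL(2, q)`, `q ≡ 3, 5 mod 8`, `q ≥ 11`. -/
theorem odd_not_stronglyEmbedded {F : Type*} [Field F] [Fintype F]
    (h8 : Fintype.card F % 8 = 3 ∨ Fintype.card F % 8 = 5) (h11 : 11 ≤ Fintype.card F)
    (e : K ≃* ProjectiveSpecialLinearGroup (Fin 2) F) (hB : AutFacts.Bender K) (M : Subgroup K) :
    ¬ IsStronglyEmbedded M := by
  intro hM
  let S : Sylow 2 K := default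
  have h1 := (odd_facts h8 e S).2.1
  have h3 := (AutFacts.card_eq hB S (by omega) hM).2
  have hodd : Odd (Fintype.card F) := by rw [Nat.odd_iff]; omega
  have h4 := SmallSimple.PSLTwoPart.card_psl_two_odd hodd
  rw [h1, Nat.card_congr e.toEquiv] at h3
  have h9 : 11 ^ 2 ≤ Fintype.card F ^ 2 := Nat.pow_le_pow_left h11 2
  have h10 : 11 * 120 ≤ Fintype.card F * (Fintype.card F ^ 2 - 1) :=
    Nat.mul_le_mul h11 (by omega)
  omega

/-- An odd group of automorphisms of a known group with Sylow 2-subgroup of order `< 16` centralizing an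
involution centralizer is trivial. -/
theorem WType.le_centralizer {X : Type*} [Group X] [Finite X] {K O : Subgroup X}
    (hK : IsSimpleGroup K) (hW : WType K) (hB : AutFacts.Bender K) (hna : ∃ a b : K, a * b ≠ b * a)
    (S : Sylow 2 K) (hcard : Nat.card (S : Subgroup K) < 16) (hO : O ≤ normalizer (K : Set X))
    (hodd : Odd (Nat.card O)) {v : K} (hv : v ∈ (S : Subgroup K)) (hv1 : v ≠ 1)
    (hfix : ∀ o ∈ O, ∀ x ∈ centralizer ({v} : Set K), o * x = x * o) :
    O ≤ centralizer (K : Set X) :=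
  AutFacts.le_centralizer hK hB hna S (WType.sq hW S) hcard (WType.selfc hW S) hO hodd hv hv1 hfix

end

end Cfsg.Agent.Walter.PSLFacts
end
end
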