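import Mathlib
import Cfsg.Agent.FastGrp
import Cfsg.Agent.Prune
set_option linter.all false
prune_inst 0x7f00000000000000000000000000000000000000000000000000000000000000000000000000000000000000000000000000000000000000000000000000000000000000000000000000000000000000003fffffffffffffffffffffffffffbeffbdffffffff
open scoped Cfsg.Agent.FastGrp

/-!
# A transfer argument for linear characters of the centralizer of an involution

Let `C = C_G(t)` and `φ : C →* A` with `A` commutative. If `g ∈ C` and `φ` takes the value `a ^ k` at every element of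
`C` which is conjugate to `g ^ k`, then the transfer of `φ` has the value `a ^ |G : C|` at `g`.
-/

set_option autoImplicit false

namespace Cfsg.Agent.Walter.NoFieldTransfer

open Subgroup MulAction

section transfer

variable {G A : Type*} [Group G] [Finite G] [CommGroup A] {H : Subgroup G}

/-- The transfer at an element on whose powers `φ` is fusion invariant. -/
theorem transfer_eq_pow (φ : H →* A) {g : G} {a : A}
    (key : ∀ (k : ℕ) (x : G) (h : x⁻¹ * g ^ k * x ∈ H), φ ⟨x⁻¹ * g ^ k * x, h⟩ = a ^ k) :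
    φ.transfer g = a ^ H.index := by
  classical
  letI := H.fintypeQuotientOfFiniteIndex
  rw [MonoidHom.transfer_eq_prod_quotient_orbitRel_zpowers_quot, index_eq_sum_minimalPeriod H g,
    ← Finset.prod_pow_eq_pow_sum]
  refine Finset.prod_congr rfl fun q _ => ?_
  exact key _ _ _

/-- The same when `G` has no homomorphism onto a nontrivial subgroup of `A`. -/
theorem pow_index_eq_one (hG : ∀ f : G →* A, f = 1) (φ : H →* A) {g : G} {a : A}
    (key : ∀ (k : ℕ) (x : G) (h : x⁻¹ * g ^ k * x ∈ H), φ ⟨x⁻¹ * g ^ k * x, h⟩ = a ^ k) :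
    a ^ H.index = 1 := by
  rw [← transfer_eq_pow φ key, hG φ.transfer]
  rfl

/-- If `g` has order a power of `r` and `r` does not divide the index then `a = 1`. -/
theorem eq_one_of_not_dvd (hG : ∀ f : G →* A, f = 1) (φ : H →* A) {g : G} {a : A} {r : ℕ}
    (hr : r.Prime) (hg : ∃ n : ℕ, orderOf g = r ^ n) (hgH : g ∈ H) (hind : ¬ r ∣ H.index)
    (key : ∀ (k : ℕ) (x : G) (h : x⁻¹ * g ^ k * x ∈ H), φ ⟨x⁻¹ * g ^ k * x, h⟩ = a ^ k) :
    φ ⟨g, hgH⟩ = 1 := by
  have ha : φ ⟨g, hgH⟩ = a := by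
    have h1 := key 1 1 (by simpa using hgH)
    have h2 : (⟨1⁻¹ * g ^ 1 * 1, by simpa using hgH⟩ : H) = ⟨g, hgH⟩ := Subtype.ext (by simp)
    rw [h2, pow_one] at h1
    exact h1
  rw [ha]
  have h1 := pow_index_eq_one hG φ key
  obtain ⟨n, hn⟩ := hg
  have h2 : a ^ (r ^ n) = 1 := by
    rw [← ha, ← hn, ← map_pow]
    have : (⟨g, hgH⟩ : H) ^ orderOf g = 1 := Subtype.ext (by simp [pow_orderOf_eq_one])
    rw [this, map_one]
  have h3 : orderOf a ∣ Nat.gcd (r ^ n) H.index :=
    Nat.dvd_gcd (orderOf_dvd_of_pow_eq_one h2) (orderOf_dvd_of_pow_eq_one h1)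
  have h4 : Nat.gcd (r ^ n) H.index = 1 :=
    Nat.Coprime.pow_left n ((Nat.Prime.coprime_iff_not_dvd hr).2 hind)
  rw [h4, Nat.dvd_one] at h3
  exact orderOf_eq_one_iff.1 h3

end transfer

section conj

variable {G : Type*} [Group G] [Finite G]

/-- If the Sylow 2-subgroup `S` and elements fusing all involutions of `S` centralise `x` then all involutions of
`C(x)` are conjugate in `C(x)`. -/
theorem exists_conj_centralizer {S : Sylow 2 G} {t x : G} (hS : (S : Subgroup G) ≤ centralizer {x})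
    (htr : ∀ s ∈ (S : Subgroup G), s ≠ 1 → s * s = 1 → ∃ n ∈ centralizer ({x} : Set G), n * t * n⁻¹ = s)
    {s : G} (hs : orderOf s = 2) (hsx : s ∈ centralizer ({x} : Set G)) :
    ∃ n ∈ centralizer ({x} : Set G), n * t * n⁻¹ = s := by
  haveI : Fact (Nat.Prime 2) := ⟨Nat.prime_two⟩
  set C := centralizer ({x} : Set G) with hC
  have hP : IsPGroup 2 (zpowers (⟨s, hsx⟩ : C)) := by
    rw [IsPGroup.iff_card]
    refine ⟨1, ?_⟩
    rw [Nat.card_zpowers, Subgroup.orderOf_mk, hs, pow_one]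
  obtain ⟨Q, hQ⟩ := hP.exists_le_sylow
  obtain ⟨g, hg⟩ := MulAction.exists_smul_eq C Q (S.subtype hS)
  have h1 : g * (⟨s, hsx⟩ : C) * g⁻¹ ∈ (S.subtype hS : Subgroup C) := by
    rw [← hg, Sylow.coe_subgroup_smul, mem_pointwise_smul_iff_inv_smul_mem]
    have h2 : (MulAut.conj g)⁻¹ • (g * (⟨s, hsx⟩ : C) * g⁻¹) = ⟨s, hsx⟩ := by
      rw [inv_smul_eq_iff, MulAut.smul_def, MulAut.conj_apply]
    rw [h2]
    exact hQ (mem_zpowers _)
  have h2 : (g : G) * s * (g : G)⁻¹ ∈ (S : Subgroup G) := by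
    have := h1
    rw [Sylow.coe_subtype, mem_subgroupOf] at this
    exact this
  have h3 : orderOf ((g : G) * s * (g : G)⁻¹) = 2 := by
    rw [← hs]
    exact (MulAut.conj (g : G)).orderOf_eq s
  have h4 : (g : G) * s * (g : G)⁻¹ ≠ 1 := by
    intro h
    rw [h, orderOf_one] at h3
    omega
  have h5 : ((g : G) * s * (g : G)⁻¹) * ((g : G) * s * (g : G)⁻¹) = 1 := by
    rw [← pow_two, ← h3]
    exact pow_orderOf_eq_one _
  obtain ⟨n, hn, hn2⟩ := htr _ h2 h4 h5
  refine ⟨(g : G)⁻¹ * n, C.mul_mem (C.inv_mem g.2) hn, ?_⟩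
  rw [mul_inv_rev, inv_inv]
  calc (g : G)⁻¹ * n * t * (n⁻¹ * g) = (g : G)⁻¹ * (n * t * n⁻¹) * g := by group
    _ = s := by rw [hn2]; group

end conj

section main

variable {G A : Type*} [Group G] [Finite G] [CommGroup A]

/-- **The transfer argument.** `t` is an involution of `S ∈ Syl₂(G)`, `φ` a homomorphism of `C(t)` into a commutative
group, `g ∈ C(t)`. Assume that `S` and, for all nontrivial powers `x` of `g`, elements of `C(x)` fusing the
involutions of `S` centralise `x`. If `g` is an `r`-element and `r` does not divide `|G : C(t)|` then `φ g = 1`, provided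
`G` has no nontrivial homomorphism to `A`. -/
theorem eq_one (hG : ∀ f : G →* A, f = 1) {S : Sylow 2 G} {t : G} (ht : orderOf t = 2)
    (φ : centralizer ({t} : Set G) →* A) {g : G} (hgt : g ∈ centralizer ({t} : Set G))
    (hS : (S : Subgroup G) ≤ centralizer ({g} : Set G))
    (htr : ∀ s ∈ (S : Subgroup G), s ≠ 1 → s * s = 1 →
      ∃ n ∈ centralizer ({g} : Set G), n * t * n⁻¹ = s)
    {r : ℕ} (hr : r.Prime) (hg : ∃ n : ℕ, orderOf g = r ^ n)
    (hind : ¬ r ∣ (centralizer ({t} : Set G)).index) :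
    φ ⟨g, hgt⟩ = 1 := by
  refine eq_one_of_not_dvd (a := φ ⟨g, hgt⟩) hG φ hr hg hgt hind ?_
  intro k x h
  have hcent : centralizer ({g} : Set G) ≤ centralizer ({g ^ k} : Set G) := by
    intro y hy
    rw [mem_centralizer_singleton_iff] at hy ⊢
    exact (Commute.pow_right (show Commute y g from hy) k).eq
  -- the involution `x t x⁻¹` centralises `g ^ k`
  have h1 : x * t * x⁻¹ ∈ centralizer ({g ^ k} : Set G) := by
    rw [mem_centralizer_singleton_iff] at h ⊢
    have h2 : x * (x⁻¹ * g ^ k * x * t) * x⁻¹ = x * (t * (x⁻¹ * g ^ k * x)) * x⁻¹ := by rw [h]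
    have h3 : x * (x⁻¹ * g ^ k * x * t) * x⁻¹ = g ^ k * (x * t * x⁻¹) := by group
    have h4 : x * (t * (x⁻¹ * g ^ k * x)) * x⁻¹ = x * t * x⁻¹ * g ^ k := by group
    rw [h3, h4] at h2
    exact h2.symm
  have h2 : orderOf (x * t * x⁻¹) = 2 := by
    rw [← ht]
    exact (MulAut.conj x).orderOf_eq t
  obtain ⟨n, hn, hn2⟩ := exists_conj_centralizer (S := S) (t := t) (x := g ^ k)
    (hS.trans hcent) (fun s hs hs1 hs2 => by
      obtain ⟨n, hn, hn2⟩ := htr s hs hs1 hs2
      exact ⟨n, hcent hn, hn2⟩) h2 h1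
  -- `c = n⁻¹ x` centralises `t`
  have h3 : n⁻¹ * x ∈ centralizer ({t} : Set G) := by
    rw [mem_centralizer_singleton_iff]
    have h4 : n⁻¹ * (n * t * n⁻¹) * x = n⁻¹ * (x * t * x⁻¹) * x := by rw [hn2]
    have h5 : n⁻¹ * (n * t * n⁻¹) * x = t * (n⁻¹ * x) := by group
    have h6 : n⁻¹ * (x * t * x⁻¹) * x = n⁻¹ * x * t := by group
    rw [h5, h6] at h4
    exact h4.symm
  have h4 : g ^ k ∈ centralizer ({t} : Set G) := pow_mem hgt k
  have h5 : x⁻¹ * g ^ k * x = (n⁻¹ * x)⁻¹ * g ^ k * (n⁻¹ * x) := by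
    rw [mem_centralizer_singleton_iff] at hn
    have h6 : n * g ^ k * n⁻¹ = g ^ k := by rw [hn]; group
    calc x⁻¹ * g ^ k * x = x⁻¹ * (n * g ^ k * n⁻¹) * x := by rw [h6]
      _ = (n⁻¹ * x)⁻¹ * g ^ k * (n⁻¹ * x) := by group
  have h6 : (⟨x⁻¹ * g ^ k * x, h⟩ : centralizer ({t} : Set G)) =
      (⟨n⁻¹ * x, h3⟩ : centralizer ({t} : Set G))⁻¹ * ⟨g, hgt⟩ ^ k * ⟨n⁻¹ * x, h3⟩ := by
    apply Subtype.ext
    simpa using h5
  rw [h6, map_mul, map_mul, map_inv, map_pow, mul_comm, mul_inv_cancel_left]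

end main

end Cfsg.Agent.Walter.NoFieldTransfer
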