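import Cfsg.Agent.S0664
import Cfsg.Agent.PLocal.ThompsonJA
import Cfsg.Agent.PLocal.PConstrained
import Cfsg.Agent.PLocal.Constrained
import Cfsg.Agent.PLocal.ConjFunctor
import Cfsg.Agent.Lib.GoldschmidtFusion
import Cfsg.Agent.Lib.Involves
import Cfsg.Agent.Lib.Cores
import Cfsg.Agent.Lib.CoprimeStab
import Cfsg.Agent.Lib.ProductSet
set_option linter.all false

-- part: Walter/ZJFusion
section
/-!
# Glauberman's fusion theorem

For an odd prime `p`, in a finite group with no section isomorphic to `Qd(p)`, the normalizer of `Z(J(P))` controls the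
fusion of subgroups of the Sylow `p`-subgroup `P`.
-/

set_option autoImplicit false

namespace Cfsg.Agent.Walter.ZJFusion

open Subgroup Cfsg
open Cfsg.Agent.Lib.Involves (Involves)
open Cfsg.Agent.PLocal
open Cfsg.Agent.Lib.GoldschmidtFusion

/-! ### A factorization for groups with a centric normal `p`-subgroup -/

section CentricFactor

variable {N : Type*} [Group N] [Finite N] {p : ℕ} [hpf : Fact p.Prime]

omit [Finite N] in
/-- `Z(J(P))` commutes with taking images under a homomorphism injective on `P`. -/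
theorem map_ZJ_of_disjoint {H : Type*} [Group H] (φ : N →* H) {P : Subgroup N}
    (hd : P ⊓ φ.ker = ⊥) :
    (centerThompsonAOf P).map φ = centerThompsonAOf (P.map φ) := by
  have hinj : Function.Injective (φ.comp P.subtype) := by
    rw [injective_iff_map_eq_one]
    intro x hx
    have h1 : (x : N) ∈ P ⊓ φ.ker := ⟨x.2, hx⟩
    rw [hd, mem_bot] at h1
    exact Subtype.ext h1
  have e1 := ThompsonJA.map_centerThompsonAOf P.subtype P.subtype_injective (⊤ : Subgroup P)
  have e2 := ThompsonJA.map_centerThompsonAOf (φ.comp P.subtype) hinj (⊤ : Subgroup P)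
  have e3 : (⊤ : Subgroup P).map P.subtype = P := by
    rw [← MonoidHom.range_eq_map, range_subtype]
  rw [e3] at e1
  rw [← Subgroup.map_map, e1, ← Subgroup.map_map, e3] at e2
  exact e2

theorem centric_factor (hp : p ≠ 2) (hfree : ¬ Involves N ↥(Cfsg.qd p)) (P : Sylow p N)
    (D : Subgroup N) [hDn : D.Normal] (hDP : D ≤ (P : Subgroup N))
    (hC : centralizer (D : Set N) ⊓ (P : Subgroup N) ≤ D) :
    pPrimeCore p N ≤ centralizer (D : Set N) ∧
      (centerThompsonAOf (P : Subgroup N) ⊔ pPrimeCore p N).Normal ∧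
      normalizer (centerThompsonAOf (P : Subgroup N) : Set N) ⊔ pPrimeCore p N = ⊤ := by
  set K := pPrimeCore p N with hK
  have hKn : K.Normal := Lib.Cores.pPrimeCore_normal p
  have hKc : (Nat.card K).Coprime p := Lib.Cores.pPrimeCore_coprime p
  have hDp : IsPGroup p D := P.isPGroup'.to_le hDP
  have hDK : D ⊓ K = ⊥ := PConstrained.inf_eq_bot_of_isPGroup_of_coprime hDp hKc
  have hPK : (P : Subgroup N) ⊓ K = ⊥ :=
    PConstrained.inf_eq_bot_of_isPGroup_of_coprime P.isPGroup' hKc
  have h1 : K ≤ centralizer (D : Set N) := by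
    intro k hk
    rw [mem_centralizer_iff]
    intro d hd
    exact commute_of_normal_of_disjoint D K hDn hKn (disjoint_iff.mpr hDK) d k hd hk
  refine ⟨h1, ?_⟩
  set φ := QuotientGroup.mk' K with hφ
  have hφs : Function.Surjective φ := QuotientGroup.mk'_surjective K
  have hker : φ.ker = K := QuotientGroup.ker_mk' K
  have hkc : (Nat.card φ.ker).Coprime p := by rw [hker]; exact hKc
  set C := centralizer (D : Set N) with hCdef
  have hCn : C.Normal := by
    rw [hCdef]; infer_instance
  have hCmap : C.map φ = centralizer ((D.map φ : Subgroup (N ⧸ K)) : Set (N ⧸ K)) :=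
    PConstrained.map_centralizer_eq φ hφs hkc hDp
  have hDle : D.map φ ≤ pCore p (N ⧸ K) :=
    Lib.Cores.le_pCore (hDn.map φ hφs) (hDp.map φ)
  -- `C̄ ≤ D̄`
  have hCD : C.map φ ≤ (C ⊓ D).map φ := by
    refine Constrained.eq_of_central_of_coprime (p := p)
      (Lib.Cores.pPrimeCore_quotient_pPrimeCore p) (hCn.map φ hφs)
      ((hDp.to_le inf_le_right).map φ) (map_mono inf_le_left) ?_ ?_
    · rintro _ ⟨z, hz, rfl⟩ _ ⟨y, hy, rfl⟩
      rw [← map_mul, ← map_mul, (mem_centralizer_iff.mp hy) z hz.2]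
    · have hdvd : ((C ⊓ D).map φ).relIndex (C.map φ) ∣ (C ⊓ D).relIndex C := by
        rw [relIndex_map_map]
        refine (relIndex_dvd_of_le_left _ (le_sup_left : C ⊓ D ≤ (C ⊓ D) ⊔ φ.ker)).trans ?_
        rw [sup_eq_left.2 (by rw [hker]; exact h1 : φ.ker ≤ C)]
      refine Nat.Coprime.coprime_dvd_left hdvd ?_
      have e1 : (C ⊓ D).relIndex C = (P : Subgroup N).relIndex C := by
        rw [← inf_relIndex_right (P : Subgroup N) C]
        congr 1
        apply le_antisymm
        · exact le_inf (inf_le_right.trans hDP) inf_le_left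
        · refine le_inf inf_le_right ?_
          rw [inf_comm]; exact hC
      rw [e1]
      have h3 : ¬ p ∣ (P : Subgroup N).relIndex C := fun h =>
        P.not_dvd_index (h.trans (relIndex_dvd_index_of_normal_right _ _))
      exact ((Nat.Prime.coprime_iff_not_dvd hpf.out).2 h3).symm
  have hc : centralizer (pCore p (N ⧸ K) : Set (N ⧸ K)) ≤ pCore p (N ⧸ K) := by
    refine le_trans (centralizer_le (by exact_mod_cast hDle)) ?_
    rw [← hCmap]
    exact hCD.trans ((map_mono inf_le_right).trans hDle)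
  have hfree' : ¬ ∃ (K' R : Subgroup (N ⧸ K)) (hR : (R.subgroupOf K').Normal),
      Nonempty ((K' ⧸ R.subgroupOf K') ≃* ↥(Cfsg.qd p)) := fun h =>
    hfree (Lib.Involves.of_quotient (Lib.Involves.involves_iff.2 h))
  have hZ := Cfsg.Agent.S0664.result hp hfree' hc (P.mapSurjective hφs)
  rw [Sylow.coe_mapSurjective, ← map_ZJ_of_disjoint φ (by rw [hker]; exact hPK)] at hZ
  have hZp : IsPGroup p (centerThompsonAOf (P : Subgroup N)) :=
    P.isPGroup'.to_le (ThompsonJA.centerThompsonAOf_le _)
  constructor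
  · have h4 := hZ.comap φ
    rwa [comap_map_eq, hker] at h4
  · have h5 := PConstrained.map_normalizer_eq φ hφs hkc hZp
    have h6 : normalizer (((centerThompsonAOf (P : Subgroup N)).map φ : Subgroup (N ⧸ K)) :
        Set (N ⧸ K)) = ⊤ := normalizer_eq_top_iff.2 hZ
    rw [h6] at h5
    have h7 := congrArg (Subgroup.comap φ) h5
    rwa [comap_map_eq, hker, comap_top] at h7

end CentricFactor

/-! ### The same inside a subgroup -/

section CentricFactorIn

variable {G : Type*} [Group G] [Finite G] {p : ℕ} [hpf : Fact p.Prime]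

theorem centric_factor_in (hp : p ≠ 2) (hfree : ¬ Involves G ↥(Cfsg.qd p)) {N R D : Subgroup G}
    (hRN : R ≤ N) (hR : IsPGroup p R) (hidx : ¬ p ∣ R.relIndex N) (hDR : D ≤ R)
    (hDN : N ≤ normalizer (D : Set G)) (hC : centralizer (D : Set G) ⊓ R ≤ D) :
    (pPrimeCore p N).map N.subtype ≤ centralizer (D : Set G) ∧
      N ≤ normalizer ((centerThompsonAOf R ⊔ (pPrimeCore p N).map N.subtype : Subgroup G) : Set G) ∧
      ∀ g ∈ N, ∃ y ∈ N ⊓ normalizer (centerThompsonAOf R : Set G),
        ∃ u ∈ (pPrimeCore p N).map N.subtype, g = y * u := by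
  have hfree' : ¬ Involves N ↥(Cfsg.qd p) := fun h => hfree (Lib.Involves.of_subgroup h)
  have hR' : IsPGroup p (R.subgroupOf N) := hR.comap_of_injective N.subtype N.subtype_injective
  let P : Sylow p N := hR'.toSylow hidx
  have hPR : (P : Subgroup N) = R.subgroupOf N := rfl
  have hPmap : (P : Subgroup N).map N.subtype = R := by
    rw [hPR, subgroupOf_map_subtype, inf_eq_left.2 hRN]
  have hDN' : D ≤ N := hDR.trans hRN
  have hDn : (D.subgroupOf N).Normal := by
    rwa [normal_subgroupOf_iff_le_normalizer hDN']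
  have hDP : D.subgroupOf N ≤ (P : Subgroup N) := by
    rw [hPR]
    exact comap_mono hDR
  have hC' : centralizer ((D.subgroupOf N : Subgroup N) : Set N) ⊓ (P : Subgroup N) ≤
      D.subgroupOf N := by
    rintro x ⟨hx1, hx2⟩
    refine hC ⟨?_, hx2⟩
    change (x : G) ∈ centralizer (D : Set G)
    rw [mem_centralizer_iff]
    intro d hd
    exact congrArg Subtype.val ((mem_centralizer_iff.1 hx1) (⟨d, hDN' hd⟩ : N) hd)
  have hmap : (centerThompsonAOf (P : Subgroup N)).map N.subtype = centerThompsonAOf R := by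
    rw [ThompsonJA.map_centerThompsonAOf N.subtype N.subtype_injective, hPmap]
  obtain ⟨h1, h2, h3⟩ := centric_factor hp hfree' P (D.subgroupOf N) hDP hC'
  refine ⟨?_, ?_, ?_⟩
  · rintro _ ⟨k, hk, rfl⟩
    rw [mem_centralizer_iff]
    intro d hd
    exact congrArg Subtype.val ((mem_centralizer_iff.1 (h1 hk)) (⟨d, hDN' hd⟩ : N) hd)
  · rw [← hmap, ← Subgroup.map_sup]
    intro g hg
    rw [mem_normalizer_iff_map_conj]
    apply map_conj_le_of_le_normalizer
    rintro _ ⟨_, ⟨x, hx, rfl⟩, rfl⟩
    exact ⟨⟨g, hg⟩ * x * ⟨g, hg⟩⁻¹, h2.conj_mem x hx _, rfl⟩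
  · intro g hg
    have h4 : (⟨g, hg⟩ : N) ∈ normalizer (centerThompsonAOf (P : Subgroup N) : Set N) ⊔
        pPrimeCore p N := by rw [h3]; trivial
    have : (pPrimeCore p N).Normal := Lib.Cores.pPrimeCore_normal p
    rw [mem_sup_of_normal_right] at h4
    obtain ⟨y, hy, u, hu, hyu⟩ := h4
    refine ⟨y, ⟨y.2, ?_⟩, u, ⟨u, hu, rfl⟩, (congrArg Subtype.val hyu).symm⟩
    change (y : G) ∈ normalizer (centerThompsonAOf R : Set G)
    rw [mem_normalizer_iff_map_conj] at hy ⊢
    rw [← hmap]
    have e : (MulAut.conj (y : G)).toMonoidHom.comp N.subtype =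
        N.subtype.comp (MulAut.conj y).toMonoidHom := by
      ext x; rfl
    rw [Subgroup.map_map, e, ← Subgroup.map_map, hy]

end CentricFactorIn

end Cfsg.Agent.Walter.ZJFusion
end

-- part: Walter/GlaubermanFusion
section
/-!
# Glauberman's fusion theorem

For an odd prime `p`, in a finite group with no section isomorphic to `Qd(p)`, the normalizer of `Z(J(P))` controls the
fusion of subgroups of the Sylow `p`-subgroup `P` (strong form: for every `A ≤ P` and `g` with `g A g⁻¹ ≤ P` there are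
`n ∈ N_G(Z(J(P)))` and `c ∈ C_G(A)` with `g = n c`).
-/

set_option autoImplicit false

namespace Cfsg.Agent.Walter.GlaubermanFusion

open Subgroup Cfsg
open scoped Pointwise commutatorElement
open Cfsg.Agent.Lib.Involves (Involves)
open Cfsg.Agent.PLocal
open Cfsg.Agent.Lib.GoldschmidtFusion

/-! ### Good pairs -/

section Good

variable {G : Type*} [Group G]

/-- Conjugation by `g` on `A` is induced by an element of `M`. -/
def Good (M A : Subgroup G) (g : G) : Prop := ∃ n ∈ M, ∃ c ∈ centralizer (A : Set G), g = n * c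

variable {M A B : Subgroup G} {g h : G}

theorem Good.of_mem (hg : g ∈ M) : Good M A g := ⟨g, hg, 1, one_mem _, (mul_one g).symm⟩

theorem Good.of_cent (hg : g ∈ centralizer (A : Set G)) : Good M A g :=
  ⟨1, one_mem _, g, hg, (one_mul g).symm⟩

theorem Good.mono (hg : Good M A g) (h : B ≤ A) : Good M B g := by
  obtain ⟨n, hn, c, hc, rfl⟩ := hg
  exact ⟨n, hn, c, centralizer_le (by exact_mod_cast h) hc, rfl⟩

theorem Good.mul (hg : Good M A g) (hh : Good M (A.map (MulAut.conj g).toMonoidHom) h) :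
    Good M A (h * g) := by
  obtain ⟨n₁, hn₁, c₁, hc₁, hg⟩ := hg
  obtain ⟨n₂, hn₂, c₂, hc₂, hh⟩ := hh
  rw [mem_centralizer_map_conj] at hc₂
  refine ⟨n₂ * n₁, mul_mem hn₂ hn₁, c₁ * (g⁻¹ * c₂ * g), mul_mem hc₁ hc₂, ?_⟩
  have e : n₂ * n₁ * (c₁ * (g⁻¹ * c₂ * g)) = n₂ * (n₁ * c₁) * g⁻¹ * c₂ * g := by group
  rw [e, ← hg, hh]
  group

theorem Good.symm (hg : Good M A g) : Good M (A.map (MulAut.conj g).toMonoidHom) g⁻¹ := by
  obtain ⟨n, hn, c, hc, hg⟩ := hg
  refine ⟨n⁻¹, inv_mem hn, n * c⁻¹ * n⁻¹, ?_, by rw [hg]; group⟩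
  rw [mem_centralizer_map_conj]
  have e : g⁻¹ * (n * c⁻¹ * n⁻¹) * g = c⁻¹ := by rw [hg]; group
  rw [e]
  exact inv_mem hc

theorem Good.mono_left {M' : Subgroup G} (hg : Good M A g) (h : M ≤ M') : Good M' A g := by
  obtain ⟨n, hn, c, hc, rfl⟩ := hg
  exact ⟨n, h hn, c, hc, rfl⟩

theorem Good.of_gen [Finite G] {P : Subgroup G} {F : Subgroup G → Prop} (hgen : Gen P F A g) :
    (∀ X : Subgroup G, X ≤ P → F X → Nat.card A ≤ Nat.card X → ∀ x ∈ normalizer (X : Set G),
      Good M X x) → Good M A g := by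
  induction hgen with
  | cent _ hc => intro _; exact Good.of_cent hc
  | @base A X g hX hF hAX hg =>
    intro hM
    refine (hM X hX hF ?_ g hg).mono hAX
    exact Subgroup.card_le_of_le hAX
  | @mul A g h _ _ ih1 ih2 =>
    intro hM
    refine (ih1 hM).mul (ih2 ?_)
    intro X hX hF hc
    rw [card_map_conj] at hc
    exact hM X hX hF hc

end Good

/-! ### General lemmas -/

section General

variable {G : Type*} [Group G] [Finite G] {p : ℕ} [hpf : Fact p.Prime]

/-- If all `p'`-elements of `X` lie in the normal subgroup `C` of `X` and `R` is Sylow in `X`, then `X = R C`. -/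
theorem exists_mul_of_pprime_mem {X R C : Subgroup G} (hRX : R ≤ X) (hidx : ¬ p ∣ R.relIndex X)
    (hCX : C ≤ X) (hXC : X ≤ normalizer (C : Set G))
    (h : ∀ x ∈ X, Nat.Coprime (orderOf x) p → x ∈ C) {x : G} (hx : x ∈ X) :
    ∃ s ∈ R, ∃ c ∈ C, x = s * c := by
  have hnorm : (C.subgroupOf X).Normal := by
    rwa [normal_subgroupOf_iff_le_normalizer hCX]
  have hpg : IsPGroup p (X ⧸ C.subgroupOf X) := by
    intro x
    obtain ⟨y, rfl⟩ := QuotientGroup.mk_surjective x
    obtain ⟨k, m, hm, hkm⟩ := Nat.exists_eq_pow_mul_and_not_dvd (orderOf_pos (y : G)).ne' p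
      hpf.out.one_lt.ne'
    refine ⟨k, ?_⟩
    rw [← QuotientGroup.mk_pow, QuotientGroup.eq_one_iff, mem_subgroupOf]
    apply h
    · exact (y ^ p ^ k).2
    · rw [Subgroup.coe_pow, orderOf_pow_of_dvd (pow_ne_zero _ hpf.out.ne_zero)
        (by rw [hkm]; exact Dvd.intro _ rfl), hkm, Nat.mul_div_cancel_left _ (pow_pos hpf.out.pos _)]
      exact ((Nat.Prime.coprime_iff_not_dvd hpf.out).2 hm).symm
  have hKN : R ⊔ C = X := by
    apply le_antisymm (sup_le hRX hCX)
    rw [← relIndex_eq_one]
    obtain ⟨j, hj⟩ := (IsPGroup.iff_card.1 hpg)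
    have h1 : (R ⊔ C).relIndex X ∣ p ^ j := by
      rw [← hj]
      exact relIndex_dvd_of_le_left X le_sup_right
    have h2 : (R ⊔ C).relIndex X ∣ R.relIndex X := relIndex_dvd_of_le_left X le_sup_left
    obtain ⟨i, -, hi⟩ := (Nat.dvd_prime_pow hpf.out).1 h1
    rcases Nat.eq_zero_or_pos i with h0 | h0
    · rw [hi, h0, pow_zero]
    · exfalso
      apply hidx
      refine dvd_trans ?_ h2
      rw [hi]
      exact dvd_pow_self p h0.ne'
  have hmem : x ∈ (((R ⊔ C : Subgroup G)) : Set G) := by
    rw [hKN]; exact hx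
  rw [coe_mul_of_left_le_normalizer_right _ _ (hRX.trans hXC)] at hmem
  obtain ⟨s, hs, c, hc, rfl⟩ := Set.mem_mul.1 hmem
  exact ⟨s, hs, c, hc, rfl⟩

omit hpf in
/-- A Sylow subgroup of `N` meets a normal subgroup `X` of `N` in a Sylow subgroup of `X`. -/
theorem not_dvd_relIndex_inf {N X R : Subgroup G} (hXN : X ≤ N) (hNX : N ≤ normalizer (X : Set G))
    (h : ¬ p ∣ R.relIndex N) : ¬ p ∣ (R ⊓ X).relIndex X := by
  have hn : (X.subgroupOf N).Normal := by
    rwa [normal_subgroupOf_iff_le_normalizer hXN]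
  rw [inf_relIndex_right]
  intro hd
  apply h
  refine hd.trans ?_
  have e1 : R.relIndex X = (R.subgroupOf N).relIndex (X.subgroupOf N) := by
    rw [relIndex_subgroupOf hXN]
  have e2 : R.relIndex N = (R.subgroupOf N).index := rfl
  rw [e1, e2]
  exact relIndex_dvd_index_of_normal_right _ _

omit [Finite G] in
/-- Conjugation by `g`, element form of `A.map (conj g) ≤ B`. -/
theorem map_conj_le_iff {A B : Subgroup G} {g : G} :
    A.map (MulAut.conj g).toMonoidHom ≤ B ↔ ∀ a ∈ A, g * a * g⁻¹ ∈ B := by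
  constructor
  · intro h a ha
    exact h (conj_mem_map_conj ha g)
  · rintro h _ ⟨a, ha, rfl⟩
    exact h a ha

omit hpf [Finite G] in
/-- Product formula when `A` normalizes `L`. -/
theorem card_sup_mul_card_inf {A L : Subgroup G} (h : A ≤ normalizer (L : Set G)) :
    Nat.card (A ⊔ L : Subgroup G) * Nat.card (A ⊓ L : Subgroup G) = Nat.card A * Nat.card L := by
  rw [← Lib.ProductSet.card_mul_card_inf A L]
  congr 1
  have e := coe_mul_of_left_le_normalizer_right A L h
  rw [← e]
  rfl

omit hpf [Finite G] in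
theorem card_mul_relIndex_of_le {A B : Subgroup G} (h : A ≤ B) :
    Nat.card A * A.relIndex B = Nat.card B := by
  have := Subgroup.relIndex_mul_relIndex (⊥ : Subgroup G) A B bot_le h
  rwa [relIndex_bot_left, relIndex_bot_left] at this

/-- Control modulo a `p'`-subgroup: `K` is normalized by the `p`-group `A`, of order prime to `p`, `u ∈ K` and
`u A u⁻¹ ≤ M`, `A ≤ M`: then conjugation by `u` on `A` is induced by an element of `K ⊓ M`. -/
theorem exists_of_pprime {A K M : Subgroup G} (hA : IsPGroup p A) (hK : (Nat.card K).Coprime p)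
    (hAK : A ≤ normalizer (K : Set G)) (hAM : A ≤ M) {u : G} (hu : u ∈ K)
    (huA : ∀ a ∈ A, u * a * u⁻¹ ∈ M) :
    ∃ w ∈ K ⊓ M, ∃ c ∈ centralizer (A : Set G), u = w * c := by
  have hAK' : A ≤ normalizer ((K ⊓ M : Subgroup G) : Set G) := by
    rw [le_normalizer_iff] at hAK ⊢
    intro a ha k hk
    exact ⟨hAK a ha k hk.1, M.mul_mem (M.mul_mem (hAM ha) hk.2) (M.inv_mem (hAM ha))⟩
  have hKM : (Nat.card (K ⊓ M : Subgroup G)).Coprime p :=
    Nat.Coprime.coprime_dvd_left (card_dvd_of_le inf_le_left) hK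
  -- `A` is Sylow in `A ⊔ (K ⊓ M)`
  have hidx : ¬ p ∣ A.relIndex (A ⊔ (K ⊓ M)) := by
    intro hd
    have h1 := card_sup_mul_card_inf hAK'
    rw [← card_mul_relIndex_of_le (le_sup_left : A ≤ A ⊔ (K ⊓ M)), mul_assoc] at h1
    have h2 := Nat.eq_of_mul_eq_mul_left Nat.card_pos h1
    have h3 : p ∣ Nat.card (K ⊓ M : Subgroup G) := by
      rw [← h2]; exact hd.mul_right _
    exact (Nat.Prime.coprime_iff_not_dvd hpf.out).1 hKM.symm h3
  have hle : A.map (MulAut.conj u).toMonoidHom ≤ A ⊔ (K ⊓ M) := by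
    rw [map_conj_le_iff]
    intro a ha
    have e : u * a * u⁻¹ = a * (a⁻¹ * u * a * u⁻¹) := by group
    rw [e]
    refine mul_mem (le_sup_left (a := A) ha) (le_sup_right (a := A) ⟨?_, ?_⟩)
    · have h1 := (le_normalizer_iff.1 hAK) a⁻¹ (inv_mem ha) u hu
      rw [inv_inv] at h1
      exact K.mul_mem h1 (K.inv_mem hu)
    · have h2 := M.mul_mem (M.inv_mem (hAM ha)) (huA a ha)
      have e2 : a⁻¹ * (u * a * u⁻¹) = a⁻¹ * u * a * u⁻¹ := by group
      rwa [e2] at h2
  obtain ⟨n, hn, hnle⟩ := exists_conj_le_in (p := p) hA hidx hle (hA.map _)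
  rw [map_conj_map_conj] at hnle
  have hn' : n ∈ (A : Set G) * ((K ⊓ M : Subgroup G) : Set G) := by
    rw [← coe_mul_of_left_le_normalizer_right A (K ⊓ M) hAK']
    exact hn
  obtain ⟨a₁, ha₁, w₁, hw₁, rfl⟩ := Set.mem_mul.1 hn'
  rw [map_conj_le_iff] at hnle
  have hv : w₁ * u ∈ centralizer (A : Set G) := by
    have hvK : w₁ * u ∈ K := K.mul_mem hw₁.1 hu
    rw [mem_centralizer_iff]
    intro a ha
    have h1 : (w₁ * u) * a * (w₁ * u)⁻¹ ∈ A := by
      have h2 := A.mul_mem (A.mul_mem (A.inv_mem ha₁) (hnle a ha)) ha₁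
      have e : a₁⁻¹ * (a₁ * w₁ * u * a * (a₁ * w₁ * u)⁻¹) * a₁ = (w₁ * u) * a * (w₁ * u)⁻¹ := by
        group
      rwa [e] at h2
    have h3 : (w₁ * u) * a * (w₁ * u)⁻¹ * a⁻¹ ∈ A ⊓ K := by
      refine ⟨A.mul_mem h1 (A.inv_mem ha), ?_⟩
      have h4 := (le_normalizer_iff.1 hAK) a ha _ (K.inv_mem hvK)
      have h5 := K.mul_mem hvK h4
      have e : w₁ * u * (a * (w₁ * u)⁻¹ * a⁻¹) = (w₁ * u) * a * (w₁ * u)⁻¹ * a⁻¹ := by group
      rwa [e] at h5
    rw [PConstrained.inf_eq_bot_of_isPGroup_of_coprime hA hK, mem_bot] at h3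
    have h6 : (w₁ * u) * a * (w₁ * u)⁻¹ = a := mul_inv_eq_one.mp h3
    exact (mul_inv_eq_iff_eq_mul.mp h6).symm
  exact ⟨w₁⁻¹, inv_mem hw₁, w₁ * u, hv, by group⟩

end General

/-! ### Control of fusion by `N_G(Z(J(P)))` -/

/-- `N_G(Z(J(P)))` controls the fusion of subgroups of `P` in `G`. -/
def Ctrl (p : ℕ) (G : Type*) [Group G] : Prop :=
  ∀ (P : Sylow p G) (A : Subgroup G) (g : G), A ≤ (P : Subgroup G) →
    A.map (MulAut.conj g).toMonoidHom ≤ (P : Subgroup G) →
      Good (normalizer (centerThompsonAOf (P : Subgroup G) : Set G)) A g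

section Steps

variable {G : Type*} [Group G] [Finite G] {p : ℕ} [hpf : Fact p.Prime]

omit [Finite G] hpf in
theorem map_subtype_conj {H : Subgroup G} (A : Subgroup H) (y : H) :
    (A.map (MulAut.conj y).toMonoidHom).map H.subtype =
      (A.map H.subtype).map (MulAut.conj (y : G)).toMonoidHom := by
  rw [Subgroup.map_map, Subgroup.map_map]
  rfl

omit [Finite G] in
/-- Control of fusion in a subgroup `H`, read in `G`. -/
theorem Ctrl.apply_in {H : Subgroup G} (hH : Ctrl p H) {U A : Subgroup G} (hUH : U ≤ H)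
    (hU : IsPGroup p U) (hidx : ¬ p ∣ U.relIndex H) (hAU : A ≤ U) {y : G} (hy : y ∈ H)
    (hyA : A.map (MulAut.conj y).toMonoidHom ≤ U) :
    Good (H ⊓ normalizer (centerThompsonAOf U : Set G)) A y := by
  have hU' : IsPGroup p (U.subgroupOf H) := hU.comap_of_injective H.subtype H.subtype_injective
  let P : Sylow p H := hU'.toSylow hidx
  have hPU : (P : Subgroup H) = U.subgroupOf H := rfl
  have hPmap : (P : Subgroup H).map H.subtype = U := by
    rw [hPU, subgroupOf_map_subtype, inf_eq_left.2 hUH]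
  have hAmap : (A.subgroupOf H).map H.subtype = A := by
    rw [subgroupOf_map_subtype, inf_eq_left.2 (hAU.trans hUH)]
  have h1 : A.subgroupOf H ≤ (P : Subgroup H) := by rw [hPU]; exact comap_mono hAU
  have h2 : (A.subgroupOf H).map (MulAut.conj (⟨y, hy⟩ : H)).toMonoidHom ≤ (P : Subgroup H) := by
    rw [← map_le_map_iff_of_injective H.subtype_injective, map_subtype_conj, hAmap, hPmap]
    exact hyA
  obtain ⟨n, hn, c, hc, hnc⟩ := hH P (A.subgroupOf H) ⟨y, hy⟩ h1 h2
  refine ⟨n, ⟨n.2, ?_⟩, c, ?_, congrArg Subtype.val hnc⟩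
  · change (n : G) ∈ normalizer (centerThompsonAOf U : Set G)
    rw [mem_normalizer_iff_map_conj] at hn ⊢
    rw [← hPmap, ← ThompsonJA.map_centerThompsonAOf H.subtype H.subtype_injective,
      ← map_subtype_conj, hn]
  · rw [mem_centralizer_iff]
    intro a ha
    have haH : a ∈ H := hUH (hAU ha)
    exact congrArg Subtype.val ((mem_centralizer_iff.1 hc) (⟨a, haH⟩ : H) ha)

omit [Finite G] hpf in
/-- `Z(J(gPg⁻¹)) = g Z(J(P)) g⁻¹` for normalizers. -/
theorem conj_mem_normalizer_ZJ {U : Subgroup G} {z : G}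
    (hz : z ∈ normalizer (centerThompsonAOf U : Set G)) (h : G) :
    h * z * h⁻¹ ∈ normalizer
      (centerThompsonAOf (U.map (MulAut.conj h).toMonoidHom) : Set G) := by
  have e := ThompsonJA.map_centerThompsonAOf (MulAut.conj h).toMonoidHom
    (MulAut.conj h).injective U
  rw [← e, ← map_conj_normalizer]
  exact conj_mem_map_conj hz h

/-- Every `p`-subgroup is conjugate to a subgroup of `P`. -/
theorem exists_conj_le_sylow (P : Sylow p G) {U : Subgroup G} (hU : IsPGroup p U) :
    ∃ h : G, U.map (MulAut.conj h).toMonoidHom ≤ (P : Subgroup G) := by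
  obtain ⟨h, -, hh⟩ := exists_conj_le_in (p := p) (N := ⊤) (R := (P : Subgroup G)) P.isPGroup'
    (by rw [relIndex_top_right]; exact P.not_dvd_index) le_top hU
  exact ⟨h, hh⟩

/-- The case `O_p(G) = 1`. -/
theorem case_three (hp : p ≠ 2) (hfree : ¬ Involves G ↥(Cfsg.qd p))
    (IH : ∀ H : Subgroup G, H ≠ ⊤ → Ctrl p H) (hO : pCore p G = ⊥) : Ctrl p G := by
  intro P A₀ g₀ hA₀ hg₀
  set M := normalizer (centerThompsonAOf (P : Subgroup G) : Set G) with hM
  have key : ∀ k : ℕ, ∀ A : Subgroup G, A ≤ (P : Subgroup G) → Nat.card P ≤ Nat.card A + k →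
      ∀ g : G, A.map (MulAut.conj g).toMonoidHom ≤ (P : Subgroup G) → Good M A g := by
    intro k
    induction k with
    | zero =>
      intro A hA hk g hg
      have hAP : A = P := Subgroup.eq_of_le_of_card_ge hA (by simpa using hk)
      rw [hAP] at hg
      have hgN : g ∈ normalizer ((P : Subgroup G) : Set G) :=
        mem_normalizer_iff_map_conj.2 (map_conj_le_of_le_normalizer hg)
      exact Good.of_mem (ThompsonJA.normalizer_le_normalizer_centerThompsonAOf _ hgN)
    | succ k ih =>
      -- the inner induction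
      have inner : ∀ j : ℕ, ∀ P' : Subgroup G, P' ≤ (P : Subgroup G) → P' ≠ ⊥ →
          Nat.card P ≤ Nat.card P' + j → ∀ A : Subgroup G, A ≤ P' →
          Nat.card P ≤ Nat.card A + (k + 1) →
          ∀ y ∈ normalizer (centerThompsonAOf P' : Set G),
            A.map (MulAut.conj y).toMonoidHom ≤ P' → Good M A y := by
        intro j
        induction j with
        | zero =>
          intro P' hP' _ hj A _ _ y hy _
          have hPP : P' = P := Subgroup.eq_of_le_of_card_ge hP' (by simpa using hj)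
          rw [hPP] at hy
          exact Good.of_mem hy
        | succ j ihj =>
          intro P' hP' hP'1 hj A hAP' hkA y hy hyA
          by_cases hPP : P' = P
          · rw [hPP] at hy
            exact Good.of_mem hy
          have hlt : P' < P := lt_of_le_of_ne hP' hPP
          have hP'p : IsPGroup p P' := P.isPGroup'.to_le hP'
          set H := normalizer (centerThompsonAOf P' : Set G) with hHdef
          have hH : H ≠ ⊤ := by
            intro htop
            have hn : (centerThompsonAOf P').Normal := normalizer_eq_top_iff.1 htop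
            have hle := Lib.Cores.le_pCore hn (hP'p.to_le (ThompsonJA.centerThompsonAOf_le P'))
            rw [hO, le_bot_iff] at hle
            exact ThompsonJA.centerThompsonAOf_ne_bot P' hP'p hP'1 hle
          set R := (P : Subgroup G) ⊓ H with hR
          have hP'R : P' < R := lt_of_lt_of_le (lt_inf_normalizer P.isPGroup' hlt)
            (inf_le_inf_left _ (ThompsonJA.normalizer_le_normalizer_centerThompsonAOf P'))
          have hcR : Nat.card P' < Nat.card R := ConjFunctor.card_lt_card_of_lt hP'R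
          have hcA : Nat.card A ≤ Nat.card P' := Subgroup.card_le_of_le hAP'
          obtain ⟨U, hRU, hUH, hU, hUi⟩ := exists_sylow_in (p := p) (N := H) (D := R) inf_le_right
            (P.isPGroup'.to_le inf_le_left)
          obtain ⟨h, hh⟩ := exists_conj_le_sylow P hU
          have hcU : Nat.card R ≤ Nat.card U := Subgroup.card_le_of_le hRU
          have good_h : Good M R h := ih R inf_le_left (by omega) h ((map_conj_mono hRU h).trans hh)
          have hP'U : P' ≤ U := hP'R.le.trans hRU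
          obtain ⟨z, ⟨-, hzN⟩, c, hc, hzc⟩ := (IH H hH).apply_in hUH hU hUi (hAP'.trans hP'U) hy
            (hyA.trans hP'U)
          have hAc : A.map (MulAut.conj c).toMonoidHom = A := map_conj_of_mem_centralizer hc
          have hAz : A.map (MulAut.conj z).toMonoidHom ≤ P' := by
            rw [hzc, ← map_conj_map_conj, hAc] at hyA
            exact hyA
          have good_z : Good M (A.map (MulAut.conj h).toMonoidHom) (h * z * h⁻¹) := by
            refine ihj (U.map (MulAut.conj h).toMonoidHom) hh ?_ ?_ _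
              (map_conj_mono (hAP'.trans hP'U) h) ?_ _ (conj_mem_normalizer_ZJ hzN h) ?_
            · intro hb
              have h1 := card_map_conj U h
              rw [hb, Subgroup.card_bot] at h1
              have h2 : 0 < Nat.card P' := Nat.card_pos
              omega
            · rw [card_map_conj]; omega
            · rw [card_map_conj]; exact hkA
            · rw [map_conj_map_conj]
              have e : h * z * h⁻¹ * h = h * z := by group
              rw [e, ← map_conj_map_conj]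
              exact map_conj_mono (hAz.trans hP'U) h
          have g1 : Good M A (h * z * h⁻¹ * h) := (good_h.mono (hAP'.trans hP'R.le)).mul good_z
          have e : h * z * h⁻¹ * h = h * z := by group
          rw [e] at g1
          have g2 := (good_h.mono (hAz.trans hP'R.le)).symm
          rw [map_conj_map_conj] at g2
          have g3 : Good M A (h⁻¹ * (h * z)) := g1.mul g2
          have e2 : h⁻¹ * (h * z) = z := by group
          rw [e2] at g3
          rw [hzc]
          refine (Good.of_cent hc).mul ?_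
          rw [hAc]
          exact g3
      intro A hA hk g hg
      refine Good.of_gen (gen_of_conj P (fun X => X = P ∨
        (¬ p ∣ ((P : Subgroup G) ⊓ normalizer (X : Set G)).relIndex (normalizer (X : Set G)) ∧
        centralizer (X : Set G) ⊓ (P : Subgroup G) ≤ X)) (Or.inl rfl)
        (fun X _ h1 h2 _ => Or.inr ⟨h1, h2⟩) hA hg) ?_
      intro X hX hF hc x hx
      rcases hF with rfl | ⟨h1, h2⟩
      · exact Good.of_mem (ThompsonJA.normalizer_le_normalizer_centerThompsonAOf _ hx)
      by_cases hX1 : X = ⊥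
      · refine Good.of_cent ?_
        rw [hX1, mem_centralizer_iff]
        intro a ha
        rw [SetLike.mem_coe, mem_bot] at ha
        rw [ha, one_mul, mul_one]
      have hle : X ≤ (P : Subgroup G) ⊓ normalizer (X : Set G) := le_inf hX le_normalizer
      obtain ⟨c1, -, c3⟩ := ZJFusion.centric_factor_in (p := p) hp hfree
        (N := normalizer (X : Set G)) (R := (P : Subgroup G) ⊓ normalizer (X : Set G)) (D := X)
        inf_le_right (P.isPGroup'.to_le inf_le_left) h1 hle le_rfl
        (le_trans (inf_le_inf_left _ inf_le_left) h2)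
      obtain ⟨y, ⟨hy1, hy2⟩, u, hu, rfl⟩ := c3 x hx
      refine (Good.of_cent (c1 hu)).mul ?_
      rw [map_conj_of_mem_centralizer (c1 hu)]
      refine inner (Nat.card P) _ inf_le_left ?_ (Nat.le_add_left _ _) X hle (by omega) y hy2 ?_
      · intro hb
        rw [hb, le_bot_iff] at hle
        exact hX1 hle
      · rw [mem_normalizer_iff_map_conj.1 hy1]
        exact hle
  exact key (Nat.card P) A₀ hA₀ (Nat.le_add_left _ _) g₀ hg₀

/-- If a proper subgroup `H ≥ P` controls the fusion of `A → gAg⁻¹`, so does `N(Z(J(P)))`. -/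
theorem good_of_good_proper (IH : ∀ H : Subgroup G, H ≠ ⊤ → Ctrl p H) (P : Sylow p G)
    {H : Subgroup G} (hH : H ≠ ⊤) (hPH : (P : Subgroup G) ≤ H) {A : Subgroup G} {g : G}
    (hA : A ≤ (P : Subgroup G)) (hg : A.map (MulAut.conj g).toMonoidHom ≤ (P : Subgroup G))
    (hgood : Good H A g) : Good (normalizer (centerThompsonAOf (P : Subgroup G) : Set G)) A g := by
  obtain ⟨n, hn, c, hc, rfl⟩ := hgood
  have hAc : A.map (MulAut.conj c).toMonoidHom = A := map_conj_of_mem_centralizer hc
  have hAn : A.map (MulAut.conj n).toMonoidHom ≤ (P : Subgroup G) := by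
    rw [← map_conj_map_conj, hAc] at hg
    exact hg
  refine (Good.of_cent hc).mul ?_
  rw [hAc]
  refine ((IH H hH).apply_in hPH P.isPGroup' ?_ hA hn hAn).mono_left inf_le_right
  intro hd
  exact P.not_dvd_index (hd.trans (relIndex_dvd_index_of_le hPH))

omit [Finite G] hpf in
theorem mem_centralizer_of_comm {A : Subgroup G} {x : G} (h : ∀ a ∈ A, a * x = x * a) :
    x ∈ centralizer (A : Set G) := by
  rw [mem_centralizer_iff]; exact h

/-- The case `G = C_G(O_p(G)) P`. -/
theorem case_one (hq : Ctrl p (G ⧸ pCore p G)) (IH : ∀ H : Subgroup G, H ≠ ⊤ → Ctrl p H)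
    (P : Sylow p G) (hCP : centralizer (pCore p G : Set G) ⊔ (P : Subgroup G) = ⊤)
    {A : Subgroup G} {g : G} (hA : A ≤ (P : Subgroup G))
    (hg : A.map (MulAut.conj g).toMonoidHom ≤ (P : Subgroup G)) :
    Good (normalizer (centerThompsonAOf (P : Subgroup G) : Set G)) A g := by
  set Y := pCore p G with hY
  have hYn : Y.Normal := Lib.Cores.pCore_normal p
  have hYp : IsPGroup p Y := Lib.Cores.pCore_isPGroup p
  have hYP : Y ≤ (P : Subgroup G) := Lib.Cores.pCore_le_sylow P
  by_cases hPY : (P : Subgroup G) = Y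
  · have htop : normalizer ((P : Subgroup G) : Set G) = ⊤ := by
      rw [hPY]; exact normalizer_eq_top_iff.2 hYn
    refine Good.of_mem (ThompsonJA.normalizer_le_normalizer_centerThompsonAOf _ ?_)
    rw [htop]; trivial
  set φ := QuotientGroup.mk' Y with hφ
  have hφs : Function.Surjective φ := QuotientGroup.mk'_surjective Y
  have hker : φ.ker = Y := QuotientGroup.ker_mk' Y
  have hφ1 : ∀ y ∈ Y, φ y = 1 := fun y hy => by
    rw [← MonoidHom.mem_ker, hker]; exact hy
  set Pb := P.mapSurjective hφs with hPb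
  have hPbc : (Pb : Subgroup (G ⧸ Y)) = (P : Subgroup G).map φ := Sylow.coe_mapSurjective hφs P
  set Z := centerThompsonAOf (Pb : Subgroup (G ⧸ Y)) with hZ
  set H := normalizer ((Z.comap φ : Subgroup G) : Set G) with hHdef
  have hHc : (normalizer (Z : Set (G ⧸ Y))).comap φ = H := comap_normalizer_eq_of_surjective Z hφs
  have hcomapP : ((P : Subgroup G).map φ).comap φ = (P : Subgroup G) := by
    rw [comap_map_eq, hker, sup_eq_left.2 hYP]
  have hVP : Z.comap φ ≤ (P : Subgroup G) := by
    rw [← hcomapP, ← hPbc]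
    exact comap_mono (ThompsonJA.centerThompsonAOf_le _)
  have hH : H ≠ ⊤ := by
    intro htop
    have hn : (Z.comap φ).Normal := normalizer_eq_top_iff.1 htop
    have hle : Z.comap φ ≤ Y := Lib.Cores.le_pCore hn (P.isPGroup'.to_le hVP)
    have hZb : Z = ⊥ := by
      rw [eq_bot_iff]
      intro z hz
      obtain ⟨x, rfl⟩ := hφs z
      rw [mem_bot]
      exact hφ1 x (hle hz)
    have hPb1 : (Pb : Subgroup (G ⧸ Y)) = ⊥ := by
      by_contra hne
      exact ThompsonJA.centerThompsonAOf_ne_bot _ Pb.isPGroup' hne hZb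
    apply hPY
    refine le_antisymm ?_ hYP
    intro x hx
    have h1 : φ x ∈ (Pb : Subgroup (G ⧸ Y)) := by rw [hPbc]; exact ⟨x, hx, rfl⟩
    rw [hPb1, mem_bot] at h1
    rw [← hker]; exact h1
  have hPH : (P : Subgroup G) ≤ H := by
    intro x hx
    rw [← hHc]
    have h1 : φ x ∈ (Pb : Subgroup (G ⧸ Y)) := by rw [hPbc]; exact ⟨x, hx, rfl⟩
    exact ThompsonJA.normalizer_le_normalizer_centerThompsonAOf _ (le_normalizer h1)
  -- elements of order prime to `p` centralize `Y`
  have hpprime : ∀ x : G, (orderOf x).Coprime p → x ∈ centralizer (Y : Set G) := by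
    intro x hx
    have hCn : (centralizer (Y : Set G)).Normal := by infer_instance
    set ψ := QuotientGroup.mk' (centralizer (Y : Set G)) with hψ
    have hψs : Function.Surjective ψ := QuotientGroup.mk'_surjective _
    have hpg : IsPGroup p (G ⧸ centralizer (Y : Set G)) := by
      have h1 : (P : Subgroup G).map ψ = ⊤ := by
        have h2 := congrArg (Subgroup.map ψ) hCP
        rw [Subgroup.map_sup, Subgroup.map_top_of_surjective ψ hψs,
          (Subgroup.map_eq_bot_iff _).2 (by rw [QuotientGroup.ker_mk']), bot_sup_eq] at h2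
        exact h2
      have h3 : IsPGroup p (⊤ : Subgroup (G ⧸ centralizer (Y : Set G))) := by
        rw [← h1]; exact P.isPGroup'.map ψ
      exact h3.of_equiv Subgroup.topEquiv
    have h4 : orderOf (ψ x) = 1 := by
      obtain ⟨k, hk⟩ := (IsPGroup.iff_orderOf.1 hpg) (ψ x)
      have h5 : orderOf (ψ x) ∣ orderOf x := orderOf_map_dvd ψ x
      have h6 : (orderOf (ψ x)).Coprime (p ^ k) :=
        Nat.Coprime.pow_right k (Nat.Coprime.coprime_dvd_left h5 hx)
      rw [hk] at h6 ⊢
      exact (Nat.coprime_self _).1 h6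
    rw [orderOf_eq_one_iff] at h4
    exact (QuotientGroup.eq_one_iff x).1 h4
  -- main claim: fully normalized target
  have claim : ∀ A' : Subgroup G, Y ≤ A' → A' ≤ (P : Subgroup G) → ∀ (g' : G) (B : Subgroup G),
      A'.map (MulAut.conj g').toMonoidHom = B → B ≤ (P : Subgroup G) →
      ¬ p ∣ ((P : Subgroup G) ⊓ normalizer (B : Set G)).relIndex (normalizer (B : Set G)) →
      Good H A' g' := by
    intro A' hYA hA'P g' B hgB hBP hBi
    have hYB : Y ≤ B := by
      rw [← hgB]
      intro y hy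
      rw [mem_map_conj]
      have h1 := hYn.conj_mem y hy g'⁻¹
      rw [inv_inv] at h1
      exact hYA h1
    have hmapc : ∀ (x : G) (X : Subgroup G), (X.map φ).map (MulAut.conj (φ x)).toMonoidHom =
        (X.map (MulAut.conj x).toMonoidHom).map φ := by
      intro x X
      rw [Subgroup.map_map, Subgroup.map_map]
      congr 1
    have e1 : (A'.map φ).map (MulAut.conj (φ g')).toMonoidHom = B.map φ := by
      rw [hmapc, hgB]
    obtain ⟨n', hn', c', hc', hgc⟩ := hq Pb (A'.map φ) (φ g')
      (by rw [hPbc]; exact map_mono hA'P) (by rw [e1, hPbc]; exact map_mono hBP)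
    obtain ⟨n, rfl⟩ := hφs n'
    have hnH : n ∈ H := by rw [← hHc]; exact hn'
    -- `n A' n⁻¹ = B`
    have hcA : (A'.map φ).map (MulAut.conj c').toMonoidHom = A'.map φ :=
      map_conj_of_mem_centralizer hc'
    have e2 : (A'.map (MulAut.conj n).toMonoidHom).map φ = B.map φ := by
      rw [← e1, hgc, ← map_conj_map_conj, hcA, hmapc]
    have hYnA : Y ≤ A'.map (MulAut.conj n).toMonoidHom := by
      intro y hy
      rw [mem_map_conj]
      have h1 := hYn.conj_mem y hy n⁻¹
      rw [inv_inv] at h1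
      exact hYA h1
    have e3 : A'.map (MulAut.conj n).toMonoidHom = B := by
      have h1 := congrArg (Subgroup.comap φ) e2
      rw [comap_map_eq, comap_map_eq, hker, sup_eq_left.2 hYnA, sup_eq_left.2 hYB] at h1
      exact h1
    set h := g' * n⁻¹ with hh
    set X₀ := (centralizer ((B.map φ : Subgroup (G ⧸ Y)) : Set (G ⧸ Y))).comap φ with hX₀
    have hmemX : ∀ x : G, x ∈ X₀ ↔ ∀ b ∈ B, φ b * φ x = φ x * φ b := by
      intro x
      rw [hX₀, mem_comap, mem_centralizer_iff]
      constructor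
      · intro hx b hb; exact hx (φ b) ⟨b, hb, rfl⟩
      · rintro hx _ ⟨b, hb, rfl⟩; exact hx b hb
    have hhX : h ∈ X₀ := by
      rw [hmemX]
      intro b hb
      rw [← e3, mem_map_conj] at hb
      have h1 : φ (n⁻¹ * b * n) ∈ A'.map φ := ⟨_, hb, rfl⟩
      have h2 := mem_centralizer_iff.1 hc' _ h1
      have h3 : φ h = φ n * c' * (φ n)⁻¹ := by rw [hh, map_mul, hgc, map_inv]
      have h4 : φ b = φ n * φ (n⁻¹ * b * n) * (φ n)⁻¹ := by
        rw [map_mul, map_mul, map_inv]; group
      rw [h3, h4]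
      have h5 : φ n * φ (n⁻¹ * b * n) * (φ n)⁻¹ * (φ n * c' * (φ n)⁻¹) =
          φ n * (φ (n⁻¹ * b * n) * c') * (φ n)⁻¹ := by group
      rw [h5, h2]
      group
    have hXN : X₀ ≤ normalizer (B : Set G) := by
      intro x hx
      rw [mem_normalizer_iff_map_conj]
      apply map_conj_le_of_le_normalizer
      rw [map_conj_le_iff]
      intro b hb
      have h1 := (hmemX x).1 hx b hb
      have h2 : x * b * x⁻¹ * b⁻¹ ∈ Y := by
        rw [← hker, MonoidHom.mem_ker, map_mul, map_mul, map_mul, ← h1, map_inv, map_inv]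
        group
      have h3 := B.mul_mem (hYB h2) hb
      simpa using h3
    have hNX : normalizer (B : Set G) ≤ normalizer (X₀ : Set G) := by
      rw [le_normalizer_iff]
      intro m hm x hx
      rw [hmemX]
      intro b hb
      have hb' : m⁻¹ * b * m ∈ B := by
        rw [← mem_normalizer_iff_map_conj.1 hm, mem_map_conj] at hb
        exact hb
      have h1 := (hmemX x).1 hx _ hb'
      rw [map_mul, map_mul, map_inv] at h1
      rw [map_mul, map_mul, map_inv]
      have h2 : φ b * (φ m * φ x * (φ m)⁻¹) = φ m * ((φ m)⁻¹ * φ b * φ m * φ x) * (φ m)⁻¹ := by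
        group
      rw [h2, h1]
      group
    have hXi := not_dvd_relIndex_inf hXN hNX hBi
    have hCX : centralizer (B : Set G) ≤ X₀ := by
      intro x hx
      rw [hmemX]
      intro b hb
      rw [← map_mul, ← map_mul, (mem_centralizer_iff.1 hx) b hb]
    have hXC : X₀ ≤ normalizer ((centralizer (B : Set G) : Subgroup G) : Set G) := by
      refine hXN.trans ?_
      rw [le_normalizer_iff]
      intro m hm k hk
      rw [← mem_normalizer_iff_map_conj.1 hm, mem_centralizer_map_conj]
      simpa [mul_assoc] using hk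
    obtain ⟨s, hs, c, hc, hsc⟩ := exists_mul_of_pprime_mem (p := p) inf_le_right hXi hCX hXC (by
      intro x hx hxo
      refine mem_centralizer_of_comm fun b hb => ?_
      have hxY := hpprime x hxo
      have h1 : ⁅b, x⁆ ∈ Y := by
        rw [← hker, MonoidHom.mem_ker, map_commutatorElement, commutatorElement_eq_one_iff_mul_comm]
        exact (hmemX x).1 hx b hb
      have hcard : (orderOf x).Coprime (Nat.card Y) := by
        obtain ⟨k, hk⟩ := IsPGroup.iff_card.mp hYp
        rw [hk]; exact Nat.Coprime.pow_right k hxo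
      exact Lib.CoprimeStab.commute_of_commutator_commute hcard h1
        ((mem_centralizer_iff.1 hxY) _ h1)) hhX
    have hgh : g' = h * n := by rw [hh]; group
    rw [hgh]
    refine (Good.of_mem hnH).mul ?_
    rw [e3, hsc]
    refine (Good.of_cent hc).mul ?_
    exact Good.of_mem (hPH hs.1.1)
  refine good_of_good_proper IH P hH hPH hA hg ?_
  -- reduce to the claim
  have hA1P : A ⊔ Y ≤ (P : Subgroup G) := sup_le hA hYP
  have hYg : ∀ x : G, Y.map (MulAut.conj x).toMonoidHom = Y := fun x =>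
    mem_normalizer_iff_map_conj.1 (by rw [normalizer_eq_top_iff.2 hYn]; trivial)
  have hgA1 : (A ⊔ Y).map (MulAut.conj g).toMonoidHom ≤ (P : Subgroup G) := by
    rw [Subgroup.map_sup, hYg]
    exact sup_le hg hYP
  obtain ⟨k, hk, hki⟩ := exists_fullyNormalized P hgA1
  have hYgA : Y ≤ (A ⊔ Y).map (MulAut.conj g).toMonoidHom := by
    rw [Subgroup.map_sup, hYg]; exact le_sup_right
  have g1 : Good H ((A ⊔ Y).map (MulAut.conj g).toMonoidHom) k := claim _ hYgA hgA1 k _ rfl hk hki
  have g2 : Good H (A ⊔ Y) (k * g) := claim _ le_sup_right hA1P (k * g) _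
    (by rw [map_conj_map_conj]) hk hki
  have g3 := g2.mul (h := k⁻¹) (by
    have := g1.symm
    rwa [map_conj_map_conj] at this)
  have e : k⁻¹ * (k * g) = g := by group
  rw [e] at g3
  exact g3.mono le_sup_left

/-- The case `C_G(O_p(G)) P < G`. -/
theorem case_two (hp : p ≠ 2) (hfree : ¬ Involves G ↥(Cfsg.qd p))
    (IH : ∀ H : Subgroup G, H ≠ ⊤ → Ctrl p H)
    (P : Sylow p G) (hCP : centralizer (pCore p G : Set G) ⊔ (P : Subgroup G) ≠ ⊤)
    {A : Subgroup G} {g : G} (hA : A ≤ (P : Subgroup G))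
    (hg : A.map (MulAut.conj g).toMonoidHom ≤ (P : Subgroup G)) :
    Good (normalizer (centerThompsonAOf (P : Subgroup G) : Set G)) A g := by
  set Y := pCore p G with hY
  have hYn : Y.Normal := Lib.Cores.pCore_normal p
  have hYP : Y ≤ (P : Subgroup G) := Lib.Cores.pCore_le_sylow P
  set C := centralizer (Y : Set G) with hC
  have hCn : C.Normal := by rw [hC]; infer_instance
  set E := (P : Subgroup G) ⊓ C with hE
  have hEC : E ≤ C := inf_le_right
  have hEP : E ≤ (P : Subgroup G) := inf_le_left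
  have hEp : IsPGroup p E := P.isPGroup'.to_le hEP
  have hEi : ¬ p ∣ E.relIndex C := by
    rw [hE, inf_relIndex_right]
    intro hd
    exact P.not_dvd_index (hd.trans (relIndex_dvd_index_of_normal_right _ _))
  set N := normalizer (E : Set G) with hN
  have hPN : (P : Subgroup G) ≤ N := by
    rw [hN, le_normalizer_iff]
    intro x hx e he
    exact ⟨(P : Subgroup G).mul_mem ((P : Subgroup G).mul_mem hx he.1)
      ((P : Subgroup G).inv_mem hx), hCn.conj_mem e he.2 x⟩
  -- Frattini: `G = N C`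
  have hFr : ∀ x : G, ∃ m ∈ N, ∃ c ∈ C, x = m * c := by
    have hE' : IsPGroup p (E.subgroupOf C) := hEp.comap_of_injective C.subtype C.subtype_injective
    let Q : Sylow p C := hE'.toSylow hEi
    have hQ : (Q : Subgroup C).map C.subtype = E := by
      show (E.subgroupOf C).map C.subtype = E
      rw [subgroupOf_map_subtype, inf_eq_left.2 hEC]
    have h1 := Sylow.normalizer_sup_eq_top Q
    rw [hQ] at h1
    intro x
    have h2 : x ∈ N ⊔ C := by rw [h1]; trivial
    rw [mem_sup_of_normal_right] at h2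
    obtain ⟨m, hm, c, hc, hmc⟩ := h2
    exact ⟨m, hm, c, hc, hmc.symm⟩
  obtain ⟨m, hm, c, hc, hgmc⟩ := hFr g
  -- `A E` is Sylow in `A C`
  have hAN : A ≤ N := hA.trans hPN
  have hAEp : IsPGroup p (A ⊔ E : Subgroup G) := P.isPGroup'.to_le (sup_le hA hEP)
  have hAEC : (A ⊔ E) ⊔ C = A ⊔ C := by rw [sup_assoc, sup_eq_right.2 hEC]
  have hAECinf : (A ⊔ E) ⊓ C = E := by
    apply le_antisymm
    · exact le_inf (inf_le_left.trans (sup_le hA hEP)) inf_le_right
    · exact le_inf le_sup_right hEC
  have hAEi : ¬ p ∣ (A ⊔ E).relIndex (A ⊔ C) := by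
    have h1 := card_sup_mul_card_inf (A := A ⊔ E) (L := C)
      (by rw [normalizer_eq_top_iff.2 hCn]; exact le_top)
    rw [hAEC, hAECinf] at h1
    rw [← card_mul_relIndex_of_le (sup_le_sup_left hEC A : A ⊔ E ≤ A ⊔ C),
      ← card_mul_relIndex_of_le hEC, mul_assoc] at h1
    have h2 := Nat.eq_of_mul_eq_mul_left Nat.card_pos h1
    rw [mul_comm] at h2
    have h3 := Nat.eq_of_mul_eq_mul_left Nat.card_pos h2
    rw [h3]; exact hEi
  -- conjugate `c A c⁻¹` into `A E` inside `N ∩ A C`
  have hcA : A.map (MulAut.conj c).toMonoidHom ≤ (A ⊔ C) ⊓ N := by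
    rw [map_conj_le_iff]
    intro a ha
    refine ⟨?_, ?_⟩
    · change c * a * c⁻¹ ∈ A ⊔ C
      exact mul_mem (mul_mem (le_sup_right (a := A) hc) (le_sup_left (b := C) ha))
        (inv_mem (le_sup_right (a := A) hc))
    · have h1 : g * a * g⁻¹ ∈ N := hPN ((map_conj_le_iff.1 hg) a ha)
      have h2 := N.mul_mem (N.mul_mem (N.inv_mem hm) h1) hm
      have e : m⁻¹ * (g * a * g⁻¹) * m = c * a * c⁻¹ := by rw [hgmc]; group
      rw [e] at h2
      exact h2
  have hAi2 : ¬ p ∣ (A ⊔ E).relIndex ((A ⊔ C) ⊓ N) := by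
    intro hd
    apply hAEi
    rw [← relIndex_mul_relIndex (A ⊔ E) ((A ⊔ C) ⊓ N) (A ⊔ C)
      (le_inf (sup_le_sup_left hEC A) (sup_le hAN le_normalizer)) inf_le_left]
    exact hd.mul_right _
  obtain ⟨k, hk, hkle⟩ := exists_conj_le_in (p := p) hAEp hAi2 hcA
    ((P.isPGroup'.to_le hA).map _)
  obtain ⟨a₁, ha₁, c₁, hc₁, hkac⟩ : ∃ a₁ ∈ A, ∃ c₁ ∈ C, k = a₁ * c₁ := by
    have h1 := hk.1
    change k ∈ A ⊔ C at h1
    rw [mem_sup_of_normal_right] at h1
    obtain ⟨a₁, ha₁, c₁, hc₁, h⟩ := h1
    exact ⟨a₁, ha₁, c₁, hc₁, h.symm⟩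
  have hc₁N : c₁ ∈ N := by
    have hkN : k ∈ N := hk.2
    have h1 := N.mul_mem (N.inv_mem (hAN ha₁)) hkN
    rw [hkac, inv_mul_cancel_left] at h1
    exact h1
  set c' := c₁ * c with hc'
  have hc'C : c' ∈ C := C.mul_mem hc₁ hc
  set m' := m * c₁⁻¹ with hm'
  have hm'N : m' ∈ N := N.mul_mem hm (N.inv_mem hc₁N)
  have hgm' : g = m' * c' := by rw [hgmc, hm', hc']; group
  have hAc' : A.map (MulAut.conj c').toMonoidHom ≤ (P : Subgroup G) := by
    rw [map_conj_map_conj, map_conj_le_iff] at hkle
    rw [map_conj_le_iff]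
    intro a ha
    have h1 := (sup_le hA hEP : A ⊔ E ≤ (P : Subgroup G)) (hkle a ha)
    have h2 := (P : Subgroup G).mul_mem ((P : Subgroup G).mul_mem
      ((P : Subgroup G).inv_mem (hA ha₁)) h1) (hA ha₁)
    have e : a₁⁻¹ * (k * c * a * (k * c)⁻¹) * a₁ = c' * a * c'⁻¹ := by
      rw [hkac, hc']; group
    rwa [e] at h2
  -- first step: `c' ∈ C P < G`
  have good1 : Good (normalizer (centerThompsonAOf (P : Subgroup G) : Set G)) A c' :=
    good_of_good_proper IH P hCP le_sup_right hA hAc'
      (Good.of_mem (le_sup_left (b := (P : Subgroup G)) hc'C))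
  -- second step
  rw [hgm']
  refine good1.mul ?_
  set A' := A.map (MulAut.conj c').toMonoidHom with hA'
  have hA'm : A'.map (MulAut.conj m').toMonoidHom ≤ (P : Subgroup G) := by
    rw [hA', map_conj_map_conj, ← hgm']; exact hg
  have hPi : ¬ p ∣ (P : Subgroup G).relIndex N := fun hd =>
    P.not_dvd_index (hd.trans (relIndex_dvd_index_of_le hPN))
  have hDN : N ≤ normalizer ((Y ⊔ E : Subgroup G) : Set G) := by
    intro x hx
    rw [mem_normalizer_iff_map_conj, Subgroup.map_sup, mem_normalizer_iff_map_conj.1 hx,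
      mem_normalizer_iff_map_conj.1 (by rw [normalizer_eq_top_iff.2 hYn]; trivial)]
  obtain ⟨k1, -, k3⟩ := ZJFusion.centric_factor_in (p := p) hp hfree (N := N)
    (R := (P : Subgroup G)) (D := Y ⊔ E) hPN P.isPGroup' hPi (sup_le hYP hEP) hDN (by
      refine le_trans (inf_le_inf_right _ (centralizer_le
        (show (Y : Set G) ⊆ ((Y ⊔ E : Subgroup G) : Set G) by exact_mod_cast le_sup_left))) ?_
      rw [inf_comm]
      exact le_sup_right)
  obtain ⟨y, ⟨hy1, hy2⟩, u, hu, hmyu⟩ := k3 m' hm'N
  set K := (pPrimeCore p N).map N.subtype with hK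
  have hKN : K ≤ N := map_subtype_le _
  have hKc : (Nat.card K).Coprime p := by
    rw [hK, Nat.card_congr ((pPrimeCore p N).equivMapOfInjective _ N.subtype_injective).symm.toEquiv]
    exact Lib.Cores.pPrimeCore_coprime p
  have hNK : N ≤ normalizer (K : Set G) := by
    have hn : (K.subgroupOf N).Normal := by
      rw [hK, subgroupOf, comap_map_eq_self_of_injective N.subtype_injective]
      exact Lib.Cores.pPrimeCore_normal p
    rwa [normal_subgroupOf_iff_le_normalizer hKN] at hn
  have hA'P : A' ≤ (P : Subgroup G) := hAc'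
  have hPZ : (P : Subgroup G) ≤ normalizer (centerThompsonAOf (P : Subgroup G) : Set G) :=
    le_normalizer.trans (ThompsonJA.normalizer_le_normalizer_centerThompsonAOf _)
  obtain ⟨w, hw, d, hd, hud⟩ := exists_of_pprime (p := p) (A := A') (K := K)
    (M := normalizer (centerThompsonAOf (P : Subgroup G) : Set G)) (P.isPGroup'.to_le hA'P) hKc
    (hA'P.trans (hPN.trans hNK)) (hA'P.trans hPZ) hu (by
      intro a ha
      have h1 := hPZ ((map_conj_le_iff.1 hA'm) a ha)
      rw [hmyu] at h1
      have hy3 : y ∈ normalizer (centerThompsonAOf (P : Subgroup G) : Set G) := hy2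
      have h2 := mul_mem (mul_mem (inv_mem hy3) h1) hy3
      have e : y⁻¹ * (y * u * a * (y * u)⁻¹) * y = u * a * u⁻¹ := by group
      rwa [e] at h2)
  rw [hmyu]
  refine Good.mul ⟨w, hw.2, d, hd, hud⟩ ?_
  exact Good.of_mem hy2

end Steps

/-- **Glauberman's fusion theorem**: for `p` odd and `G` without section `Qd(p)`, `N_G(Z(J(P)))` controls the fusion
of subgroups of `P`. -/
theorem ctrl {p : ℕ} [hpf : Fact p.Prime] (hp : p ≠ 2) :
    ∀ (n : ℕ) (G : Type*) [Group G] [Finite G], Nat.card G ≤ n → ¬ Involves G ↥(Cfsg.qd p) →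
      Ctrl p G := by
  intro n
  induction n with
  | zero =>
    intro G _ _ hn _
    exact absurd hn (by have : 0 < Nat.card G := Nat.card_pos; omega)
  | succ n ih =>
    intro G _ _ hn hfree
    have IH : ∀ H : Subgroup G, H ≠ ⊤ → Ctrl p H := by
      intro H hH
      refine ih H ?_ (fun h => hfree (Lib.Involves.of_subgroup h))
      have h1 : Nat.card H < Nat.card G := by
        have h2 := ConjFunctor.card_lt_card_of_lt (lt_top_iff_ne_top.2 hH)
        rwa [Subgroup.card_top] at h2
      omega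
    by_cases hO : pCore p G = ⊥
    · exact case_three hp hfree IH hO
    intro P A g hA hg
    by_cases hCP : centralizer (pCore p G : Set G) ⊔ (P : Subgroup G) = ⊤
    · have hYn : (pCore p G).Normal := Lib.Cores.pCore_normal p
      have hq : Ctrl p (G ⧸ pCore p G) := by
        refine ih _ ?_ (fun h => hfree (Lib.Involves.of_quotient h))
        have h1 : Nat.card (pCore p G) * Nat.card (G ⧸ pCore p G) = Nat.card G := by
          rw [mul_comm]
          exact (Subgroup.card_eq_card_quotient_mul_card_subgroup _).symm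
        have h2 : 1 < Nat.card (pCore p G) := by
          rw [Subgroup.one_lt_card_iff_ne_bot]; exact hO
        have h3 : 0 < Nat.card (G ⧸ pCore p G) := Nat.card_pos
        nlinarith
      exact case_one hq IH P hCP hA hg
    · exact case_two hp hfree IH P hCP hA hg

theorem fusion {G : Type*} [Group G] [Finite G] {p : ℕ} [Fact p.Prime] (hp : p ≠ 2)
    (hfree : ¬ Involves G ↥(Cfsg.qd p)) (P : Sylow p G) {A : Subgroup G} {g : G}
    (hA : A ≤ (P : Subgroup G)) (hg : A.map (MulAut.conj g).toMonoidHom ≤ (P : Subgroup G)) :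
    ∃ n ∈ normalizer (centerThompsonAOf (P : Subgroup G) : Set G),
      ∃ c ∈ centralizer (A : Set G), g = n * c :=
  ctrl hp (Nat.card G) G le_rfl hfree P A g hA hg

/-- Element form. -/
theorem fusion_elem {G : Type*} [Group G] [Finite G] {p : ℕ} [Fact p.Prime] (hp : p ≠ 2)
    (hfree : ¬ Involves G ↥(Cfsg.qd p)) (P : Sylow p G) {x g : G}
    (hx : x ∈ (P : Subgroup G)) (hg : g * x * g⁻¹ ∈ (P : Subgroup G)) :
    ∃ n ∈ normalizer (centerThompsonAOf (P : Subgroup G) : Set G), g * x * g⁻¹ = n * x * n⁻¹ := by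
  obtain ⟨n, hn, c, hc, rfl⟩ := fusion hp hfree P (A := zpowers x) (g := g)
    (by rwa [zpowers_le]) (zpowers_map_conj_le hg)
  refine ⟨n, hn, ?_⟩
  have h1 := conj_eq_of_mem_centralizer hc (mem_zpowers x)
  have e : n * c * x * (n * c)⁻¹ = n * (c * x * c⁻¹) * n⁻¹ := by group
  rw [e, h1]

end Cfsg.Agent.Walter.GlaubermanFusion
end
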