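import Cfsg.Agent.Walter.MetaPSL
import Mathlib
import Cfsg.Prelude.Def_Local
import Cfsg.Agent.Walter.LastCase_mg_m3
import Cfsg.Agent.Walter.QdAbelian
import Cfsg.Agent.ClassicalGeometry.SplitTorus
import Cfsg.Agent.S1396
import Cfsg.Agent.PLocal.ZJReduction
import Cfsg.Agent.PLocal.ConjFunctor
import Cfsg.Agent.S1242
import Cfsg.Agent.OddOrderLocal.Thm34
import Cfsg.Agent.Lib.CoprimeHyperplane
import Cfsg.Agent.OddOrderLocal.RankTwoFitting
import Cfsg.Agent.Lib.GenFitting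
import Cfsg.Agent.Lib.Zsigmondy
import Cfsg.Agent.BenderType.Classify
import Cfsg.Agent.S1163
import Cfsg.Agent.S0205
import Cfsg.Agent.S0343
import Cfsg.Agent.S0483
import Cfsg.Agent.S0516
import Cfsg.Agent.S1149
import Cfsg.Agent.StrongEmb.Strong
import Cfsg.Agent.ProdFusion.FunctorComplete_m3
import Cfsg.Agent.Walter.NoFieldLocalMod
import Cfsg.Agent.S0118
import Cfsg.Agent.FastGrp
import Cfsg.Agent.Prune
set_option linter.all false

section
prune_inst 0x7ffcecfb8ff88ddfdfff7e77aedcdffdd8bcbffff6dff9cbbfe0a9ef8bdf4b0249e5ab8d0fe848fe0ec2629410f87b03f9ffceffe96bdc7ffffd5ff45ffbff8fedf7bd0851d6882e0fbc0fff03f077ce7f3fffffffffffffffffffffffffffbeffffffffffff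

-- part: Walter/FieldMain
section
prune_inst 0x2000000000000000000000000000000000000000000000000000000000000000000000000000000000000000000000000000000000000000000000
set_option linter.all false
open scoped Cfsg.Agent.FastGrp

-- part: Walter/MetaMain
section
/-!
# No field automorphisms of order a power of `p`, `p ∣ q₀² - 1` or `p = q₀`

`x` induces a field automorphism of order `p ^ n` on `L ≅ PSL(2, q)`, `q = q₀ ^ (p ^ n)`, in `C(t) = ⟨t⟩ × L Φ`.
-/

set_option autoImplicit false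

namespace Cfsg.Agent.Walter.MetaMain

open Subgroup Matrix Cfsg.Agent.Walter.SylowIn Cfsg.Agent.Walter.MetaPSL

variable {G : Type*} [Group G] [Finite G]

/-- the Sylow 2-subgroups of `L` -/
theorem sylow_two_facts {F : Type*} [Field F] [Fintype F]
    (h8 : Fintype.card F % 8 = 3 ∨ Fintype.card F % 8 = 5) {L : Subgroup G}
    (e : L ≃* Matrix.ProjectiveSpecialLinearGroup (Fin 2) F) (V : Subgroup G) (hV : SylIn 2 V L) :
    Nat.card V = 4 ∧ ∀ y ∈ L, (∀ v ∈ V, y * v = v * y) → y ∈ V := by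
  obtain ⟨T, rfl⟩ := hV
  obtain ⟨-, h4, hc⟩ := PSLFacts.odd_facts h8 e T
  refine ⟨by rw [card_map_of_injective L.subtype_injective, h4], ?_⟩
  intro y hy hyv
  have h1 : (⟨y, hy⟩ : L) ∈ centralizer ((T : Subgroup L) : Set L) := by
    rw [mem_centralizer_iff]
    intro v hv
    exact Subtype.ext (hyv v ⟨v, hv, rfl⟩).symm
  exact ⟨⟨y, hy⟩, hc h1, rfl⟩

/-- the setting -/
structure Hyp (G : Type*) [Group G] (S : Sylow 2 G) (t x : G) (L : Subgroup G) (F F' : Type*) [Field F]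
    [Fintype F] [Field F'] [Fintype F'] (p n : ℕ) : Prop where
  sq : ∀ s ∈ (S : Subgroup G), s * s = 1
  card8 : Nat.card (S : Subgroup G) = 8
  t1 : t ≠ 1
  t2 : t * t = 1
  LC : L ≤ centralizer ({t} : Set G)
  CL : centralizer ({t} : Set G) ≤ normalizer (L : Set G)
  tL : t ∉ L
  h8 : Fintype.card F % 8 = 3 ∨ Fintype.card F % 8 = 5
  e : Nonempty (L ≃* Matrix.ProjectiveSpecialLinearGroup (Fin 2) F)
  xC : x ∈ centralizer ({t} : Set G)
  xo : orderOf x = p ^ n
  n0 : n ≠ 0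
  disj : L ⊓ zpowers x = ⊥
  e' : Nonempty ((L ⊓ centralizer ({x} : Set G) : Subgroup G) ≃*
    Matrix.ProjectiveSpecialLinearGroup (Fin 2) F')
  card_pow : Fintype.card F = Fintype.card F' ^ (p ^ n)
  valC : padicValNat p (Nat.card (centralizer ({t} : Set G))) = padicValNat p (Nat.card L) + n
  conj : ∀ g : G, g * x * g⁻¹ ∈ zpowers x → g * x * g⁻¹ = x

variable {S : Sylow 2 G} {t x : G} {L : Subgroup G} {F F' : Type*} [Field F] [Fintype F] [Field F'] [Fintype F']
  {p n : ℕ}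

omit [Finite G] in
theorem Hyp.odd (h : Hyp G S t x L F F' p n) : Odd (Fintype.card F) := by
  rw [Nat.odd_iff]
  have := h.h8
  omega

omit [Finite G] in
theorem Hyp.odd' (h : Hyp G S t x L F F' p n) : Odd (Fintype.card F') := by
  have h1 := h.odd
  rw [h.card_pow] at h1
  by_contra h2
  rw [Nat.not_odd_iff_even] at h2
  have h3 : Even (Fintype.card F' ^ (p ^ n)) := by
    refine (Nat.even_pow).2 ⟨h2, ?_⟩
    intro h0
    rw [h0, pow_zero] at h1
    have h4 := h.card_pow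
    rw [h0, pow_zero] at h4
    exact (Fintype.one_lt_card (α := F)).ne' h4
  exact (Nat.not_odd_iff_even.2 h3) h1

/-- numbers: `v_p(q² - 1) = v_p(q₀² - 1) + n` -/
theorem val_eq (hp : p.Prime) (hp2 : p ≠ 2) {q : ℕ} (hq : 1 < q) (hdvd : p ∣ q ^ 2 - 1) :
    padicValNat p ((q ^ (p ^ n)) ^ 2 - 1) = padicValNat p (q ^ 2 - 1) + n := by
  have hpf : Fact p.Prime := ⟨hp⟩
  have h1 := MetaCyclic.val_pow_sub hp hp2 (s := q ^ 2) (Nat.one_lt_pow (by norm_num) hq) hdvd
    (n := p ^ n) (pow_ne_zero _ hp.ne_zero)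
  rw [padicValNat.prime_pow] at h1
  rw [← h1, ← pow_mul, ← pow_mul, mul_comm]

/-- **Case M** -/
theorem Hyp.cyclic (h : Hyp G S t x L F F' p n) (hp : p.Prime) (hp2 : p ≠ 2) (hpF : ¬ p ∣ Fintype.card F)
    (hdvd : p ∣ Fintype.card F' ^ 2 - 1)
    (hvG : padicValNat p (Nat.card (centralizer ({x} : Set G))) = padicValNat p (Fintype.card F' ^ 2 - 1) + n)
    (hcase : 5 ≤ p ∨ (Fintype.card F % 4 = 1 ∧ ¬ p ∣ Fintype.card F - 1) ∨
      (Fintype.card F % 4 = 3 ∧ ¬ p ∣ Fintype.card F + 1)) :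
    x ∉ _root_.commutator G := by
  have hpf : Fact p.Prime := ⟨hp⟩
  obtain ⟨e⟩ := h.e
  obtain ⟨e'⟩ := h.e'
  have hq' : 1 < Fintype.card F' := Fintype.one_lt_card
  have hpF' : ¬ p ∣ Fintype.card F' := by
    intro h1
    apply hpF
    rw [h.card_pow]
    exact h1.trans (dvd_pow_self _ (pow_ne_zero _ hp.ne_zero))
  have h2 : (2 : F) ≠ 0 := (ClassicalGeometry.PSL2Basic.two_ne_zero_iff_odd F).2 h.odd
  have hne : Fintype.card F' ^ 2 - 1 ≠ 0 := by
    have : 1 < Fintype.card F' ^ 2 := Nat.one_lt_pow (by norm_num) hq'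
    omega
  have hk : padicValNat p (Fintype.card F' ^ 2 - 1) ≠ 0 := by
    have := one_le_padicValNat_of_dvd hne hdvd
    omega
  have hvL : padicValNat p (Nat.card L) = padicValNat p (Fintype.card F' ^ 2 - 1) + n := by
    rw [val_card h.odd e hp hp2 hpF, h.card_pow, val_eq hp hp2 hq' hdvd]
  have hvk : padicValNat p (Nat.card (L ⊓ centralizer ({x} : Set G) : Subgroup G)) =
      padicValNat p (Fintype.card F' ^ 2 - 1) := val_card h.odd' e' hp hp2 hpF'
  refine MetaSylow.not_mem_commutator_cyclic (L := L) hp hp2 ⟨1, by rw [pow_one, pow_two]; exact h.t2⟩ hk h.n0 h.LC h.CL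
    h.xC h.xo h.disj hvL (by rw [h.valC, hvL]) hvk hvG ?_ ?_ h.conj
  · intro Q hQL hQ
    have h3 : IsPGroup p (Q.subgroupOf L) := hQ.comap_of_injective L.subtype L.subtype_injective
    have h4 := isCyclic_of_isPGroup h.odd e hp hp2 hpF _ h3
    exact isCyclic_of_injective (subgroupOfEquivOfLe hQL).symm.toMonoidHom (subgroupOfEquivOfLe hQL).symm.injective
  · rintro T hT2 htT - ⟨Q, hQ, hTQ⟩ y hy hyp
    refine commute_of_normalizer hp hp2 S h.sq h.card8 h.t1 h.LC h.CL h.tL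
      (sylow_two_facts h.h8 e) ?_ hT2 htT hQ.le hQ.isPGroup ?_ hTQ hy hyp
    · rcases hcase with h5 | hc
      · exact Or.inl h5
      · right
        intro u hu hu1 huu R hRL hRp hR1 hRu
        obtain ⟨z, hz, hz1⟩ := (bot_or_exists_ne_one R).resolve_left hR1
        obtain ⟨k, hk⟩ := hRp ⟨z, hz⟩
        have h3 : z ^ (p ^ k) = 1 := by simpa only [_root_.SubmonoidClass.mk_pow, _root_.OneMemClass.coe_one] using congrArg Subtype.val hk
        have h4 := mem_centralizer_singleton_iff.1 (hRu hz)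
        have h5 := dvd_of_commute h2 e (u := ⟨u, hu⟩) (z := ⟨z, hRL hz⟩) (fun h => hu1 (congrArg Subtype.val h))
          (Subtype.ext huu) (Subtype.ext h4) (fun h => hz1 (congrArg Subtype.val h)) hp hp2 (k := k)
          (Subtype.ext (by simpa only [_root_.SubmonoidClass.mk_pow, _root_.OneMemClass.coe_one] using h3))
        rcases hc with ⟨h6, h7⟩ | ⟨h6, h7⟩
        · rcases h5 with ⟨-, h8⟩ | ⟨h8, -⟩
          · exact h7 h8
          · omega
        · rcases h5 with ⟨h8, -⟩ | ⟨-, h8⟩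
          · omega
          · exact h7 h8
    · rintro rfl
      have h3 := MetaSylow.card_of_sylIn hp hQ
      rw [card_bot, hvL] at h3
      have h4 : 1 < p ^ (padicValNat p (Fintype.card F' ^ 2 - 1) + n) :=
        Nat.one_lt_pow (by omega) hp.one_lt
      omega

/-- **Case W** -/
theorem Hyp.wreath (h : Hyp G S t x L F F' p n) (hp : p.Prime) (hp2 : p ≠ 2) (hn : n = 1)
    (hF' : Fintype.card F' = p)
    (hvG : padicValNat p (Nat.card (centralizer ({x} : Set G))) = 2) :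
    x ∉ commutator G := by
  have hpf : Fact p.Prime := ⟨hp⟩
  obtain ⟨e⟩ := h.e
  obtain ⟨e'⟩ := h.e'
  have hFc : Fintype.card F = p ^ p := by rw [h.card_pow, hF', hn, pow_one]
  have hchar : CharP F p := by
    obtain ⟨r, hr⟩ := CharP.exists F
    obtain ⟨m, hrp, hm⟩ := FiniteField.card F r
    rw [hFc] at hm
    have h1 : p ∣ r ^ (m : ℕ) := by rw [← hm]; exact dvd_pow_self p hp.ne_zero
    have h2 := (Nat.prime_dvd_prime_iff_eq hp hrp).1 (hp.dvd_of_dvd_pow h1)
    rwa [h2]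
  have h2 : (2 : F) ≠ 0 := (ClassicalGeometry.PSL2Basic.two_ne_zero_iff_odd F).2 h.odd
  have hcardval : ∀ (a : ℕ), a ≠ 0 → ∀ (N : ℕ), N * 2 = p ^ a * ((p ^ a) ^ 2 - 1) → padicValNat p N = a := by
    intro a ha N hN
    have h1 : 1 < (p ^ a) ^ 2 := by
      rw [← pow_mul]; exact Nat.one_lt_pow (by omega) hp.one_lt
    have h3 : ¬ p ∣ (p ^ a) ^ 2 - 1 := by
      intro h4
      have h5 : p ∣ (p ^ a) ^ 2 := by
        rw [← pow_mul]; exact dvd_pow_self p (by omega)
      have h6 := Nat.dvd_sub h5 h4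
      rw [Nat.sub_sub_self h1.le] at h6
      exact hp.one_lt.ne' (Nat.dvd_one.1 h6)
    have hN0 : N ≠ 0 := by
      rintro rfl
      rw [zero_mul] at hN
      have h4 : 0 < p ^ a * ((p ^ a) ^ 2 - 1) := Nat.mul_pos (pow_pos hp.pos a) (by omega)
      omega
    have h4 := congrArg (padicValNat p) hN
    rw [padicValNat.mul hN0 (by norm_num), padicValNat.mul (pow_ne_zero _ hp.ne_zero) (by omega),
      padicValNat.prime_pow, padicValNat.eq_zero_of_not_dvd h3, padicValNat.eq_zero_of_not_dvd (n := 2),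
      add_zero, add_zero] at h4
    · exact h4
    · intro h
      exact hp2 ((Nat.prime_dvd_prime_iff_eq hp Nat.prime_two).1 h)
  have hvL : padicValNat p (Nat.card L) = p := by
    refine hcardval p hp.ne_zero _ ?_
    rw [← hFc]
    exact card_mul h.odd e
  have hvk : padicValNat p (Nat.card (L ⊓ centralizer ({x} : Set G) : Subgroup G)) = 1 := by
    refine hcardval 1 one_ne_zero _ ?_
    rw [pow_one, ← hF']
    exact card_mul h.odd' e'
  refine MetaSylow.not_mem_commutator_wreath (L := L) hp hp2 ⟨1, by rw [pow_one, pow_two]; exact h.t2⟩ h.LC h.CL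
    h.xC (by rw [h.xo, hn, pow_one]) h.disj hvL (by rw [h.valC, hvL, hn]) hvk hvG ?_ ?_ h.conj
  · intro Q hQL hQ a ha b hb
    have h3 : IsPGroup p (Q.subgroupOf L) := hQ.comap_of_injective L.subtype L.subtype_injective
    have h4 := abelian_of_isPGroup e _ h3 ⟨a, hQL ha⟩ (by rw [mem_subgroupOf]; exact ha) ⟨b, hQL hb⟩
      (by rw [mem_subgroupOf]; exact hb)
    exact ⟨congrArg Subtype.val h4.1, by simpa only [_root_.SubmonoidClass.mk_pow, _root_.OneMemClass.coe_one] using congrArg Subtype.val h4.2⟩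
  · rintro T hT2 htT - ⟨Q, hQ, hTQ⟩ y hy hyp
    refine commute_of_normalizer hp hp2 S h.sq h.card8 h.t1 h.LC h.CL h.tL
      (sylow_two_facts h.h8 e) (Or.inr ?_) hT2 htT hQ.le hQ.isPGroup ?_ hTQ hy hyp
    · intro u hu hu1 huu R hRL hRp hR1 hRu
      obtain ⟨z, hz, hz1⟩ := (bot_or_exists_ne_one R).resolve_left hR1
      obtain ⟨k, hk⟩ := hRp ⟨z, hz⟩
      have h3 : z ^ (p ^ k) = 1 := by simpa only [_root_.SubmonoidClass.mk_pow, _root_.OneMemClass.coe_one] using congrArg Subtype.val hk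
      have h4 := mem_centralizer_singleton_iff.1 (hRu hz)
      have h5 := dvd_of_commute h2 e (u := ⟨u, hu⟩) (z := ⟨z, hRL hz⟩) (fun h => hu1 (congrArg Subtype.val h))
        (Subtype.ext huu) (Subtype.ext h4) (fun h => hz1 (congrArg Subtype.val h)) hp hp2 (k := k)
        (Subtype.ext (by simpa using h3))
      have h6 : p ∣ Fintype.card F := by rw [hFc]; exact dvd_pow_self p hp.ne_zero
      have hF1 : 1 < Fintype.card F := Fintype.one_lt_card
      rcases h5 with ⟨-, h8⟩ | ⟨-, h8⟩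
      · have h9 := Nat.dvd_sub h6 h8
        rw [Nat.sub_sub_self hF1.le] at h9
        exact hp.one_lt.ne' (Nat.dvd_one.1 h9)
      · have h9 := (Nat.dvd_add_right h6).1 h8
        exact hp.one_lt.ne' (Nat.dvd_one.1 h9)
    · rintro rfl
      have h3 := MetaSylow.card_of_sylIn hp hQ
      rw [card_bot, hvL] at h3
      have h4 : 1 < p ^ p := Nat.one_lt_pow hp.ne_zero hp.one_lt
      omega

/-- **Case B** -/
theorem Hyp.burnside (h : Hyp G S t x L F F' p n) (hp : p.Prime)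
    (hvG : padicValNat p (Nat.card (centralizer ({x} : Set G))) = n) : x ∉ commutator G :=
  MetaSylow.not_mem_commutator_burnside hp h.n0 h.xo hvG h.conj

/-! ### Numbers -/

theorem ree_val (hp : p.Prime) (hp5 : 5 ≤ p) {q : ℕ} (hq : 1 < q) (hq3 : ∃ m : ℕ, q = 3 ^ m) (hdvd : p ∣ q ^ 2 - 1) :
    padicValNat p (q ^ 3 * (q ^ 3 + 1) * (q - 1)) = padicValNat p (q ^ 2 - 1) := by
  have hpf : Fact p.Prime := ⟨hp⟩
  obtain ⟨m, hm⟩ := hq3
  have hpq : ¬ p ∣ q := by
    intro h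
    rw [hm] at h
    have h1 := (Nat.prime_dvd_prime_iff_eq hp Nat.prime_three).1 (hp.dvd_of_dvd_pow h)
    omega
  have h1 : q ^ 3 + 1 = (q + 1) * (q ^ 2 - q + 1) := by
    have h2 : q ≤ q ^ 2 := Nat.le_self_pow (by norm_num) _
    zify [h2]
    ring
  have h2 : q ^ 2 - 1 = (q + 1) * (q - 1) := by
    have h3 : 1 ≤ q ^ 2 := Nat.one_le_pow _ _ (by omega)
    zify [h3, hq.le]
    ring
  have h3 : ¬ p ∣ q ^ 2 - q + 1 := by
    intro h4
    rw [h2] at hdvd
    have h5 : q ≤ q ^ 2 := Nat.le_self_pow (by norm_num) _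
    have h6 : (p : ℤ) ∣ (q : ℤ) ^ 2 - q + 1 := by
      have := Int.natCast_dvd_natCast.2 h4
      push_cast [h5] at this
      exact this
    rcases (Nat.Prime.dvd_mul hp).1 hdvd with h7 | h7
    · have h8 : (p : ℤ) ∣ (q : ℤ) + 1 := by exact_mod_cast Int.natCast_dvd_natCast.2 h7
      have h9 : (p : ℤ) ∣ 3 := by
        have : (3 : ℤ) = ((q : ℤ) ^ 2 - q + 1) - (q - 2) * (q + 1) := by ring
        rw [this]
        exact dvd_sub h6 (dvd_mul_of_dvd_right h8 _)
      have h10 : p ∣ 3 := by exact_mod_cast h9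
      have := Nat.le_of_dvd (by norm_num) h10
      omega
    · have h8 : (p : ℤ) ∣ (q : ℤ) - 1 := by
        have := Int.natCast_dvd_natCast.2 h7
        push_cast [hq.le] at this
        exact this
      have h9 : (p : ℤ) ∣ 1 := by
        have : (1 : ℤ) = ((q : ℤ) ^ 2 - q + 1) - q * (q - 1) := by ring
        rw [this]
        exact dvd_sub h6 (dvd_mul_of_dvd_right h8 _)
      have h10 : p ∣ 1 := by exact_mod_cast h9
      exact hp.one_lt.ne' (Nat.dvd_one.1 h10)
  have h4 : q ^ 2 - q + 1 ≠ 0 := by omega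
  rw [padicValNat.mul (Nat.mul_ne_zero (pow_ne_zero _ (by omega)) (by omega)) (by omega),
    padicValNat.mul (pow_ne_zero _ (by omega)) (by omega), h1, padicValNat.mul (by omega) h4,
    padicValNat.eq_zero_of_not_dvd h3, h2, padicValNat.mul (by omega) (by omega),
    padicValNat.eq_zero_of_not_dvd (fun h => hpq (hp.dvd_of_dvd_pow h))]
  omega

/-- **Theorem.** `|C(x)| = |Φ| |K|` where `K` has the order of a Ree group over `F'` or `|F'| = 5` and `K` has the order of
`J₁`, and the prime `p` does not divide `|K|` or divides `|PSL(2, F')|`. -/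
theorem Hyp.main (h : Hyp G S t x L F F' p n) (hp : p.Prime) (hp2 : p ≠ 2) {f N : ℕ} (hf : padicValNat p f = n)
    (hcard : Nat.card (centralizer ({x} : Set G)) = f * N)
    (hN : (∃ m : ℕ, 1 ≤ m ∧ Fintype.card F' = 3 ^ (2 * m + 1) ∧
        N = (3 ^ (2 * m + 1)) ^ 3 * ((3 ^ (2 * m + 1)) ^ 3 + 1) * (3 ^ (2 * m + 1) - 1)) ∨
      (Fintype.card F' = 5 ∧ N = 175560))
    (h3 : ¬ (p = 3 ∧ 3 ∣ Fintype.card F')) (hW : Fintype.card F' = p → n = 1)
    (hpN : p ∣ N → p ∣ Fintype.card F' * (Fintype.card F' ^ 2 - 1)) :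
    x ∉ _root_.commutator G := by
  have hpf : Fact p.Prime := ⟨hp⟩
  have hf0 : f ≠ 0 := by
    rintro rfl
    rw [zero_mul] at hcard
    exact Nat.card_pos.ne' hcard
  have hN0 : N ≠ 0 := by
    rintro rfl
    rw [mul_zero] at hcard
    exact Nat.card_pos.ne' hcard
  have hv : padicValNat p (Nat.card (centralizer ({x} : Set G))) = n + padicValNat p N := by
    rw [hcard, padicValNat.mul hf0 hN0, hf]
  have hq' : 1 < Fintype.card F' := Fintype.one_lt_card
  by_cases hpN' : p ∣ N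
  · rcases (Nat.Prime.dvd_mul hp).1 (hpN hpN') with h4 | h4
    · -- natural characteristic
      rcases hN with ⟨m, hm, hF', hN⟩ | ⟨hF', hN⟩
      · exfalso
        rw [hF'] at h4
        have h5 := (Nat.prime_dvd_prime_iff_eq hp Nat.prime_three).1 (hp.dvd_of_dvd_pow h4)
        exact h3 ⟨h5, by rw [hF']; exact dvd_pow_self 3 (by omega)⟩
      · have h5 : p = 5 := by
          rw [hF'] at h4
          exact (Nat.prime_dvd_prime_iff_eq hp Nat.prime_five).1 h4
        have h6 : Fintype.card F' = p := by rw [hF', h5]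
        refine h.wreath hp hp2 (hW h6) h6 ?_
        rw [hv, hW h6, hN, h5]
        have h7 : padicValNat 5 175560 = 1 := by
          have h8 : (175560 : ℕ) = 5 * 35112 := by norm_num
          have hp5 : Fact (Nat.Prime 5) := ⟨Nat.prime_five⟩
          rw [h8, padicValNat.mul (by norm_num) (by norm_num), padicValNat_self,
            padicValNat.eq_zero_of_not_dvd (by norm_num)]
        rw [h7]
    · -- cross characteristic
      rcases hN with ⟨m, hm, hF', hN⟩ | ⟨hF', hN⟩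
      · have hpF' : ¬ p ∣ Fintype.card F' := by
          intro h5
          rw [hF'] at h5
          have h6 := (Nat.prime_dvd_prime_iff_eq hp Nat.prime_three).1 (hp.dvd_of_dvd_pow h5)
          exact h3 ⟨h6, by rw [hF']; exact dvd_pow_self 3 (by omega)⟩
        have hp3 : p ≠ 3 := by
          rintro rfl
          exact hpF' (by rw [hF']; exact dvd_pow_self 3 (by omega))
        have hp5 : 5 ≤ p := by
          have h5 := hp.two_le
          have h6 : p ≠ 4 := by rintro rfl; revert hp; decide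
          (clear * - hp2 hp3 h5 h6; omega)
        have hpF : ¬ p ∣ Fintype.card F := by
          rw [h.card_pow]
          exact fun h5 => hpF' (hp.dvd_of_dvd_pow h5)
        refine h.cyclic hp hp2 hpF h4 ?_ (Or.inl hp5)
        rw [hv, hN, ← hF', ree_val hp hp5 hq' ⟨_, hF'⟩ h4, add_comm]
      · have h5 : p = 3 := by
          rw [hF'] at h4
          have h6 : p ∣ 2 ^ 3 * 3 := by norm_num at h4 ⊢; exact h4
          rcases (Nat.Prime.dvd_mul hp).1 h6 with h7 | h7
          · exact absurd ((Nat.prime_dvd_prime_iff_eq hp Nat.prime_two).1 (hp.dvd_of_dvd_pow h7)) hp2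
          · exact (Nat.prime_dvd_prime_iff_eq hp Nat.prime_three).1 h7
        subst h5
        have hpF : ¬ 3 ∣ Fintype.card F := by
          rw [h.card_pow, hF']
          intro h6
          have h7 := hp.dvd_of_dvd_pow h6
          norm_num at h7
        have hval : padicValNat 3 175560 = 1 := by
          have h8 : (175560 : ℕ) = 3 * 58520 := by norm_num
          rw [h8, padicValNat.mul (by norm_num) (by norm_num), padicValNat_self,
            padicValNat.eq_zero_of_not_dvd (by norm_num)]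
        have hval' : padicValNat 3 (5 ^ 2 - 1) = 1 := by
          have h8 : (5 ^ 2 - 1 : ℕ) = 3 * 8 := by norm_num
          rw [h8, padicValNat.mul (by norm_num) (by norm_num), padicValNat_self,
            padicValNat.eq_zero_of_not_dvd (by norm_num)]
        refine h.cyclic hp hp2 hpF h4 ?_ (Or.inr (Or.inl ?_))
        · rw [hv, hN, hF', hval, hval', add_comm]
        · rw [h.card_pow, hF']
          have h9 : ∀ k : ℕ, 5 ^ k % 4 = 1 := by
            intro k
            induction k with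
            | zero => rfl
            | succ k ih => rw [pow_succ, Nat.mul_mod, ih]
          refine ⟨h9 _, ?_⟩
          intro h10
          -- `5 ^ (3 ^ n) ≡ 2 (mod 3)`
          have h11 : ∀ k : ℕ, Odd k → 5 ^ k % 3 = 2 := by
            rintro k ⟨l, rfl⟩
            rw [pow_succ, pow_mul, Nat.mul_mod]
            have h12 : (5 ^ 2) ^ l % 3 = 1 := by
              rw [Nat.pow_mod]
              norm_num
            rw [h12]
          have h12 := h11 (3 ^ n) (Odd.pow (by decide))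
          generalize 5 ^ 3 ^ n = X at h10 h12
          omega
  · refine h.burnside hp ?_
    rw [hv, padicValNat.eq_zero_of_not_dvd hpN', add_zero]

end Cfsg.Agent.Walter.MetaMain
end

-- part: Walter/FieldHyp
section
/-!
# The setting of step (5) gives `MetaMain.Hyp`
-/

set_option autoImplicit false
set_option linter.unusedSectionVars false
set_option linter.unusedVariables false

namespace Cfsg.Agent.Walter.FieldHyp

open Subgroup Cfsg
open Cfsg.Agent.SignalizersComponents Cfsg.Agent.SignalizersComponents.Components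
open Cfsg.Agent.Walter.Types Cfsg.Agent.Walter.BalLocal Cfsg.Agent.Walter.OddCoreIn Cfsg.Agent.Walter.Cover
open Cfsg.Agent.Walter.CentB (TypeB)
open Cfsg.Agent.Walter.FieldX Cfsg.Agent.Walter.FieldY Cfsg.Agent.Walter.FieldPSL Cfsg.Agent.Walter.FieldG
open Cfsg.Agent.Walter.FieldCore Cfsg.Agent.Walter.FieldCard Cfsg.Agent.Walter.FieldQuot Cfsg.Agent.Walter.FieldTri
open Cfsg.Agent.Walter.Setup (Data)

universe u

variable {G : Type u} [Group G] [Finite G] {S : Sylow 2 G} {t y : G} {K : Subgroup (C t)}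

/-- the component, as a subgroup of `G` -/
def LG (K : Subgroup (C t)) : Subgroup G := K.map (C t).subtype

theorem mem_LG {x : G} : x ∈ LG K ↔ ∃ h : x ∈ C t, (⟨x, h⟩ : C t) ∈ K := by
  constructor
  · rintro ⟨k, hk, rfl⟩
    exact ⟨k.2, hk⟩
  · rintro ⟨h, hk⟩
    exact ⟨⟨x, h⟩, hk, rfl⟩

theorem LG_le : LG K ≤ C t := map_subtype_le K

/-- `K ≃ LG K` -/
noncomputable def eLG (K : Subgroup (C t)) : K ≃* LG K := K.equivMapOfInjective _ (C t).subtype_injective

theorem LG_conj (hKn : K.Normal) {g x : G} (hg : g ∈ C t) (hx : x ∈ LG K) : g * x * g⁻¹ ∈ LG K := by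
  obtain ⟨k, hk, rfl⟩ := hx
  exact ⟨(⟨g, hg⟩ * k * ⟨g, hg⟩⁻¹ :), hKn.conj_mem k hk _, rfl⟩

variable (H5 : Set5 S)

include H5

theorem eq_one_of_mem_LG (ht : t ∈ (S : Subgroup G)) (ht1 : t ≠ 1)
    (hK : TypeB (S.subtype ((H5.data t ht ht1).le_centralizer ht)) K) (hW : _root_.Cfsg.Agent.Walter.Types.WType K) {x : G}
    (hx : x ∈ LG K) (hxP : x ∈ PhiG S) : x = 1 := by
  obtain ⟨h2, h3⟩ := mem_LG.1 hx
  have h5 := eq_one_of_mem hK (PSLFacts.WType.selfc hW) (y := ⟨x, h2⟩) (k := ⟨x, h2⟩)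
    ((mem_Phi_subtype (H5.data t ht ht1) h2).2 hxP) h3 (z := 1) (one_mem _) (one_mul _)
  exact congrArg (fun z : C t => (z : G)) h5.1

theorem t_notMem (ht : t ∈ (S : Subgroup G)) (ht1 : t ≠ 1)
    (hK : TypeB (S.subtype ((H5.data t ht ht1).le_centralizer ht)) K) (hW : _root_.Cfsg.Agent.Walter.Types.WType K) {k z : G}
    (hk : k ∈ LG K) (hz : z ∈ PhiG S) : t ≠ k * z := by
  intro h
  obtain ⟨h2, h3⟩ := mem_LG.1 hk
  have h4 : (⟨t, self_mem_C t⟩ : C t) ∈ pCore 2 (C t) := by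
    rw [FieldG.pCore_eq (H5.data t ht ht1) hK]
    exact mem_zpowers _
  have hz' := (mem_Phi_subtype (H5.data t ht ht1) (PhiG_le_C (H5.data t ht ht1) hz)).2 hz
  have h5 := inf_E hK (PSLFacts.WType.selfc hW)
  have h6 : (⟨t, self_mem_C t⟩ : C t) ∈ pCore 2 (C t) ⊓ E (S.subtype ((H5.data t ht ht1).le_centralizer ht)) K :=
    mem_inf.2 ⟨h4, (mem_E hK).2 ⟨⟨k, h2⟩, h3, ⟨z, PhiG_le_C (H5.data t ht ht1) hz⟩, hz', Subtype.ext h⟩⟩
  rw [h5, mem_bot] at h6
  exact ht1 (congrArg Subtype.val h6)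

theorem card_LG : Nat.card (LG K) = Nat.card K := Subgroup.card_map_of_injective (C t).subtype_injective

/-- **The setting of the transfer argument.** -/
theorem hyp (ht : t ∈ (S : Subgroup G)) (ht1 : t ≠ 1)
    (hK : TypeB (S.subtype ((H5.data t ht ht1).le_centralizer ht)) K) (hW : _root_.Cfsg.Agent.Walter.Types.WType K)
    {F : Type} [Field F] [Fintype F] (h8 : Fintype.card F % 8 = 3 ∨ Fintype.card F % 8 = 5)
    (M : Model (S.subtype ((H5.data t ht ht1).le_centralizer ht)) K F) (hy : y ∈ PhiG S)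
    [Fintype (Fix (M.τ (toPhi (H5.data t ht ht1) y hy)))] {p n : ℕ} (hp : p.Prime) (hyo : orderOf y = p ^ n)
    (hn : n ≠ 0) (hval : padicValNat p (Nat.card (PhiG S)) = n) :
    MetaMain.Hyp G S t y (LG K) F (Fix (M.τ (toPhi (H5.data t ht ht1) y hy))) p n := by
  have hpf : Fact p.Prime := ⟨hp⟩
  have hd := H5.data t ht ht1
  have hPhi0 : Nat.card (PhiG S) ≠ 0 := Nat.card_pos.ne'
  have hp2 : p ≠ 2 := by
    rintro rfl
    apply PhiG_odd S
    have h1 : 2 ∣ orderOf y := by rw [hyo]; exact dvd_pow_self 2 hn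
    exact h1.trans (orderOf_dvd_natCard _ hy)
  refine ⟨hd.sq, hd.card, ht1, hd.sq t ht, LG_le, ?_, ?_, h8, ⟨(eLG K).symm.trans M.e⟩, PhiG_le_C hd hy, hyo, hn,
    ?_, ?_, ?_, ?_, ?_⟩
  · rw [OddCoreIn.le_normalizer_iff']
    intro c hc x hx
    exact LG_conj hK.normal hc hx
  · intro h
    exact t_notMem H5 ht ht1 hK hW h (one_mem _) (mul_one t).symm
  · rw [eq_bot_iff]
    rintro x ⟨h1, h2⟩
    rw [mem_bot]
    exact eq_one_of_mem_LG H5 ht ht1 hK hW h1 ((zpowers_le.2 hy) h2)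
  · obtain ⟨e⟩ := M.exists_equiv hK.normal (_root_.Cfsg.Agent.Walter.FieldCore.two_ne_zero h8) (toPhi hd y hy)
    have e2 : (LG K ⊓ centralizer ({y} : Set G) : Subgroup G) ≃*
        (K ⊓ centralizer ({((toPhi hd y hy : Phi _) : C t)} : Set (C t)) : Subgroup (C t)) :=
      { toFun := fun x => ⟨⟨x, LG_le (mem_inf.1 x.2).1⟩, mem_inf.2 ⟨(mem_LG.1 (mem_inf.1 x.2).1).2,
          mem_centralizer_singleton_iff.2 (Subtype.ext (mem_centralizer_singleton_iff.1 (mem_inf.1 x.2).2))⟩⟩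
        invFun := fun k => ⟨((k : C t) : G), mem_inf.2 ⟨mem_LG.2 ⟨(k : C t).2, (mem_inf.1 k.2).1⟩,
          mem_centralizer_singleton_iff.2 (congrArg Subtype.val
            (mem_centralizer_singleton_iff.1 (mem_inf.1 k.2).2))⟩⟩
        left_inv := fun _ => rfl
        right_inv := fun _ => rfl
        map_mul' := fun _ _ => rfl }
    exact ⟨e2.trans e⟩
  · have h1 := M.card_eq (toPhi hd y hy)
    rw [Nat.card_eq_fintype_card, Nat.card_eq_fintype_card, orderOf_toPhi, hyo] at h1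
    exact h1
  · have h1 : Nat.card (centralizer ({t} : Set G)) = 2 * Nat.card K * Nat.card (PhiG S) :=
      card_C H5 ht ht1 hK hW
    rw [h1, padicValNat.mul (by
      have : Nat.card K ≠ 0 := Nat.card_pos.ne'
      positivity) hPhi0, padicValNat.mul (by norm_num) Nat.card_pos.ne', hval, card_LG H5]
    have h2 : padicValNat p 2 = 0 := padicValNat.eq_zero_of_not_dvd
      (fun h => hp2 ((Nat.prime_dvd_prime_iff_eq hp Nat.prime_two).1 h))
    rw [h2, zero_add]
  · intro g hg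
    rw [commute_of_conj H5 hy hg, mul_inv_cancel_right]

end Cfsg.Agent.Walter.FieldHyp
end

-- part: Walter/FieldNum
section
/-!
# Numbers: primes dividing `|K|`, `q = q_e ^ (p ^ n)`
-/

set_option autoImplicit false
set_option linter.unusedSectionVars false
set_option linter.unusedVariables false

namespace Cfsg.Agent.Walter.FieldNum

open Subgroup Cfsg
open Cfsg.Agent.Walter.Types Cfsg.Agent.Walter.BalLocal Cfsg.Agent.Walter.OddCoreIn Cfsg.Agent.Walter.Cover
open Cfsg.Agent.Walter.CentB (TypeB)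
open Cfsg.Agent.Walter.FieldX Cfsg.Agent.Walter.FieldY Cfsg.Agent.Walter.FieldPSL Cfsg.Agent.Walter.FieldG
open Cfsg.Agent.Walter.FieldCore Cfsg.Agent.Walter.FieldCard Cfsg.Agent.Walter.FieldQuot
open Cfsg.Agent.Walter.Setup (Data)

universe u

/-- `q ^ (p ^ n) ≡ q mod p` -/
theorem pow_pow_modEq {p : ℕ} [hp : Fact p.Prime] (q n : ℕ) : q ^ p ^ n ≡ q [MOD p] := by
  rw [← ZMod.natCast_eq_natCast_iff, Nat.cast_pow]
  exact ZMod.pow_card_pow _

theorem not_dvd_of {p : ℕ} [hp : Fact p.Prime] {q Q n : ℕ} (hq : 1 ≤ q) (hQ : Q = q ^ p ^ n)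
    (h : ¬ p ∣ q * (q ^ 2 - 1)) : ¬ p ∣ Q * (Q ^ 2 - 1) := by
  intro h1
  apply h
  have h2 : Q ≡ q [MOD p] := by rw [hQ]; exact pow_pow_modEq q n
  have hQ1 : 1 ≤ Q := by rw [hQ]; exact Nat.one_le_pow _ _ hq
  have h3 : (p : ℤ) ∣ (Q : ℤ) * ((Q : ℤ) ^ 2 - 1) := by
    have h4 := Int.natCast_dvd_natCast.2 h1
    push_cast [Nat.one_le_pow 2 Q hQ1] at h4
    exact h4
  have h5 : (p : ℤ) ∣ (Q : ℤ) - q := by
    exact (Int.natCast_modEq_iff.2 h2.symm).dvd
  have h6 : (p : ℤ) ∣ (q : ℤ) * ((q : ℤ) ^ 2 - 1) := by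
    have h7 : (q : ℤ) * ((q : ℤ) ^ 2 - 1) = (Q : ℤ) * ((Q : ℤ) ^ 2 - 1) -
        ((Q : ℤ) - q) * ((Q : ℤ) ^ 2 + Q * q + (q : ℤ) ^ 2 - 1) := by ring
    rw [h7]
    exact dvd_sub h3 (Dvd.dvd.mul_right h5 _)
  have h8 : ((q * (q ^ 2 - 1) : ℕ) : ℤ) = (q : ℤ) * ((q : ℤ) ^ 2 - 1) := by
    push_cast [Nat.one_le_pow 2 q hq]
    ring
  rw [← h8] at h6
  exact Int.natCast_dvd_natCast.1 h6

section X

variable {X : Type*} [Group X] [Finite X] {T : Sylow 2 X} {K : Subgroup X} {F : Type} [Field F] [Fintype F]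

/-- `2 |K| = q (q² - 1)` -/
theorem card_K (h8 : Fintype.card F % 8 = 3 ∨ Fintype.card F % 8 = 5) (M : Model T K F) :
    2 * Nat.card K = Nat.card F * (Nat.card F ^ 2 - 1) := by
  rw [Nat.card_congr M.e.toEquiv, Nat.card_eq_fintype_card (α := F)]
  refine SmallSimple.PSLTwoPart.card_psl_two_odd ?_
  rw [Nat.odd_iff]
  omega

theorem not_dvd_K (h8 : Fintype.card F % 8 = 3 ∨ Fintype.card F % 8 = 5) (M : Model T K F) {y : Phi T}
    {p : ℕ} [hp : Fact p.Prime] {n : ℕ} (hy : orderOf y = p ^ n)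
    (h : ¬ p ∣ Nat.card (Fix (M.τ y)) * (Nat.card (Fix (M.τ y)) ^ 2 - 1)) : ¬ p ∣ Nat.card K := by
  intro h1
  have h2 := not_dvd_of (Q := Nat.card F) (n := n) (Nat.card_pos : 1 ≤ Nat.card (Fix (M.τ y)))
    (by rw [M.card_eq y, hy]) h
  apply h2
  rw [← card_K h8 M]
  exact Dvd.dvd.mul_left h1 2

end X

end Cfsg.Agent.Walter.FieldNum
end

-- part: Walter/FieldSeven
section
/-!
# The Sylow 7-subgroups in the case of the fixed field of order 3
-/

set_option autoImplicit false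
set_option linter.unusedSectionVars false
set_option linter.unusedVariables false

namespace Cfsg.Agent.Walter.FieldSeven

open Subgroup Cfsg
open Cfsg.Agent.SignalizersComponents Cfsg.Agent.SignalizersComponents.Components
open Cfsg.Agent.Walter.Types Cfsg.Agent.Walter.BalLocal Cfsg.Agent.Walter.OddCoreIn Cfsg.Agent.Walter.Cover
open Cfsg.Agent.Walter.CentB (TypeB)
open Cfsg.Agent.Walter.FieldX Cfsg.Agent.Walter.FieldY Cfsg.Agent.Walter.FieldPSL Cfsg.Agent.Walter.FieldG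
open Cfsg.Agent.Walter.FieldCore Cfsg.Agent.Walter.FieldCard Cfsg.Agent.Walter.FieldQuot
open Cfsg.Agent.Walter.Setup (Data)
open Cfsg.Agent.Walter.ReeTorus (Torus)

universe u

section A

variable {A : Type*} [Group A] [Finite A] {V : Subgroup A}

/-- an element of order 7 acting non-trivially on `V` of order 8 is transitive on `V \ {1}` -/
theorem exists_pow_conj (hV : V.Normal) (h8 : Nat.card V = 8) {x v : A} (hx : orderOf x = 7) (hv : v ∈ V)
    (hxv : x * v ≠ v * x) {s : A} (hs : s ∈ V) (hs1 : s ≠ 1) : ∃ i : ℕ, x ^ i * v * (x ^ i)⁻¹ = s := by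
  classical
  have hv1 : v ≠ 1 := by
    intro h
    apply hxv
    rw [h, mul_one, one_mul]
  have hcomm : ∀ i : ℕ, x ^ i * v = v * x ^ i → 7 ∣ i := by
    intro i hi
    by_contra hcon
    apply hxv
    have h1 : Nat.Coprime (orderOf x) i := by
      rw [hx]
      exact (Nat.Prime.coprime_iff_not_dvd (by norm_num)).2 hcon
    obtain ⟨m, hm⟩ := exists_pow_eq_self_of_coprime h1.symm
    rw [← hm]
    exact (show Commute (x ^ i) v from hi).pow_left m
  have hne : ∀ i : ℕ, x ^ i * v * (x ^ i)⁻¹ ≠ 1 := by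
    intro i h
    apply hv1
    have h3 : x ^ i * v = x ^ i := mul_inv_eq_one.1 h
    exact mul_eq_left.1 h3
  let f : Fin 7 → {s : A // s ∈ V ∧ s ≠ 1} := fun i =>
    ⟨x ^ (i : ℕ) * v * (x ^ (i : ℕ))⁻¹, hV.conj_mem v hv _, hne i⟩
  have hinj0 : ∀ i j : ℕ, i ≤ j → j < 7 → x ^ i * v * (x ^ i)⁻¹ = x ^ j * v * (x ^ j)⁻¹ → i = j := by
    intro i j hij hj h1
    have h2 : x ^ (j - i) * v = v * x ^ (j - i) := by
      have h3 : x ^ j = x ^ i * x ^ (j - i) := by rw [← pow_add]; congr 1; omega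
      rw [h3] at h1
      have h4 : v = x ^ (j - i) * v * (x ^ (j - i))⁻¹ := by
        have h5 : x ^ i * v * (x ^ i)⁻¹ = x ^ i * (x ^ (j - i) * v * (x ^ (j - i))⁻¹) * (x ^ i)⁻¹ := by
          rw [h1]; group
        exact mul_left_cancel (mul_right_cancel h5)
      exact (mul_inv_eq_iff_eq_mul.1 h4.symm)
    have h6 := hcomm _ h2
    omega
  have hinj : Function.Injective f := by
    intro i j hij
    have h1 : x ^ (i : ℕ) * v * (x ^ (i : ℕ))⁻¹ = x ^ (j : ℕ) * v * (x ^ (j : ℕ))⁻¹ := congrArg Subtype.val hij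
    apply Fin.ext
    rcases le_total (i : ℕ) (j : ℕ) with h | h
    · exact hinj0 _ _ h j.2 h1
    · exact (hinj0 _ _ h i.2 h1.symm).symm
  have hcard : Nat.card {s : A // s ∈ V ∧ s ≠ 1} = 7 := by
    rw [card_ne_one, h8]
  have hsurj : Function.Surjective f := by
    have hfin : Fintype {s : A // s ∈ V ∧ s ≠ 1} := Fintype.ofFinite _
    refine ((Fintype.bijective_iff_injective_and_card f).2 ⟨hinj, ?_⟩).2
    rw [Fintype.card_fin, ← Nat.card_eq_fintype_card, hcard]
  obtain ⟨i, hi⟩ := hsurj ⟨s, hs, hs1⟩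
  exact ⟨i, congrArg Subtype.val hi⟩

/-- a group of order `168` with a self-centralizing normal elementary subgroup of order `8` -/
theorem exists_three (hV : V.Normal) (h8 : Nat.card V = 8) (hVsq : ∀ v ∈ V, v * v = 1)
    (hC : centralizer (V : Set A) ≤ V)
    (h168 : Nat.card A = 168) (P : Sylow 7 A) :
    Nat.card (P : Subgroup A) = 7 ∧ ∃ (h : A) (α : ℕ), orderOf h = 3 ∧ (∀ x ∈ (P : Subgroup A), h * x * h⁻¹ = x ^ α) ∧
      ¬ α ^ 2 ≡ 1 [MOD 7] := by
  have hf7 : Fact (Nat.Prime 7) := ⟨by norm_num⟩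
  have hf3 : Fact (Nat.Prime 3) := ⟨by norm_num⟩
  have hP7 : Nat.card (P : Subgroup A) = 7 := by
    have h1 := P.card_eq_multiplicity
    rw [h168] at h1
    rw [h1]
    have h2 : (168 : ℕ).factorization 7 = 1 := by
      have : (168 : ℕ) = 7 ^ 1 * 24 := by norm_num
      rw [this, Nat.factorization_mul (by norm_num) (by norm_num), Nat.factorization_pow]
      simp [Nat.Prime.factorization (p := 7) (by norm_num), Nat.factorization_eq_zero_of_not_dvd (n := 24) (p := 7)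
        (by norm_num)]
    rw [h2, pow_one]
  refine ⟨hP7, ?_⟩
  -- the quotient of order 21
  have hq21 : Nat.card (A ⧸ V) = 21 := by
    have h1 := V.card_mul_index
    rw [h8, h168, index_eq_card] at h1
    omega
  let f : A →* A ⧸ V := QuotientGroup.mk' V
  have hfs : Function.Surjective f := QuotientGroup.mk'_surjective V
  let R : Sylow 7 (A ⧸ V) := P.mapSurjective hfs
  have hR : (R : Subgroup (A ⧸ V)) = (P : Subgroup A).map f := Sylow.coe_mapSurjective hfs P
  have hRcard : Nat.card (R : Subgroup (A ⧸ V)) = 7 := by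
    have h1 := R.card_eq_multiplicity
    rw [hq21] at h1
    rw [h1]
    have h2 : (21 : ℕ).factorization 7 = 1 := by
      have : (21 : ℕ) = 7 ^ 1 * 3 := by norm_num
      rw [this, Nat.factorization_mul (by norm_num) (by norm_num), Nat.factorization_pow]
      simp [Nat.Prime.factorization (p := 7) (by norm_num), Nat.factorization_eq_zero_of_not_dvd (n := 3) (p := 7)
        (by norm_num)]
    rw [h2, pow_one]
  have hRn : (R : Subgroup (A ⧸ V)).Normal := by
    have h1 := card_sylow_modEq_one 7 (A ⧸ V)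
    have h2 := R.card_dvd_index
    have h3 : (R : Subgroup (A ⧸ V)).index = 3 := by
      have h4 := (R : Subgroup (A ⧸ V)).card_mul_index
      rw [hRcard, hq21] at h4
      omega
    rw [h3] at h2
    have h4 : Nat.card (Sylow 7 (A ⧸ V)) = 1 := by
      rcases (Nat.dvd_prime (by norm_num)).1 h2 with h | h
      · exact h
      · rw [h] at h1
        have : (3 : ℕ) % 7 = 1 % 7 := h1
        norm_num at this
    have h5 : Subsingleton (Sylow 7 (A ⧸ V)) := (Nat.card_eq_one_iff_unique.1 h4).1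
    exact Sylow.normal_of_subsingleton R
  -- its preimage
  set M : Subgroup A := (R : Subgroup (A ⧸ V)).comap f with hM
  have hMn : M.Normal := hRn.comap f
  have hPM : (P : Subgroup A) ≤ M := by
    rw [hM, hR]; exact le_comap_map _ _
  have hMcard : Nat.card M = 56 := by
    have h1 : M.index = 3 := by
      rw [hM, index_comap_of_surjective _ hfs]
      have h4 := (R : Subgroup (A ⧸ V)).card_mul_index
      rw [hRcard, hq21] at h4
      omega
    have h2 := M.card_mul_index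
    rw [h1, h168] at h2
    omega
  have hFr : normalizer ((P : Subgroup A) : Set A) ⊔ M = ⊤ := P.normalizer_sup_eq_top' (N := M) hPM
  have h3d : 3 ∣ Nat.card (normalizer ((P : Subgroup A) : Set A)) := by
    have h1 := PLocal.PConstrained.card_sup_dvd (normalizer ((P : Subgroup A) : Set A)) M
    rw [hFr, Subgroup.card_top, h168, hMcard] at h1
    have h2 : 3 ∣ Nat.card (normalizer ((P : Subgroup A) : Set A)) * 56 := (by norm_num : 3 ∣ 168).trans h1
    exact (Nat.Prime.dvd_mul (by norm_num)).1 h2 |>.resolve_right (by norm_num)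
  obtain ⟨h', hh'⟩ := exists_prime_orderOf_dvd_card' 3 h3d
  set h : A := (h' : A) with hhdef
  have hh3 : orderOf h = 3 := by rw [hhdef, Subgroup.orderOf_coe]; exact hh'
  have hhN : h ∈ normalizer ((P : Subgroup A) : Set A) := h'.2
  -- a generator of `P`
  have hPc : IsCyclic (P : Subgroup A) := isCyclic_of_prime_card hP7
  obtain ⟨x', hx'⟩ := hPc.exists_generator
  set x : A := (x' : A) with hxdef
  have hx7 : orderOf x = 7 := by
    rw [hxdef, Subgroup.orderOf_coe]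
    exact (orderOf_eq_card_of_forall_mem_zpowers hx').trans hP7
  have hxP : x ∈ (P : Subgroup A) := x'.2
  have hgen : ∀ z ∈ (P : Subgroup A), ∃ n : ℕ, x ^ n = z := by
    intro z hz
    obtain ⟨n, hn⟩ := (Submonoid.mem_powers_iff _ _).1 (mem_powers_iff_mem_zpowers.2 (hx' ⟨z, hz⟩))
    exact ⟨n, congrArg Subtype.val hn⟩
  obtain ⟨α, hα⟩ := hgen _ ((mem_normalizer_iff.1 hhN x).1 hxP)
  refine ⟨h, α, hh3, ?_, ?_⟩
  · intro z hz
    obtain ⟨n, rfl⟩ := hgen z hz
    rw [← conj_pow, ← hα, ← pow_mul, ← pow_mul, mul_comm]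
  · intro hα2
    -- `h` commutes with `x`
    have hconj : ∀ j : ℕ, h ^ j * x * (h ^ j)⁻¹ = x ^ α ^ j := by
      intro j
      induction j with
      | zero => simp
      | succ j ih =>
        calc h ^ (j + 1) * x * (h ^ (j + 1))⁻¹ = h * (h ^ j * x * (h ^ j)⁻¹) * h⁻¹ := by
              rw [pow_succ']; group
          _ = h * x ^ α ^ j * h⁻¹ := by rw [ih]
          _ = (h * x * h⁻¹) ^ α ^ j := (conj_pow).symm
          _ = x ^ α ^ (j + 1) := by rw [← hα, ← pow_mul, ← pow_succ']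
    have h1 := hconj 3
    have h2 : h ^ 3 = 1 := by rw [← hh3]; exact pow_orderOf_eq_one h
    rw [h2, one_mul, inv_one, mul_one] at h1
    have h3 : x ^ 1 = x ^ α ^ 3 := by rw [pow_one]; exact h1
    have h4 : 1 ≡ α ^ 3 [MOD 7] := by
      rw [← hx7]; exact pow_eq_pow_iff_modEq.1 h3
    have h5 : α ≡ 1 [MOD 7] := by
      have h6 : α ^ 3 ≡ α [MOD 7] := by
        have : α ^ 3 = α ^ 2 * α := by ring
        rw [this]
        calc α ^ 2 * α ≡ 1 * α [MOD 7] := Nat.ModEq.mul_right α hα2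
          _ = α := one_mul α
      exact (h4.trans h6).symm
    have h6 : h * x = x * h := by
      have h7 : x ^ α = x ^ 1 := pow_eq_pow_iff_modEq.2 (by rw [hx7]; exact h5)
      rw [pow_one] at h7
      rw [h7] at hα
      exact (mul_inv_eq_iff_eq_mul.1 hα.symm)
    -- `x` does not centralize `V`
    have h7 : ∃ v ∈ V, x * v ≠ v * x := by
      by_contra hcon
      push Not at hcon
      have h8' : x ∈ V := hC (mem_centralizer_iff.2 fun v hv => (hcon v hv).symm)
      have h9 := hVsq x h8'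
      have h10 : orderOf x ∣ 2 := orderOf_dvd_of_pow_eq_one (by rw [pow_two]; exact h9)
      rw [hx7] at h10
      norm_num at h10
    obtain ⟨v, hv, hxv⟩ := h7
    have hv1 : v ≠ 1 := by
      intro h
      apply hxv
      rw [h, mul_one, one_mul]
    obtain ⟨i, hi⟩ := exists_pow_conj hV h8 hx7 hv hxv (hV.conj_mem v hv h) (by
      intro h9
      have h10 : h * v = h := mul_inv_eq_one.1 h9
      exact hv1 (mul_eq_left.1 h10))
    -- `g = x⁻ⁱ h` centralizes `V`
    set g : A := (x ^ i)⁻¹ * h with hg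
    have hgx : Commute g x := by
      refine Commute.mul_left ?_ h6
      exact ((Commute.refl x).pow_left i).inv_left
    have hgv : Commute g v := by
      have h9 : h * v * h⁻¹ = x ^ i * v * (x ^ i)⁻¹ := hi.symm
      have h10 : g * v * g⁻¹ = v := by
        calc g * v * g⁻¹ = (x ^ i)⁻¹ * (h * v * h⁻¹) * x ^ i := by rw [hg]; group
          _ = (x ^ i)⁻¹ * (x ^ i * v * (x ^ i)⁻¹) * x ^ i := by rw [h9]
          _ = v := by group
      exact mul_inv_eq_iff_eq_mul.1 h10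
    have hgV : g ∈ V := by
      apply hC
      rw [mem_centralizer_iff]
      intro s hs
      by_cases hs1 : s = 1
      · rw [hs1, one_mul, mul_one]
      obtain ⟨j, rfl⟩ := exists_pow_conj hV h8 hx7 hv hxv hs hs1
      exact (((hgx.pow_right j).mul_right hgv).mul_right (hgx.pow_right j).inv_right).eq.symm
    have hg2 := hVsq g hgV
    have hg21 : g ^ 21 = 1 := by
      have h9 : Commute ((x ^ i)⁻¹) h := (((show Commute h x from h6).pow_right i).inv_right).symm
      rw [hg, h9.mul_pow]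
      have h10 : h ^ 21 = 1 := by
        have : (21 : ℕ) = 3 * 7 := by norm_num
        rw [this, pow_mul, h2, one_pow]
      have h11 : ((x ^ i)⁻¹) ^ 21 = 1 := by
        have h12 : x ^ 7 = 1 := by rw [← hx7]; exact pow_orderOf_eq_one x
        rw [inv_pow, ← pow_mul, mul_comm, pow_mul]
        have : (21 : ℕ) = 7 * 3 := by norm_num
        rw [this, pow_mul x 7 3, h12, one_pow, one_pow, inv_one]
      rw [h10, h11, one_mul]
    have hg1 : g = 1 := by
      have h9 : (21 : ℕ) = 2 * 10 + 1 := by norm_num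
      rw [h9, pow_add, pow_mul, pow_two, hg2, one_pow, one_mul, pow_one] at hg21
      exact hg21
    have h9 : h = x ^ i := by
      rw [hg] at hg1
      exact (inv_mul_eq_one.1 hg1).symm
    have h10 : h ^ 7 = 1 := by
      rw [h9, ← pow_mul, mul_comm, pow_mul]
      have h12 : x ^ 7 = 1 := by rw [← hx7]; exact pow_orderOf_eq_one x
      rw [h12, one_pow]
    have h11 : orderOf h ∣ 7 := orderOf_dvd_of_pow_eq_one h10
    rw [hh3] at h11
    norm_num at h11

end A

section Q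

variable {Q : Type u} [Group Q] [Finite Q] {T : Sylow 2 Q}

/-- the Sylow 7-subgroups of a group with an elementary abelian Sylow 2-subgroup `T` of order 8,
`|N(T)| = 168`, `C(T) = T`. -/
theorem torus_of_card (hsq : ∀ s ∈ (T : Subgroup Q), s * s = 1) (h8 : Nat.card (T : Subgroup Q) = 8)
    (hN : Nat.card (normalizer ((T : Subgroup Q) : Set Q)) = 168)
    (hC : centralizer ((T : Subgroup Q) : Set Q) ≤ T) (h49 : ¬ 49 ∣ Nat.card Q) [hf7 : Fact (Nat.Prime 7)]
    (R : Sylow 7 Q) : Torus 7 Q R := by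
  set N := normalizer ((T : Subgroup Q) : Set Q) with hNdef
  set V : Subgroup N := (T : Subgroup Q).subgroupOf N with hV
  have hTN : (T : Subgroup Q) ≤ N := Subgroup.le_normalizer
  have hVn : V.Normal := by
    refine ⟨fun x hx g => ?_⟩
    rw [hV, mem_subgroupOf] at hx ⊢
    exact (mem_normalizer_iff.1 g.2 x).1 hx
  have hV8 : Nat.card V = 8 := by
    rw [hV, Nat.card_congr (subgroupOfEquivOfLe hTN).toEquiv, h8]
  have hVsq : ∀ v ∈ V, v * v = 1 := by
    intro v hv
    exact Subtype.ext (hsq _ (mem_subgroupOf.1 hv))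
  have hVC : centralizer (V : Set N) ≤ V := by
    intro x hx
    refine mem_subgroupOf.2 (hC ?_)
    rw [mem_centralizer_iff]
    intro s hs
    exact congrArg Subtype.val (mem_centralizer_iff.1 hx ⟨s, hTN hs⟩ (mem_subgroupOf.2 hs))
  obtain ⟨P⟩ : Nonempty (Sylow 7 N) := inferInstance
  obtain ⟨hP7, h, α, hh3, hact, hα⟩ := exists_three hVn hV8 hVsq hVC hN P
  -- `P` in `Q`
  have hP7' : Nat.card ((P : Subgroup N).map N.subtype) = 7 := by
    rw [Subgroup.card_map_of_injective N.subtype_injective, hP7]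
  have hpg : IsPGroup 7 ((P : Subgroup N).map N.subtype) := IsPGroup.of_card (n := 1) (by rw [hP7', pow_one])
  obtain ⟨P', hP'⟩ := hpg.exists_le_sylow
  have hP'7 : Nat.card (P' : Subgroup Q) = 7 := by
    obtain ⟨k, hk⟩ := IsPGroup.iff_card.1 P'.isPGroup'
    have h1 := card_dvd_of_le hP'
    rw [hP7', hk] at h1
    have h2 : k ≠ 0 := by
      rintro rfl
      norm_num at h1
    have h3 : k < 2 := by
      by_contra hcon
      apply h49
      have h4 : 7 ^ 2 ∣ 7 ^ k := pow_dvd_pow 7 (by omega)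
      have h5 := card_subgroup_dvd_card (P' : Subgroup Q)
      rw [hk] at h5
      exact (by norm_num : 49 ∣ 7 ^ 2).trans (h4.trans h5)
    have h4 : k = 1 := by omega
    rw [hk, h4, pow_one]
  have hPeq : (P : Subgroup N).map N.subtype = (P' : Subgroup Q) :=
    Subgroup.eq_of_le_of_card_ge hP' (by rw [hP'7, hP7'])
  have hT' : Torus 7 Q (P' : Subgroup Q) := by
    refine ⟨isCyclic_of_prime_card hP'7, ?_, (h : Q), α, ?_, ?_, ?_, hα⟩
    · intro h1
      rw [h1, card_bot] at hP'7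
      norm_num at hP'7
    · rw [Subgroup.orderOf_coe, hh3]; decide
    · rw [Subgroup.orderOf_coe, hh3]; norm_num
    · intro x hx
      rw [← hPeq] at hx
      obtain ⟨z, hz, rfl⟩ := hx
      exact congrArg Subtype.val (hact z hz)
  obtain ⟨g, hg⟩ := MulAction.exists_smul_eq Q P' R
  refine hT'.conj g ?_
  rw [← hg, Sylow.coe_subgroup_smul]
  rfl

end Q

section G

variable {G : Type u} [Group G] [Finite G] {S : Sylow 2 G} {y : G} (H5 : Set5 S)

include H5

/-- `C(y) = N(S)` or `|C(y)| = 1512 |Φ|`, `Φ = ⟨y⟩`: the Sylow 7-subgroups of `C(y)/⟨y⟩`. -/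
theorem torus_seven (hy : y ∈ PhiG S) (hPhi : PhiG S = zpowers y)
    (hcard : C y = normalizer ((S : Subgroup G) : Set G) ∨ Nat.card (C y) = 1512 * Nat.card (PhiG S))
    [hf7 : Fact (Nat.Prime 7)] (R : Sylow 7 (Q y)) : Torus 7 (Q y) R := by
  have hPc : Nat.card (PhiG S) = orderOf y := by rw [hPhi, Nat.card_zpowers]
  have h0 := orderOf_pos y
  have hN : Nat.card (normalizer ((TQ hy : Subgroup (Q y)) : Set (Q y))) = 168 := by
    have h6 := card_N_Q H5 hy
    rw [hPc] at h6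
    exact Nat.eq_of_mul_eq_mul_right h0 h6
  have hC : Nat.card (centralizer ((TQ hy : Subgroup (Q y)) : Set (Q y))) = 8 := by
    have h6 := card_C_Q H5 hy
    rw [hPc] at h6
    exact Nat.eq_of_mul_eq_mul_right h0 h6
  have hsq := TQ_sq H5 hy
  have h8 := TQ_card H5 hy
  have hc := AutFacts.comm_of_sq (TQ hy) hsq
  have hle : (TQ hy : Subgroup (Q y)) ≤ centralizer ((TQ hy : Subgroup (Q y)) : Set (Q y)) := by
    intro s hs
    rw [mem_centralizer_iff]
    intro x hx
    exact hc x hx s hs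
  have hCle : centralizer ((TQ hy : Subgroup (Q y)) : Set (Q y)) ≤ TQ hy := by
    refine le_of_eq (Eq.symm ?_)
    exact Subgroup.eq_of_le_of_card_ge hle (by rw [hC, h8])
  have hQ : Nat.card (Q y) = 168 ∨ Nat.card (Q y) = 1512 := by
    have h1 := card_Q H5 hy
    rcases hcard with h | h
    · left
      rw [h, FieldCard.card_N H5, hPc] at h1
      exact Nat.eq_of_mul_eq_mul_right h0 h1
    · right
      rw [h, hPc] at h1
      exact Nat.eq_of_mul_eq_mul_right h0 h1
  refine torus_of_card hsq h8 hN hCle ?_ R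
  rcases hQ with h | h <;> rw [h] <;> norm_num

end G

end Cfsg.Agent.Walter.FieldSeven
end

-- part: Walter/FieldSmall
section
/-!
# Simple groups with abelian Sylow 2-subgroups: the fixed field of order 3, `p ≠ 3`

* `burnside_three`: `|Fix| = 3`, `p ∉ {3, 7}`: Burnside's transfer.
* `seven_three`: `|Fix| = 3`, `p = 7`: the local theorem `NFL`.
* `false_of_torus`: the use of `NFL` in general.
-/

set_option autoImplicit false

namespace Cfsg.Agent.Walter.FieldSmall

open Subgroup Cfsg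
open Cfsg.Agent.Walter.Types Cfsg.Agent.Walter.BalLocal Cfsg.Agent.Walter.Cover
open Cfsg.Agent.Walter.CentB (TypeB)
open Cfsg.Agent.Walter.FieldX Cfsg.Agent.Walter.FieldY Cfsg.Agent.Walter.FieldPSL
open Cfsg.Agent.Walter.FieldG Cfsg.Agent.Walter.FieldQuot
open Cfsg.Agent.Walter.Setup (Data)
open Cfsg.Agent.Walter.ReeTorus (Torus)

universe u

/-- The local theorem (`no_field_local`, helper155). -/
def NFL : Prop :=
  ∀ (G : Type u) [Group G] [Finite G] (p : ℕ) [Fact p.Prime], p ≠ 2 →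
    (∀ a : G, (∃ k, a ^ 2 ^ k = 1) → a * a = 1) →
    ∀ (φ x h : G) (T : Subgroup G) (α : ℕ), (∃ b, φ ^ p ^ b = 1) → x ∈ zpowers φ → orderOf x = p →
    IsPGroup p T → T ≠ ⊥ → (∀ a ∈ T, ∀ b ∈ T, a * b = b * a) → (∀ a ∈ T, a * φ = φ * a) →
    (∀ R : Subgroup G, IsPGroup p R → zpowers φ ⊔ T ≤ R → R ≤ centralizer {φ} → R ≤ zpowers φ ⊔ T) →
    h * φ = φ * h → (∀ a ∈ T, h * a * h⁻¹ = a ^ α) → Odd (orderOf h) → (orderOf h).Coprime p →
    ¬ α ^ 2 ≡ 1 [MOD p] →
    (∀ y ∈ zpowers φ, y ≠ 1 → ∀ g : G, g * y * g⁻¹ ∈ zpowers y → g * y = y * g) →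
    (∀ v : G, orderOf v = 2 → ∀ R : Subgroup G, IsPGroup p R → R ≤ centralizer {v} → IsCyclic R) →
    (∀ v : G, orderOf v = 2 → ∀ y, y * v = v * y → orderOf y = p → ∃ g : G, g * y * g⁻¹ ∈ zpowers x) →
    (∃ K : Subgroup (centralizer ({x} : Set G)), K.Normal ∧ K.index = p) → commutator G ≠ ⊤

/-- 2-elements are involutions -/
theorem sq_of_pow {G : Type*} [Group G] [Finite G] {S : Sylow 2 G}
    (hsq : ∀ a ∈ (S : Subgroup G), a * a = 1) (a : G) (ha : ∃ k, a ^ 2 ^ k = 1) : a * a = 1 := by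
  have h2 : Fact (Nat.Prime 2) := ⟨Nat.prime_two⟩
  obtain ⟨k, hk⟩ := ha
  have h1 : IsPGroup 2 (zpowers a) := by
    rintro ⟨x, hx⟩
    obtain ⟨i, rfl⟩ := hx
    refine ⟨k, Subtype.ext ?_⟩
    change ((a ^ i) ^ 2 ^ k) = 1
    rw [← zpow_natCast, ← zpow_mul, mul_comm, zpow_mul, zpow_natCast, hk, one_zpow]
  obtain ⟨P, hP⟩ := h1.exists_le_sylow
  obtain ⟨g, hg⟩ := MulAction.exists_smul_eq G S P
  have h3 : g⁻¹ * a * g ∈ (S : Subgroup G) := by
    have h4 : a ∈ (P : Subgroup G) := hP (mem_zpowers a)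
    rw [← hg, Sylow.coe_subgroup_smul, mem_pointwise_smul_iff_inv_smul_mem] at h4
    simpa [MulAut.smul_def] using h4
  have h5 := hsq _ h3
  have h6 : g⁻¹ * (a * a) * g = 1 := by rw [← h5]; group
  calc a * a = g * (g⁻¹ * (a * a) * g) * g⁻¹ := by group
    _ = 1 := by rw [h6]; group

variable {G : Type u} [Group G] [Finite G] {S : Sylow 2 G}

/-- **The use of the local theorem.** -/
theorem false_of_torus (hNFL : NFL.{u}) (hG : commutator G = ⊤) (H5 : Set5 S) {p : ℕ} [Fact p.Prime]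
    (hp2 : p ≠ 2) {y : G} (hy : y ∈ PhiG S) (hyp : ∃ b, y ^ p ^ b = 1) {E : Subgroup G}
    (hE1 : ∀ x ∈ E, x * y = y * x)
    (hE2 : ∀ R : Subgroup G, IsPGroup p R → R ≤ centralizer ({y} : Set G) → R ≤ E)
    {K : Type*} [Group K] (f : E →* K) (hf : Function.Surjective f)
    (hker : ∀ x : E, f x = 1 ↔ (x : G) ∈ zpowers y) (hK : ∀ T : Sylow p K, Torus p K (T : Subgroup K))
    {x : G} (hx : x ∈ zpowers y) (hxo : orderOf x = p)
    (H4c : ∀ v : G, orderOf v = 2 → ∀ R : Subgroup G, IsPGroup p R → R ≤ centralizer {v} → IsCyclic R)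
    (H4 : ∀ v : G, orderOf v = 2 → ∀ z, z * v = v * z → orderOf z = p → ∃ g : G, g * z * g⁻¹ ∈ zpowers x)
    (H6 : ∀ T : Subgroup G, IsPGroup p T → (∀ a ∈ T, ∀ b ∈ T, a * b = b * a) → (∀ a ∈ T, a * y = y * a) →
      (∀ R : Subgroup G, IsPGroup p R → zpowers y ⊔ T ≤ R → R ≤ centralizer {y} → R ≤ zpowers y ⊔ T) →
      ∃ K : Subgroup (centralizer ({x} : Set G)), K.Normal ∧ K.index = p) : False := by
  obtain ⟨t, ht, ht1⟩ := H5.ne
  obtain ⟨T, h, α, hT, hT1, -, hTab, hTy, hSyl, -, -, -, hhy, hhT, hho, hhp, hα⟩ :=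
    TorusLift.exists_lift hyp hE1 hE2 f hf hker hK
  refine hNFL G p hp2 (sq_of_pow (H5.data t ht ht1).sq) y x h T α hyp hx hxo hT hT1 hTab hTy hSyl hhy hhT hho hhp hα
    ?_ H4c H4 (H6 T hT hTab hTy hSyl) hG
  intro z hz _ g hg
  exact commute_of_conj H5 ((zpowers_le.2 hy) hz) hg

/-- `⟨y⟩` is a Sylow `p`-subgroup of `C(y)` -/
theorem false_of_burnside (hG : commutator G = ⊤) (H5 : Set5 S) {p : ℕ} (hp : p.Prime) {y : G}
    (hy : y ∈ PhiG S) {e : ℕ} (he : e ≠ 0) (hye : orderOf y = p ^ e)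
    (hv : padicValNat p (Nat.card (centralizer ({y} : Set G))) = e) : False := by
  refine MetaSylow.not_mem_commutator_burnside hp he hye hv (fun g hg => ?_) (by rw [hG]; trivial)
  rw [commute_of_conj H5 hy hg, mul_inv_cancel_right]

/-- the order of `C(y)` when `|Fix| = 3` -/
theorem card_C_of_three (H5 : Set5 S) {y : G}
    (h : C y = normalizer ((S : Subgroup G) : Set G) ∨ Nat.card (C y) = 1512 * Nat.card (PhiG S)) :
    ∃ c, (c = 168 ∨ c = 1512) ∧ Nat.card (C y) = c * Nat.card (PhiG S) := by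
  rcases h with h | h
  · exact ⟨168, Or.inl rfl, by rw [h, FieldCard.card_N H5]⟩
  · exact ⟨1512, Or.inr rfl, h⟩

/-- **`|Fix| = 3`, `p ∉ {2, 3, 7}`.** -/
theorem burnside_three (hG : commutator G = ⊤) (H5 : Set5 S) {p : ℕ} [hp : Fact p.Prime] (hp2 : p ≠ 2)
    (hp3 : p ≠ 3) (hp7 : p ≠ 7) {y : G} (hy : y ∈ PhiG S) (hy1 : y ≠ 1) (hyp : ∃ b, y ^ p ^ b = 1)
    (hPhi : PhiG S = zpowers y)
    (h : C y = normalizer ((S : Subgroup G) : Set G) ∨ Nat.card (C y) = 1512 * Nat.card (PhiG S)) : False := by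
  obtain ⟨b, hb⟩ := hyp
  obtain ⟨e, -, he⟩ := (Nat.dvd_prime_pow hp.out).1 (orderOf_dvd_of_pow_eq_one hb)
  have he0 : e ≠ 0 := by
    rintro rfl
    rw [pow_zero, orderOf_eq_one_iff] at he
    exact hy1 he
  refine false_of_burnside hG H5 hp.out hy he0 he ?_
  obtain ⟨c, hc, hcard⟩ := card_C_of_three H5 h
  have hPc : Nat.card (PhiG S) = p ^ e := by rw [hPhi, Nat.card_zpowers, he]
  have hpc : ¬ p ∣ c := by
    have h2 : ¬ p ∣ 2 := fun h => hp2 ((Nat.prime_dvd_prime_iff_eq hp.out Nat.prime_two).1 h)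
    have h3 : ¬ p ∣ 3 := fun h => hp3 ((Nat.prime_dvd_prime_iff_eq hp.out Nat.prime_three).1 h)
    have h7 : ¬ p ∣ 7 := fun h => hp7 ((Nat.prime_dvd_prime_iff_eq hp.out (by norm_num)).1 h)
    intro h
    have h4 : p ∣ 2 ^ 3 * 3 ^ 3 * 7 := by
      rcases hc with rfl | rfl
      · exact h.trans ⟨9, by norm_num⟩
      · exact h.trans ⟨1, by norm_num⟩
    rcases (Nat.Prime.dvd_mul hp.out).1 h4 with h5 | h5
    · rcases (Nat.Prime.dvd_mul hp.out).1 h5 with h6 | h6
      · exact h2 (hp.out.dvd_of_dvd_pow h6)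
      · exact h3 (hp.out.dvd_of_dvd_pow h6)
    · exact h7 h5
  change padicValNat p (Nat.card (C y)) = e
  rw [hcard, hPc, padicValNat.mul (by rintro rfl; exact hpc (dvd_zero _)) (pow_ne_zero _ hp.out.ne_zero),
    padicValNat.eq_zero_of_not_dvd hpc, zero_add, padicValNat.prime_pow]

/-- **`|Fix| = 3`, `p = 7`.** -/
theorem seven_three (hNFL : NFL.{u}) (hG : commutator G = ⊤) (H5 : Set5 S) [hf7 : Fact (Nat.Prime 7)] {y : G}
    (hy : y ∈ PhiG S) (hyp : ∃ b, y ^ 7 ^ b = 1) (hPhi : PhiG S = zpowers y)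
    (h : C y = normalizer ((S : Subgroup G) : Set G) ∨ Nat.card (C y) = 1512 * Nat.card (PhiG S))
    {x : G} (hx : x ∈ zpowers y) (hxo : orderOf x = 7)
    (H4c : ∀ v : G, orderOf v = 2 → ∀ R : Subgroup G, IsPGroup 7 R → R ≤ centralizer {v} → IsCyclic R)
    (H4 : ∀ v : G, orderOf v = 2 → ∀ z, z * v = v * z → orderOf z = 7 → ∃ g : G, g * z * g⁻¹ ∈ zpowers x)
    (H6 : ∀ T : Subgroup G, IsPGroup 7 T → (∀ a ∈ T, ∀ b ∈ T, a * b = b * a) → (∀ a ∈ T, a * y = y * a) →
      (∀ R : Subgroup G, IsPGroup 7 R → zpowers y ⊔ T ≤ R → R ≤ centralizer {y} → R ≤ zpowers y ⊔ T) →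
      ∃ K : Subgroup (centralizer ({x} : Set G)), K.Normal ∧ K.index = 7) : False := by
  refine false_of_torus hNFL hG H5 (p := 7) (by norm_num) hy hyp (E := C y) ?_ ?_ (pr y) (pr_surj y)
    (fun x => pr_eq_one H5 hy) (fun R => FieldSeven.torus_seven H5 hy hPhi h R) hx hxo H4c H4 H6
  · intro x hx
    exact mem_C.1 hx
  · intro R _ hR
    exact hR

end Cfsg.Agent.Walter.FieldSmall
end

-- part: Walter/NoFieldThreeTr
section
/-!
# The model of `C(t)`, transported to `G`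
-/

set_option autoImplicit false

namespace Cfsg.Agent.Walter.NoFieldThreeTr

open Subgroup Cfsg
open Cfsg.Agent.Walter.Types Cfsg.Agent.Walter.BalLocal Cfsg.Agent.Walter.Cover
open Cfsg.Agent.Walter.CentB (TypeB)
open Cfsg.Agent.Walter.FieldX Cfsg.Agent.Walter.FieldY Cfsg.Agent.Walter.FieldPSL
open Cfsg.Agent.Walter.FieldG
open Cfsg.Agent.Walter.Setup (Data)
open Cfsg.Agent.ClassicalGeometry.AutPSL.Root
open Cfsg.Agent.ClassicalGeometry.AutPSL.Auto

/-- the model of `C(t) = ⟨t⟩ × KΦ` -/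
structure GModel {G : Type*} [Group G] (t : G) (K Φ : Subgroup G) (F : Type) [Field F] [Fintype F] where
  e : K ≃* Matrix.ProjectiveSpecialLinearGroup (Fin 2) F
  τ : Φ →* (F ≃+* F)
  inj : Function.Injective τ
  act : ∀ (y : Φ) (k : G) (hk : k ∈ K) (h : (y : G) * k * (y : G)⁻¹ ∈ K),
    e ⟨(y : G) * k * (y : G)⁻¹, h⟩ = lift (fld (τ y)) (e ⟨k, hk⟩)
  norm : ∀ y ∈ Φ, ∀ k ∈ K, y * k * y⁻¹ ∈ K
  dis : ∀ y ∈ Φ, y ∈ K → y = 1
  comm : ∀ y ∈ Φ, ∀ y' ∈ Φ, y * y' = y' * y
  odd : ¬ 2 ∣ Nat.card Φ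
  tt : t * t = 1
  t1 : t ≠ 1
  tE : ∀ k ∈ K, ∀ y ∈ Φ, t ≠ k * y
  tK : ∀ k ∈ K, k * t = t * k
  tΦ : ∀ y ∈ Φ, y * t = t * y
  cent : ∀ g, g * t = t * g → ∃ k ∈ K, ∃ y ∈ Φ, g = k * y ∨ g = t * (k * y)

variable {G : Type*} [Group G] [Finite G] {S : Sylow 2 G} {t : G}

theorem exists_gModel (h : Data S t) {K : Subgroup (C t)}
    (hK : TypeB (S.subtype (h.le_centralizer h.mem)) K) (hW : _root_.Cfsg.Agent.Walter.Types.WType K)
    {F : Type} [Field F] [Fintype F] (M : Model (S.subtype (h.le_centralizer h.mem)) K F) :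
    Nonempty (GModel t (K.map (C t).subtype) (PhiG S) F) := by
  have hsc := PSLFacts.WType.selfc hW
  have hinj := (C t).subtype_injective
  have hKn := hK.normal
  have hmem : ∀ {k : G}, k ∈ K.map (C t).subtype ↔ ∃ hk : k ∈ C t, (⟨k, hk⟩ : C t) ∈ K := by
    intro k
    constructor
    · rintro ⟨k', hk', rfl⟩
      exact ⟨k'.2, hk'⟩
    · rintro ⟨h1, h2⟩
      exact ⟨_, h2, rfl⟩
  have he : ∀ (k : C t) (hk : k ∈ K), (K.equivMapOfInjective (C t).subtype hinj).symm
      ⟨(k : G), ⟨k, hk, rfl⟩⟩ = ⟨k, hk⟩ := by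
    intro k hk
    rw [MulEquiv.symm_apply_eq]
    rfl
  let toP : PhiG S →* Phi (S.subtype (h.le_centralizer h.mem)) :=
    { toFun := fun y => toPhi h y y.2
      map_one' := rfl
      map_mul' := fun _ _ => rfl }
  have hpc := pCore_eq h hK
  have htm : (⟨t, self_mem_C t⟩ : C t) ∈ pCore 2 (C t) := by
    rw [hpc]; exact mem_zpowers _
  refine ⟨
    { e := (K.equivMapOfInjective (C t).subtype hinj).symm.trans M.e
      τ := M.τ.comp toP
      inj := ?_
      act := ?_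
      norm := ?_
      dis := ?_
      comm := ?_
      odd := PhiG_odd S
      tt := h.sq t h.mem
      t1 := h.ne
      tE := ?_
      tK := ?_
      tΦ := ?_
      cent := ?_ }⟩
  · intro y y' hy
    have h1 := M.inj hy
    have h2 : ((toPhi h y y.2 : C t) : G) = ((toPhi h y' y'.2 : C t) : G) := by
      have : toPhi h y y.2 = toPhi h y' y'.2 := h1
      rw [this]
    exact Subtype.ext h2
  · intro y k hk hyk
    obtain ⟨hkC, hk'⟩ := hmem.1 hk
    obtain ⟨hyC, hyk'⟩ := hmem.1 hyk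
    have h1 := M.act (toPhi h y y.2) ⟨k, hkC⟩ hk' hyk'
    show M.e ((K.equivMapOfInjective (C t).subtype hinj).symm ⟨(y : G) * k * (y : G)⁻¹, hyk⟩) =
      lift (fld (M.τ (toPhi h y y.2))) (M.e ((K.equivMapOfInjective (C t).subtype hinj).symm ⟨k, hk⟩))
    have h2 := he ⟨k, hkC⟩ hk'
    have h3 := he ⟨(y : G) * k * (y : G)⁻¹, hyC⟩ hyk'
    have h2' : (K.equivMapOfInjective (C t).subtype hinj).symm ⟨k, hk⟩ = ⟨⟨k, hkC⟩, hk'⟩ := h2
    have h3' : (K.equivMapOfInjective (C t).subtype hinj).symm ⟨(y : G) * k * (y : G)⁻¹, hyk⟩ =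
      ⟨⟨(y : G) * k * (y : G)⁻¹, hyC⟩, hyk'⟩ := h3
    rw [h2', h3']
    exact h1
  · intro y hy k hk
    obtain ⟨hkC, hk'⟩ := hmem.1 hk
    have h1 := hKn.conj_mem _ hk' (⟨y, PhiG_le_C h hy⟩ : C t)
    exact ⟨_, h1, rfl⟩
  · intro y hy hyK
    obtain ⟨hyC, hyk⟩ := hmem.1 hyK
    have h1 := eq_one_of_mem hK hsc ((mem_Phi_subtype h hyC).2 hy) hyk (one_mem _) (one_mul _)
    exact congrArg Subtype.val h1.1
  · intro y hy y' hy'
    have h1 := M.comm _ _ ((mem_Phi_subtype h (PhiG_le_C h hy)).2 hy)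
      ((mem_Phi_subtype h (PhiG_le_C h hy')).2 hy')
    exact congrArg Subtype.val h1
  · intro k hk y hy hky
    obtain ⟨hkC, hk'⟩ := hmem.1 hk
    have h1 := eq_one_of_mem hK hsc ((mem_Phi_subtype h (PhiG_le_C h hy)).2 hy) (inv_mem hk') htm (by
      apply Subtype.ext
      show t * k⁻¹ = y
      have h2 : k * t = t * k := mem_C.1 hkC
      have h3 : t * k⁻¹ = k⁻¹ * t := by
        rw [mul_inv_eq_iff_eq_mul, mul_assoc, ← h2, inv_mul_cancel_left]
      rw [h3, hky, inv_mul_cancel_left])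
    exact h.ne (congrArg Subtype.val h1.2.1)
  · intro k hk
    obtain ⟨hkC, -⟩ := hmem.1 hk
    exact mem_C.1 hkC
  · intro y hy
    exact mem_C.1 (PhiG_le_C h hy)
  · intro g hg
    have hgC : g ∈ C t := mem_C.2 hg
    obtain ⟨z, hz, k, hk, y, hy, he⟩ := exists_factor' hK hW (⟨g, hgC⟩ : C t)
    have hyG : (y : G) ∈ PhiG S := (mem_Phi_subtype h y.2).1 hy
    have he' : g = z * (k * y) := congrArg Subtype.val he
    rw [hpc] at hz
    have hz2 : z = 1 ∨ z = ⟨t, self_mem_C t⟩ := by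
      obtain ⟨m, rfl⟩ := mem_zpowers_iff.1 hz
      have ht2 : (⟨t, self_mem_C t⟩ : C t) ^ (2 : ℤ) = 1 := by
        rw [zpow_two]
        exact Subtype.ext (h.sq t h.mem)
      rcases Int.even_or_odd' m with ⟨j, hj | hj⟩
      · left
        rw [hj, zpow_mul, ht2, one_zpow]
      · right
        rw [hj, zpow_add, zpow_mul, ht2, one_zpow, one_mul, zpow_one]
    refine ⟨k, ⟨k, hk, rfl⟩, y, hyG, ?_⟩
    rcases hz2 with rfl | rfl
    · left
      rw [he']
      exact one_mul _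
    · exact Or.inr he'

end Cfsg.Agent.Walter.NoFieldThreeTr
end

-- part: Walter/NoFieldThreeMdl
section
/-!
# The model side of "no field automorphisms", `p = 3`

`F` a finite field of order `3 ^ n`, `n` odd, `κ : SL(2,F) → G` with kernel `±1`, `Φ` an abelian subgroup of odd
order acting on the image by field automorphisms, `E = κ(SL(2,F)) Φ`: the facts about `U`, `D = N_E(U)` and an element
`h` of order `r` of the torus which are used in `NoFieldThree.Hyp`.
-/

set_option autoImplicit false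

namespace Cfsg.Agent.Walter.NoFieldThreeMdl

open Subgroup Matrix Matrix.SpecialLinearGroup
open Cfsg.Agent.ClassicalGeometry.SplitTorus (mul00 mul01 mul10 mul11 inv00 inv01 inv10 inv11 det_eq ext2 dg wl up lo
  dg00 dg01 dg10 dg11 wl00 wl01 wl10 wl11 up00 up01 up10 up11 lo00 lo01 lo10 lo11 dg_mul dg_one dg_inv dgHom
  up_add up_zero up_neg dg_conj_up wl_mul_up mem_of_up_lo)
open Cfsg.Agent.ClassicalGeometry.AutPSL.Auto (fld coe_fld_apply)
open Cfsg.Agent.Walter.FieldPSL (Fix mem_Fix card_eq_Fix_pow)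

/-! ### The field -/

section Fld

variable {F : Type*} [Field F] [Finite F] {n : ℕ}

theorem charP_three (hF : Nat.card F = 3 ^ n) : CharP F 3 := by
  obtain ⟨p, hp⟩ := CharP.exists F
  have hpp : p.Prime := CharP.char_is_prime F p
  have h1 : ((Nat.card F : ℕ) : F) = 0 := by
    have := Fintype.ofFinite F
    rw [Nat.card_eq_fintype_card]
    exact FiniteField.cast_card_eq_zero F
  rw [hF] at h1
  have h2 := (CharP.cast_eq_zero_iff F p (3 ^ n)).1 h1
  have h3 := (Nat.prime_dvd_prime_iff_eq hpp Nat.prime_three).1 (hpp.dvd_of_dvd_pow h2)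
  rw [← h3]
  exact hp

theorem two_ne (hF : Nat.card F = 3 ^ n) : (2 : F) ≠ 0 := by
  have := charP_three hF
  intro h
  have h1 : ((2 : ℕ) : F) = 0 := by exact_mod_cast h
  have h2 := (CharP.cast_eq_zero_iff F 3 2).1 h1
  omega

theorem mul_self_ne (hF : Nat.card F = 3 ^ n) (hn : Odd n) (x : F) : x * x ≠ -1 := by
  intro h
  have := Fintype.ofFinite F
  have h1 : IsSquare (-1 : F) := ⟨x, h.symm⟩
  rw [FiniteField.isSquare_neg_one_iff] at h1
  apply h1
  rw [← Nat.card_eq_fintype_card, hF]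
  obtain ⟨m, rfl⟩ := hn
  rw [pow_succ, pow_mul]
  have : (3 ^ 2) ^ m % 4 = 1 := by
    rw [Nat.pow_mod]
    norm_num
  omega

theorem orderOf_dvd (hF : Nat.card F = 3 ^ n) (σ : F ≃+* F) : orderOf σ ∣ n := by
  have h1 := card_eq_Fix_pow σ
  have h2 : Nat.card (Fix σ) ∣ 3 ^ n := by
    rw [← hF, h1]
    have : orderOf σ ≠ 0 := by
      intro h
      rw [h, pow_zero] at h1
      have := Finite.one_lt_card (α := F)
      omega
    exact dvd_pow_self _ this
  obtain ⟨m, -, hm⟩ := (Nat.dvd_prime_pow Nat.prime_three).1 h2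
  rw [hm, hF, ← pow_mul] at h1
  exact ⟨m, by rw [mul_comm]; exact Nat.pow_right_injective (le_refl 2 |>.trans (by norm_num)) h1⟩

theorem eq_one_of_fix (hF : Nat.card F = 3 ^ n) {r : ℕ} (hord : ∀ j, r ∣ 3 ^ j - 1 → n ∣ j)
    {ζ : Fˣ} (hζ : orderOf ζ = r) {σ : F ≃+* F} (hσ : σ ζ = ζ) : σ = 1 := by
  have h1 := card_eq_Fix_pow σ
  have hn0 : n ≠ 0 := by
    rintro rfl
    have := Finite.one_lt_card (α := F)
    omega
  have ho0 : orderOf σ ≠ 0 := by
    intro h
    rw [h, pow_zero] at h1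
    have := Finite.one_lt_card (α := F)
    omega
  have h2 : Nat.card (Fix σ) ∣ 3 ^ n := by
    rw [← hF, h1]
    exact dvd_pow_self _ ho0
  obtain ⟨m, -, hm⟩ := (Nat.dvd_prime_pow Nat.prime_three).1 h2
  have hζF : (ζ : F) ∈ _root_.Cfsg.Agent.Walter.FieldPSL.Fix σ := mem_Fix.2 hσ
  have hζ0 : (⟨ζ, hζF⟩ : Fix σ) ≠ 0 := fun h => ζ.ne_zero (congrArg Subtype.val h)
  have h3 : (⟨ζ, hζF⟩ : Fix σ) ^ (Nat.card (Fix σ) - 1) = 1 := by
    have := Fintype.ofFinite (Fix σ)
    rw [Nat.card_eq_fintype_card]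
    exact FiniteField.pow_card_sub_one_eq_one _ hζ0
  have h4 : ζ ^ (Nat.card (Fix σ) - 1) = 1 := by
    apply Units.ext
    have := congrArg Subtype.val h3
    simpa only [_root_.Units.val_pow_eq_pow_val, _root_.Units.val_one, _root_.SubmonoidClass.mk_pow, _root_.OneMemClass.coe_one] using this
  have h5 : r ∣ 3 ^ m - 1 := by rw [← hζ, ← hm]; exact orderOf_dvd_of_pow_eq_one h4
  have h6 := hord m h5
  have hm0 : m ≠ 0 := by
    rintro rfl
    rw [pow_zero] at hm
    have := Finite.one_lt_card (α := Fix σ)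
    omega
  have h7 : n ≤ m := Nat.le_of_dvd (Nat.pos_of_ne_zero hm0) h6
  rw [hm, hF, ← pow_mul] at h1
  have h8 := Nat.pow_right_injective (le_refl 2 |>.trans (by norm_num : 2 ≤ 3)) h1
  have h9 : m * orderOf σ ≤ m * 1 := by rw [← h8, mul_one]; exact h7
  have h10 := Nat.le_of_mul_le_mul_left h9 (Nat.pos_of_ne_zero hm0)
  exact orderOf_eq_one_iff.1 (by omega)

theorem eq_one_of_sq_fix (hF : Nat.card F = 3 ^ n) {r : ℕ} (hord : ∀ j, r ∣ 3 ^ j - 1 → n ∣ j)
    {ζ : Fˣ} (hζ : orderOf ζ = r) {σ : F ≃+* F} (ho : Odd (orderOf σ)) (hσ : σ (σ ζ) = ζ) : σ = 1 := by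
  have h1 : σ ^ 2 = 1 := eq_one_of_fix hF hord hζ (by rw [pow_two]; exact hσ)
  have h2 : orderOf σ ∣ 2 := orderOf_dvd_of_pow_eq_one h1
  obtain ⟨k, hk⟩ := ho
  have h3 := Nat.le_of_dvd (by norm_num) h2
  exact orderOf_eq_one_iff.1 (by omega)

/-- a field automorphism acts on `⟨ζ⟩` as a power -/
theorem exists_pow_eq {ζ : Fˣ} (σ : F ≃+* F) : ∃ s : ℕ, σ ζ = (ζ : F) ^ s := by
  have hpos : 0 < orderOf ζ := orderOf_pos ζ
  have : NeZero (orderOf ζ) := ⟨hpos.ne'⟩
  have h1 : IsPrimitiveRoot (ζ : F) (orderOf ζ) := (IsPrimitiveRoot.orderOf ζ).map_of_injective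
    (f := Units.coeHom F) Units.val_injective
  have h2 : (σ ζ) ^ orderOf ζ = 1 := by
    rw [← map_pow, h1.pow_eq_one, map_one]
  obtain ⟨i, -, hi⟩ := h1.eq_pow_of_pow_eq_one h2
  exact ⟨i, hi.symm⟩

end Fld

/-! ### Matrices -/

section Mat

variable {F : Type*} [Field F]

local notation "SL" => SpecialLinearGroup (Fin 2) F

theorem neg00 (x : SL) : (-x) 0 0 = -(x 0 0) := rfl
theorem neg01 (x : SL) : (-x) 0 1 = -(x 0 1) := rfl
theorem neg10 (x : SL) : (-x) 1 0 = -(x 1 0) := rfl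
theorem fld_up (σ : F ≃+* F) (b : F) : fld σ (up b) = up (σ b) := by
  apply ext2 <;> rw [coe_fld_apply] <;> simp only [_root_.Fin.isValue, _root_.Cfsg.Agent.ClassicalGeometry.SplitTorus.up00, _root_.map_one, _root_.Cfsg.Agent.ClassicalGeometry.SplitTorus.up01, _root_.Cfsg.Agent.ClassicalGeometry.SplitTorus.up10, _root_.map_zero, _root_.Cfsg.Agent.ClassicalGeometry.SplitTorus.up11]

theorem fld_dg00 (σ : F ≃+* F) (x : SL) (i j : Fin 2) : (fld σ x) i j = σ (x i j) := rfl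

theorem upper_eq {x : SL} (h : x 1 0 = 0) : ∃ (b : F) (c : Fˣ), x = up b * dg c ∧ x 0 0 = c := by
  have hdet := det_eq x
  rw [h, mul_zero, sub_zero] at hdet
  have ha0 : x 0 0 ≠ 0 := fun h => by rw [h, zero_mul] at hdet; exact zero_ne_one hdet
  have hinv : (x 0 0)⁻¹ = x 1 1 := inv_eq_of_mul_eq_one_right hdet
  refine ⟨x 0 1 * x 0 0, Units.mk0 _ ha0, ?_, rfl⟩
  apply ext2
  · rw [mul00]; simp
  · rw [mul01]; simp [ha0]
  · rw [mul10]; simp [h]
  · rw [mul11]; simp [hinv]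

/-- the lower left entry of `x up(1) x⁻¹` -/
theorem conj_up_one_10 (x : SL) : (x * up (1 : F) * x⁻¹) 1 0 = -(x 1 0) ^ 2 := by
  rw [mul10, mul10, mul11, inv00, inv10]
  simp only [up00, up01, up10, up11]
  ring

theorem eq_zero_of_conj_up {x : SL} {b : F} (h : x * up (1 : F) * x⁻¹ = up b ∨ x * up (1 : F) * x⁻¹ = -up b) :
    x 1 0 = 0 := by
  have h1 := conj_up_one_10 x
  have h2 : (x * up (1 : F) * x⁻¹) 1 0 = 0 := by
    rcases h with h | h
    · rw [h]; rfl
    · rw [h, neg10, up10, neg_zero]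
  rw [h2] at h1
  have h3 : (x 1 0) ^ 2 = 0 := by linear_combination h1
  exact pow_eq_zero_iff (two_ne_zero) |>.1 h3

/-- the second half of the generation lemma -/
theorem conj_up_of_ne {x : SL} (h : x 1 0 ≠ 0) (b : F) :
    up (-(x 0 0 / x 1 0)) * x * up b * (up (-(x 0 0 / x 1 0)) * x)⁻¹ = lo (-(x 1 0) ^ 2 * b) := by
  have hdet := det_eq x
  obtain ⟨y, hy⟩ : ∃ y, y = up (-(x 0 0 / x 1 0)) * x := ⟨_, rfl⟩
  have y00 : y 0 0 = 0 := by
    rw [hy, mul00, up00, up01]; field_simp; ring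
  have y01 : y 0 1 = -(x 1 0)⁻¹ := by
    rw [hy, mul01, up00, up01]; field_simp; linear_combination (-1 : F) * hdet
  have y10 : y 1 0 = x 1 0 := by
    rw [hy, mul10, up10, up11]; ring
  rw [← hy, mul_inv_eq_iff_eq_mul]
  apply ext2
  · rw [mul00, mul00, up00, up10, lo00, lo01, y00]; ring
  · rw [mul01, mul01, up01, up11, lo00, lo01, y00, y01]; ring
  · rw [mul10, mul10, up00, up10, lo10, lo11, y00, y10]; ring
  · rw [mul11, mul11, up01, up11, lo10, lo11, y01, y10]; field_simp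

theorem trace_eq_two [CharP F 3] {a : SL} {k : ℕ} (h : a ^ 3 ^ k = 1) : a 0 0 + a 1 1 = 2 := by
  have h3 : Fact (Nat.Prime 3) := ⟨Nat.prime_three⟩
  have h1 : ((a : Matrix (Fin 2) (Fin 2) F) - 1) ^ 3 ^ k = 0 := by
    rw [sub_pow_char_pow_of_commute _ _ (Commute.one_right _), one_pow,
      ← Matrix.SpecialLinearGroup.coe_pow, h, Matrix.SpecialLinearGroup.coe_one, sub_self]
  have h2 : IsNilpotent ((a : Matrix (Fin 2) (Fin 2) F) - 1) := ⟨_, h1⟩
  have h4 := (Matrix.isNilpotent_trace_of_isNilpotent h2).eq_zero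
  rw [Matrix.trace_sub, Matrix.trace_one, Matrix.trace_fin_two] at h4
  simp only [Fintype.card_fin, Nat.cast_ofNat] at h4
  linear_combination h4

theorem eq_one_of_real (hsq : ∀ x : F, x * x ≠ -1) {a b : SL}
    (ht : a 0 0 + a 1 1 = 2) (h : b * a * b⁻¹ = a⁻¹) : a = 1 := by
  have hdet := det_eq a
  have hdb := det_eq b
  rw [mul_inv_eq_iff_eq_mul] at h
  have e00 : b 0 0 * a 0 0 + b 0 1 * a 1 0 = a 1 1 * b 0 0 + -(a 0 1) * b 1 0 := by
    have := congrArg (fun A : SL => A 0 0) h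
    simp only [mul00, inv00, inv01] at this
    exact this
  have e01 : b 0 0 * a 0 1 + b 0 1 * a 1 1 = a 1 1 * b 0 1 + -(a 0 1) * b 1 1 := by
    have := congrArg (fun A : SL => A 0 1) h
    simp only [mul01, inv00, inv01] at this
    exact this
  have e10 : b 1 0 * a 0 0 + b 1 1 * a 1 0 = -(a 1 0) * b 0 0 + a 0 0 * b 1 0 := by
    have := congrArg (fun A : SL => A 1 0) h
    simp only [mul10, inv10, inv11] at this
    exact this
  obtain ⟨p, hp⟩ : ∃ p, a 0 0 = 1 + p := ⟨a 0 0 - 1, by ring⟩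
  have hp' : a 1 1 = 1 - p := by linear_combination ht - hp
  have hN : p ^ 2 + a 0 1 * a 1 0 = 0 := by
    rw [hp, hp'] at hdet
    linear_combination -hdet
  rw [hp, hp'] at e00
  rw [hp'] at e01
  rw [hp] at e10
  have f00 : 2 * p * b 0 0 + b 0 1 * a 1 0 + a 0 1 * b 1 0 = 0 := by linear_combination e00
  have f01 : a 0 1 * (b 0 0 + b 1 1) = 0 := by linear_combination e01
  have f10 : a 1 0 * (b 0 0 + b 1 1) = 0 := by linear_combination e10
  have hq : a 0 1 = 0 := by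
    by_contra hq
    have hw : b 1 1 = -(b 0 0) := by
      have := (mul_eq_zero.1 f01).resolve_left hq
      linear_combination this
    apply hsq ((a 0 1 * b 0 0 - p * b 0 1) / a 0 1)
    rw [hw] at hdb
    field_simp
    linear_combination (-(a 0 1) ^ 2) * hdb - (a 0 1 * b 0 1) * f00 + (b 0 1) ^ 2 * hN
  have hs : a 1 0 = 0 := by
    by_contra hs
    have hw : b 1 1 = -(b 0 0) := by
      have := (mul_eq_zero.1 f10).resolve_left hs
      linear_combination this
    apply hsq ((a 1 0 * b 0 0 - p * b 1 0) / a 1 0)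
    rw [hw] at hdb
    field_simp
    linear_combination (-(a 1 0) ^ 2) * hdb - (a 1 0 * b 1 0) * f00 + (b 1 0) ^ 2 * hN
  have hp0 : p = 0 := by
    rw [hq, zero_mul, add_zero] at hN
    exact pow_eq_zero_iff (two_ne_zero) |>.1 hN
  apply ext2
  · rw [hp, hp0]; simp
  · rw [hq]; simp
  · rw [hs]; simp
  · rw [hp', hp0]; simp

theorem cent_aux (h2 : (2 : F) ≠ 0) {x : SL} {ζ η : Fˣ} {r : ℕ} (hr : Odd r) (hζ : ζ ^ r = 1)
    (hη : η ^ r = 1) (hζ2 : (ζ : F) * ζ ≠ 1) (h : x * dg η = dg ζ * x ∨ x * dg η = -(dg ζ * x)) :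
    (η = ζ ∧ ∃ c, x = dg c) ∨ η = ζ⁻¹ := by
  obtain ⟨ε, hε, h00, h01, h10⟩ : ∃ ε : F, (ε = 1 ∨ ε = -1) ∧ x 0 0 * η = ε * (ζ * x 0 0) ∧
      x 0 1 * ((η⁻¹ : Fˣ) : F) = ε * (ζ * x 0 1) ∧ x 1 0 * η = ε * (((ζ⁻¹ : Fˣ) : F) * x 1 0) := by
    rcases h with h | h
    · refine ⟨1, Or.inl rfl, ?_, ?_, ?_⟩
      · have := congrArg (fun A : SL => A 0 0) h
        simp only [mul00, dg00, dg01, dg10] at this
        linear_combination this
      · have := congrArg (fun A : SL => A 0 1) h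
        simp only [mul01, dg00, dg01, dg11] at this
        linear_combination this
      · have := congrArg (fun A : SL => A 1 0) h
        simp only [mul10, dg00, dg10, dg11] at this
        linear_combination this
    · refine ⟨-1, Or.inr rfl, ?_, ?_, ?_⟩
      · have := congrArg (fun A : SL => A 0 0) h
        simp only [neg00, mul00, dg00, dg01, dg10] at this
        linear_combination this
      · have := congrArg (fun A : SL => A 0 1) h
        simp only [neg01, mul01, dg00, dg01, dg11] at this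
        linear_combination this
      · have := congrArg (fun A : SL => A 1 0) h
        simp only [neg10, mul10, dg00, dg10, dg11] at this
        linear_combination this
  have hζF : (ζ : F) ^ r = 1 := by rw [← Units.val_pow_eq_pow_val, hζ, Units.val_one]
  have hηF : (η : F) ^ r = 1 := by rw [← Units.val_pow_eq_pow_val, hη, Units.val_one]
  have hζi : (((ζ⁻¹ : Fˣ) : F)) ^ r = 1 := by
    rw [← Units.val_pow_eq_pow_val, inv_pow, hζ, inv_one, Units.val_one]
  have hηi : (((η⁻¹ : Fˣ) : F)) ^ r = 1 := by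
    rw [← Units.val_pow_eq_pow_val, inv_pow, hη, inv_one, Units.val_one]
  have hne : ∀ u v : F, u ^ r = 1 → v ^ r = 1 → u = ε * v → ε = 1 := by
    intro u v hu hv huv
    rcases hε with h | h
    · exact h
    · exfalso
      apply h2
      rw [huv, mul_pow, hv, mul_one, h, hr.neg_one_pow] at hu
      linear_combination -hu
  by_cases h0 : x 0 0 = 0
  · right
    have hdet := det_eq x
    rw [h0, zero_mul, zero_sub] at hdet
    have h01' : x 0 1 ≠ 0 := by
      intro h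
      rw [h, zero_mul, neg_zero] at hdet
      exact zero_ne_one hdet
    have h3 : ((η⁻¹ : Fˣ) : F) = ε * ζ := mul_left_cancel₀ h01' (by linear_combination h01)
    have hε1 := hne _ _ hηi hζF h3
    rw [hε1, one_mul] at h3
    rw [← inv_eq_iff_eq_inv]
    exact Units.ext h3
  · left
    have h3 : (η : F) = ε * ζ := mul_left_cancel₀ h0 (by linear_combination h00)
    have hε1 := hne _ _ hηF hζF h3
    rw [hε1, one_mul] at h3
    have hηζ : η = ζ := Units.ext h3
    refine ⟨hηζ, ?_⟩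
    rw [hηζ, hε1] at h01 h10
    have hζi' : (ζ : F) * ((ζ⁻¹ : Fˣ) : F) = 1 := Units.mul_inv ζ
    have hne2 : ((ζ⁻¹ : Fˣ) : F) - ζ ≠ 0 := by
      intro h
      apply hζ2
      linear_combination (-(ζ : F)) * h + hζi'
    have hb : x 0 1 = 0 := by
      have : x 0 1 * (((ζ⁻¹ : Fˣ) : F) - ζ) = 0 := by linear_combination h01
      exact (mul_eq_zero.1 this).resolve_right hne2
    have hc : x 1 0 = 0 := by
      have : x 1 0 * (((ζ⁻¹ : Fˣ) : F) - ζ) = 0 := by linear_combination -h10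
      exact (mul_eq_zero.1 this).resolve_right hne2
    obtain ⟨b, c, hbc, hc'⟩ := upper_eq hc
    refine ⟨c, ?_⟩
    have h5 : b = 0 := by
      have h6 : x 0 1 = b * ((c⁻¹ : Fˣ) : F) := by
        rw [hbc, mul01, up00, up01, dg01, dg11]; ring
      rw [hb] at h6
      exact (mul_eq_zero.1 h6.symm).resolve_right (Units.ne_zero _)
    rw [hbc, h5, up_zero, one_mul]

end Mat

/-! ### The group -/

theorem conj_odd_pow {G : Type*} [Group G] {e a : G} (h : e * a * e⁻¹ = a⁻¹) (m : ℕ) :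
    e ^ (2 * m + 1) * a * (e ^ (2 * m + 1))⁻¹ = a⁻¹ := by
  have h4 : e * a⁻¹ * e⁻¹ = a := by rw [← conj_inv, h, inv_inv]
  induction m with
  | zero => rw [mul_zero, zero_add, pow_one]; exact h
  | succ m ih =>
    rw [show 2 * (m + 1) + 1 = (2 * m + 1) + 1 + 1 by ring, pow_succ', pow_succ']
    calc e * (e * e ^ (2 * m + 1)) * a * (e * (e * e ^ (2 * m + 1)))⁻¹
        = e * (e * (e ^ (2 * m + 1) * a * (e ^ (2 * m + 1))⁻¹) * e⁻¹) * e⁻¹ := by group
      _ = a⁻¹ := by rw [ih, h4, h]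

section Grp

variable {G : Type*} [Group G] {F : Type*} [Field F]

/-- `E = κ(SL(2,F)) Φ`, `Φ` acts by field automorphisms. -/
structure Mdl (E Φ : Subgroup G) (κ : _root_.Matrix.SpecialLinearGroup (Fin 2) F →* G) (τ : Φ →* (F ≃+* F)) : Prop where
  ker : ∀ x, κ x = 1 → x = 1 ∨ x = -1
  neg : κ (-1) = 1
  κE : ∀ x, κ x ∈ E
  ΦE : Φ ≤ E
  fac : ∀ g ∈ E, ∃ x : _root_.Matrix.SpecialLinearGroup (Fin 2) F, ∃ y : Φ, g = κ x * y
  act : ∀ (y : Φ) (x : _root_.Matrix.SpecialLinearGroup (Fin 2) F), (y : G) * κ x * (y : G)⁻¹ = κ (fld (τ y) x)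
  disj : ∀ x, κ x ∈ Φ → κ x = 1
  inj : Function.Injective τ
  comm : ∀ a b : Φ, a * b = b * a
  odd : Odd (Nat.card Φ)

/-- the unipotent subgroup -/
def U (κ : _root_.Matrix.SpecialLinearGroup (Fin 2) F →* G) : Subgroup G where
  carrier := Set.range (fun b : F => κ (up b))
  one_mem' := ⟨0, by show κ (up 0) = 1; rw [up_zero, map_one]⟩
  mul_mem' := by
    rintro _ _ ⟨b, rfl⟩ ⟨c, rfl⟩
    exact ⟨b + c, by show κ (up (b + c)) = κ (up b) * κ (up c); rw [up_add, map_mul]⟩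
  inv_mem' := by
    rintro _ ⟨b, rfl⟩
    exact ⟨-b, by show κ (up (-b)) = (κ (up b))⁻¹; rw [up_neg, map_inv]⟩

theorem mem_U {κ : _root_.Matrix.SpecialLinearGroup (Fin 2) F →* G} {g : G} : g ∈ U κ ↔ ∃ b : F, κ (up b) = g := Iff.rfl

/-- the normaliser of `U` in `E` -/
def D (E : Subgroup G) (κ : _root_.Matrix.SpecialLinearGroup (Fin 2) F →* G) : Subgroup G := E ⊓ normalizer (U κ : Set G)

theorem mem_D {E : Subgroup G} {κ : _root_.Matrix.SpecialLinearGroup (Fin 2) F →* G} {g : G} :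
    g ∈ D E κ ↔ g ∈ E ∧ ∀ u, u ∈ U κ ↔ g * u * g⁻¹ ∈ U κ := by
  rw [D, mem_inf, mem_normalizer_iff]

namespace Mdl

variable {E Φ : Subgroup G} {κ : _root_.Matrix.SpecialLinearGroup (Fin 2) F →* G} {τ : Φ →* (F ≃+* F)} (M : Mdl E Φ κ τ)
include M

theorem kneg (x : _root_.Matrix.SpecialLinearGroup (Fin 2) F) : κ (-x) = κ x := by
  have h1 : -x = (-1) * x := by rw [neg_one_mul]
  rw [h1, map_mul, M.neg, one_mul]

theorem eq_iff {x y : _root_.Matrix.SpecialLinearGroup (Fin 2) F} : κ x = κ y ↔ x = y ∨ x = -y := by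
  constructor
  · intro h
    have h1 : κ (x * y⁻¹) = 1 := by rw [map_mul, map_inv, h, mul_inv_cancel]
    rcases M.ker _ h1 with h2 | h2
    · exact Or.inl (mul_inv_eq_one.1 h2)
    · right
      rw [mul_inv_eq_iff_eq_mul, neg_one_mul] at h2
      exact h2
  · rintro (rfl | rfl)
    · rfl
    · exact M.kneg _

theorem act' (y : Φ) (x : _root_.Matrix.SpecialLinearGroup (Fin 2) F) : (y : G) * κ x = κ (fld (τ y) x) * y := by
  rw [← M.act, inv_mul_cancel_right]

theorem mul (x x' : _root_.Matrix.SpecialLinearGroup (Fin 2) F) (y y' : Φ) :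
    (κ x * y) * (κ x' * y') = κ (x * fld (τ y) x') * ((y * y' : Φ) : G) := by
  rw [map_mul, Subgroup.coe_mul]
  calc κ x * y * (κ x' * y') = κ x * (y * κ x') * y' := by group
    _ = κ x * (κ (fld (τ y) x') * y) * y' := by rw [M.act']
    _ = _ := by group

theorem inv (x : _root_.Matrix.SpecialLinearGroup (Fin 2) F) (y : Φ) : (κ x * y)⁻¹ = κ (fld (τ y⁻¹) x⁻¹) * ((y⁻¹ : Φ) : G) := by
  rw [← M.act', map_inv, _root_.mul_inv_rev, Subgroup.coe_inv]

theorem pow (x : _root_.Matrix.SpecialLinearGroup (Fin 2) F) (y : Φ) (m : ℕ) : ∃ x' : _root_.Matrix.SpecialLinearGroup (Fin 2) F, (κ x * y) ^ m = κ x' * ((y ^ m : Φ) : G) := by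
  induction m with
  | zero => exact ⟨1, by simp only [_root_.pow_zero, _root_.map_one, _root_.OneMemClass.coe_one, _root_.mul_one]⟩
  | succ m ih =>
    obtain ⟨x', hx'⟩ := ih
    exact ⟨_, by rw [pow_succ, pow_succ, hx', M.mul]⟩

theorem unique {x x' : _root_.Matrix.SpecialLinearGroup (Fin 2) F} {y y' : Φ} (h : κ x * y = κ x' * y') : κ x = κ x' ∧ y = y' := by
  have h1 : κ (x'⁻¹ * x) = ((y' * y⁻¹ : Φ) : G) := by
    rw [map_mul, map_inv, Subgroup.coe_mul, Subgroup.coe_inv]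
    have h2 : κ x = κ x' * y' * (y : G)⁻¹ := by rw [← h]; group
    rw [h2]; group
  have h2 := M.disj (x'⁻¹ * x) (by rw [h1]; exact (y' * y⁻¹).2)
  constructor
  · rw [map_mul, map_inv, inv_mul_eq_one] at h2
    exact h2.symm
  · rw [h2] at h1
    have h3 : y' * y⁻¹ = 1 := Subtype.ext h1.symm
    exact (mul_inv_eq_one.1 h3).symm

theorem conj (x x' : _root_.Matrix.SpecialLinearGroup (Fin 2) F) (y y' : Φ) :
    ∃ x'' : _root_.Matrix.SpecialLinearGroup (Fin 2) F, (κ x * y) * (κ x' * y') * (κ x * y)⁻¹ = κ x'' * y' := by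
  refine ⟨(x * fld (τ y) x') * fld (τ (y * y')) (fld (τ y⁻¹) x⁻¹), ?_⟩
  rw [M.mul, M.inv, M.mul]
  congr 2
  rw [M.comm y y', mul_assoc, mul_inv_cancel, mul_one]

theorem eq_one_of_sq {y : Φ} (h : y * y = 1) : y = 1 := by
  have h1 : orderOf y ∣ 2 := orderOf_dvd_of_pow_eq_one (by rw [pow_two]; exact h)
  have h2 : Odd (orderOf y) := M.odd.of_dvd_nat (_root_.orderOf_dvd_natCard y)
  obtain ⟨k, hk⟩ := h2
  have h3 := Nat.le_of_dvd (by norm_num) h1
  exact orderOf_eq_one_iff.1 (by omega)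

theorem odd_tau (y : Φ) : Odd (orderOf (τ y)) :=
  (M.odd.of_dvd_nat (_root_.orderOf_dvd_natCard y)).of_dvd_nat (orderOf_map_dvd τ y)

/-- elements of `E` of order `2` lie in `κ(SL)` -/
theorem exists_of_sq {g : G} (hg : g ∈ E) (h : g * g = 1) : ∃ x : _root_.Matrix.SpecialLinearGroup (Fin 2) F, g = κ x := by
  obtain ⟨x, y, rfl⟩ := M.fac g hg
  rw [M.mul] at h
  have h1 : κ (x * fld (τ y) x) * ((y * y : Φ) : G) = κ 1 * ((1 : Φ) : G) := by
    rw [h, map_one, Subgroup.coe_one, one_mul]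
  have h2 := M.eq_one_of_sq (M.unique h1).2
  exact ⟨x, by rw [h2, Subgroup.coe_one, mul_one]⟩

theorem U_le : U κ ≤ E := by
  rintro _ ⟨b, rfl⟩
  exact M.κE _

theorem conj_up {x : _root_.Matrix.SpecialLinearGroup (Fin 2) F} (hx : x 1 0 = 0) (y : Φ) : ∃ c : Fˣ, (c : F) = x 0 0 ∧ ∀ b : F,
    (κ x * y) * κ (up b) * (κ x * y)⁻¹ = κ (up ((c : F) ^ 2 * τ y b)) := by
  obtain ⟨a, c, hac, h00⟩ := upper_eq hx
  refine ⟨c, h00.symm, fun b => ?_⟩
  have h1 : (κ x * y) * κ (up b) * (κ x * y)⁻¹ = κ x * ((y : G) * κ (up b) * (y : G)⁻¹) * (κ x)⁻¹ := by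
    group
  rw [h1, M.act, fld_up, ← map_inv, ← map_mul, ← map_mul, hac]
  congr 1
  have h2 : up a * dg c * up (τ y b) * (up a * dg c)⁻¹ =
      up a * (dg c * up (τ y b) * (dg c)⁻¹) * (up a)⁻¹ := by group
  rw [h2, dg_conj_up, ← up_neg, ← up_add, ← up_add]
  congr 1
  ring

theorem mem_D_iff {x : _root_.Matrix.SpecialLinearGroup (Fin 2) F} {y : Φ} : κ x * y ∈ D E κ ↔ x 1 0 = 0 := by
  constructor
  · intro h
    have h1 := ((mem_D.1 h).2 (κ (up 1))).1 ⟨1, rfl⟩
    have h2 : (κ x * y) * κ (up 1) * (κ x * y)⁻¹ = κ x * ((y : G) * κ (up 1) * (y : G)⁻¹) * (κ x)⁻¹ := by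
      group
    rw [h2, M.act, fld_up, map_one, ← map_inv, ← map_mul, ← map_mul] at h1
    obtain ⟨b, hb⟩ := h1
    exact eq_zero_of_conj_up (M.eq_iff.1 hb.symm)
  · intro h
    rw [mem_D]
    refine ⟨mul_mem (M.κE x) (M.ΦE y.2), fun u => ⟨?_, ?_⟩⟩
    · rintro ⟨b, rfl⟩
      obtain ⟨c, -, hc⟩ := M.conj_up h y
      rw [hc]
      exact ⟨_, rfl⟩
    · rintro ⟨b, hb⟩
      have h3 : (fld (τ y⁻¹) x⁻¹ : _root_.Matrix.SpecialLinearGroup (Fin 2) F) 1 0 = 0 := by
        rw [fld_dg00, inv10, h, neg_zero, map_zero]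
      obtain ⟨c, -, hc⟩ := M.conj_up h3 y⁻¹
      have h4 := hc b
      have hb' : κ (up b) = κ x * y * u * (κ x * y)⁻¹ := hb
      rw [← M.inv, inv_inv, hb'] at h4
      exact ⟨(c : F) ^ 2 * τ y⁻¹ b, h4.symm.trans (by group)⟩

theorem fld_dg (σ : F ≃+* F) (c : Fˣ) : fld σ (dg c) = dg (Units.map (σ : F →* F) c) := by
  have _ := M
  apply ext2 <;> rw [coe_fld_apply]
  · rfl
  · exact map_zero σ
  · exact map_zero σ
  · rw [dg11, dg11]
    rw [← map_inv]
    rfl

theorem sq_eq_neg_one_or (hsq : ∀ x : F, x * x ≠ -1) {c : Fˣ}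
    (h : κ (dg c) * κ (dg c) = 1) : κ (dg c) = 1 := by
  rw [← map_mul, ← dg_mul] at h
  have h1 : (c : F) * c = 1 := by
    rcases M.ker _ h with h | h
    · have := congrArg (fun A : _root_.Matrix.SpecialLinearGroup (Fin 2) F => A 0 0) h
      simpa only [_root_.Fin.isValue, _root_.Cfsg.Agent.ClassicalGeometry.SplitTorus.dg00, _root_.Units.val_mul, _root_.Matrix.SpecialLinearGroup.coe_one, _root_.Matrix.one_apply_eq] using this
    · exfalso
      apply hsq c
      have := congrArg (fun A : _root_.Matrix.SpecialLinearGroup (Fin 2) F => A 0 0) h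
      simpa using this
  have h3 : ((c : F) - 1) * (c + 1) = 0 := by linear_combination h1
  rcases mul_eq_zero.1 h3 with h4 | h4
  · have : c = 1 := Units.ext (by rw [Units.val_one]; linear_combination h4)
    rw [this, dg_one, map_one]
  · have : c = -1 := Units.ext (by rw [Units.val_neg, Units.val_one]; linear_combination h4)
    have h5 : dg c = (-1 : _root_.Matrix.SpecialLinearGroup (Fin 2) F) := by
      rw [this]
      apply ext2 <;> simp
    rw [h5, M.neg]

section Fin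

variable [Finite F] {n : ℕ} (hF : Nat.card F = 3 ^ n) (hn : Odd n) {r : ℕ} (hr : r.Prime)
  (hr2 : r ≠ 2) (hord : ∀ j, r ∣ 3 ^ j - 1 → n ∣ j) {ζ : Fˣ} (hζ : orderOf ζ = r)
include hF hord hζ hr hr2

omit M hF hord [Finite F] in
theorem zeta_sq : (ζ : F) * ζ ≠ 1 := by
  intro h
  have h1 : ζ ^ 2 = 1 := Units.ext (by rw [Units.val_pow_eq_pow_val, pow_two, Units.val_one]; exact h)
  have h2 := orderOf_dvd_of_pow_eq_one h1
  rw [hζ] at h2
  exact hr2 ((Nat.prime_dvd_prime_iff_eq hr Nat.prime_two).1 h2)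

/-- elements of `E` commuting with `h = κ(dg ζ)` are diagonal -/
theorem cent {g : G} (hg : g ∈ E) (h : g * κ (dg ζ) = κ (dg ζ) * g) : ∃ c : Fˣ, g = κ (dg c) := by
  obtain ⟨x, y, rfl⟩ := M.fac g hg
  have h1 : κ (x * fld (τ y) (dg ζ)) = κ (dg ζ * x) := by
    have h2 : κ x * y * κ (dg ζ) = κ (x * fld (τ y) (dg ζ)) * y := by
      rw [map_mul, mul_assoc, M.act', mul_assoc]
    rw [h2, ← mul_assoc, ← map_mul] at h
    exact mul_right_cancel h
  rw [M.fld_dg, M.eq_iff] at h1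
  have hζr : ζ ^ r = 1 := by rw [← hζ]; exact pow_orderOf_eq_one ζ
  have hη : (Units.map (τ y : F →* F) ζ) ^ r = 1 := by rw [← map_pow, hζr, map_one]
  have hy : τ y = 1 → y = 1 := fun h => M.inj (by rw [h, map_one])
  rcases cent_aux (two_ne hF) (hr.odd_of_ne_two hr2) hζr hη (zeta_sq hr hr2 hζ) h1 with ⟨h2, c, hc⟩ | h2
  · have h3 : τ y (ζ : F) = ζ := congrArg Units.val h2
    have h4 := hy (eq_one_of_fix hF hord hζ h3)
    exact ⟨c, by rw [h4, hc, Subgroup.coe_one, mul_one]⟩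
  · exfalso
    have h3 : τ y (ζ : F) = ((ζ⁻¹ : Fˣ) : F) := congrArg Units.val h2
    have h4 : τ y (τ y (ζ : F)) = ζ := by
      have h5 : τ y (ζ : F) * τ y (((ζ⁻¹ : Fˣ) : F)) = 1 := by rw [← map_mul, Units.mul_inv, map_one]
      rw [h3] at h5 ⊢
      have h6 : (ζ : F) * ((ζ⁻¹ : Fˣ) : F) = 1 := Units.mul_inv ζ
      linear_combination (ζ : F) * h5 - (τ y (((ζ⁻¹ : Fˣ) : F))) * h6
    have h5 := eq_one_of_sq_fix hF hord hζ (M.odd_tau y) h4
    rw [h5] at h3
    apply zeta_sq hr hr2 hζ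
    have h7 : (ζ : F) = ((ζ⁻¹ : Fˣ) : F) := h3
    rw [h7]
    have h6 : (ζ : F) * ((ζ⁻¹ : Fˣ) : F) = 1 := Units.mul_inv ζ
    rw [← h7, ← h6, ← h7]

theorem ch2 (hn : Odd n) {y : G} (hy : y ∈ E) (h : y * κ (dg ζ) = κ (dg ζ) * y) (hyy : y * y = 1) :
    y = 1 := by
  obtain ⟨c, rfl⟩ := M.cent hF hr hr2 hord hζ hy h
  exact M.sq_eq_neg_one_or (mul_self_ne hF hn) hyy

theorem ch3 (hn : Odd n) {y : G} (hy : y ∈ E) (h : y * κ (dg ζ) = κ (dg ζ) * y) {k : ℕ}
    (hyk : y ^ 3 ^ k = 1) : y = 1 := by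
  obtain ⟨c, rfl⟩ := M.cent hF hr hr2 hord hζ hy h
  have h3 : Fact (Nat.Prime 3) := ⟨Nat.prime_three⟩
  have := charP_three hF
  apply M.sq_eq_neg_one_or (mul_self_ne hF hn)
  have hdp : ∀ m : ℕ, dg c ^ m = dg (c ^ m) := fun m => (map_pow (dgHom F) c m).symm
  rw [← map_pow, hdp] at hyk
  have h1 : ((c : F) ^ 2) ^ 3 ^ k = 1 := by
    have h4 : (c : F) ^ 3 ^ k = 1 ∨ (c : F) ^ 3 ^ k = -1 := by
      rcases M.ker _ hyk with h | h
      · left
        have := congrArg (fun A : _root_.Matrix.SpecialLinearGroup (Fin 2) F => A 0 0) h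
        simpa only [_root_.Fin.isValue, _root_.Cfsg.Agent.ClassicalGeometry.SplitTorus.dg00, _root_.Units.val_pow_eq_pow_val, _root_.Matrix.SpecialLinearGroup.coe_one, _root_.Matrix.one_apply_eq] using this
      · right
        have := congrArg (fun A : _root_.Matrix.SpecialLinearGroup (Fin 2) F => A 0 0) h
        simpa using this
    rw [← pow_mul, mul_comm 2, pow_mul]
    rcases h4 with h4 | h4 <;> rw [h4] <;> norm_num
  have h2 : ((c : F) ^ 2 - 1) ^ 3 ^ k = 0 := by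
    rw [sub_pow_char_pow, one_pow, h1, sub_self]
  have h4 : (c : F) ^ 2 = 1 := sub_eq_zero.1 (pow_eq_zero_iff (pow_ne_zero k (by norm_num)) |>.1 h2)
  have h5 : c * c = 1 := Units.ext (by rw [Units.val_mul, Units.val_one, ← pow_two]; exact h4)
  rw [← map_mul, ← dg_mul, h5, dg_one, map_one]

end Fin

section Fin

variable [Finite F] {n : ℕ} (hF : Nat.card F = 3 ^ n) (hn : Odd n)
include hF hn

omit hn in
theorem up_inj {a b : F} (h : κ (up a) = κ (up b)) : a = b := by
  rcases M.eq_iff.1 h with h | h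
  · have := congrArg (fun A : _root_.Matrix.SpecialLinearGroup (Fin 2) F => A 0 1) h
    simpa using this
  · exfalso
    have h1 := congrArg (fun A : _root_.Matrix.SpecialLinearGroup (Fin 2) F => A 0 0) h
    simp only [neg00, up00] at h1
    apply two_ne hF
    linear_combination h1

theorem odd_card_D [Finite G] : Odd (Nat.card (D E κ)) := by
  rw [← Nat.not_even_iff_odd]
  intro hev
  have h2 : Fact (Nat.Prime 2) := ⟨Nat.prime_two⟩
  obtain ⟨g, hg⟩ := exists_prime_orderOf_dvd_card' (G := D E κ) 2 hev.two_dvd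
  have hgg : (g : G) * g = 1 := by
    have h1 : g ^ 2 = 1 := by rw [← hg]; exact pow_orderOf_eq_one g
    rw [pow_two] at h1
    exact congrArg Subtype.val h1
  have hgE : (g : G) ∈ E := (mem_D.1 g.2).1
  obtain ⟨x, hx⟩ := M.exists_of_sq hgE hgg
  have hgD : κ x * ((1 : Φ) : G) ∈ D E κ := by
    rw [Subgroup.coe_one, mul_one, ← hx]; exact g.2
  have h10 := M.mem_D_iff.1 hgD
  obtain ⟨b, c, hbc, h00⟩ := upper_eq h10
  have hc : (c : F) * c = 1 := by
    have h3 : κ (x * x) = 1 := by rw [map_mul, ← hx, hgg]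
    have h4 : (x * x) 0 0 = (c : F) * c := by rw [mul00, h10, h00]; ring
    rcases M.ker _ h3 with h | h
    · rw [h] at h4
      simpa only [_root_.Fin.isValue, _root_.Matrix.SpecialLinearGroup.coe_one, _root_.Matrix.one_apply_eq] using h4.symm
    · rw [h] at h4
      exfalso
      apply mul_self_ne hF hn c
      simpa using h4.symm
  have hc' : c * c = 1 := Units.ext hc
  have h5 : κ (dg c) = 1 := by
    apply M.sq_eq_neg_one_or (mul_self_ne hF hn)
    rw [← map_mul, ← dg_mul, hc', dg_one, map_one]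
  have h6 : (g : G) = κ (up b) := by rw [hx, hbc, map_mul, h5, mul_one]
  have h7 : κ (up (b + b)) = κ (up 0) := by
    rw [up_add, map_mul, ← h6, hgg, up_zero, map_one]
  have h8 := M.up_inj hF h7
  have h9 : b = 0 := by
    have h10 : (2 : F) * b = 0 := by linear_combination h8
    exact (mul_eq_zero.1 h10).resolve_left (two_ne hF)
  have h10 : g = 1 := Subtype.ext (by rw [h6, h9, up_zero, map_one, Subgroup.coe_one])
  rw [h10, orderOf_one] at hg
  omega

theorem CU {d : G} (hd : d ∈ D E κ) (h : ∀ u ∈ U κ, d * u = u * d) : d ∈ U κ := by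
  obtain ⟨x, y, rfl⟩ := M.fac d (mem_D.1 hd).1
  have h10 := M.mem_D_iff.1 hd
  obtain ⟨c, h00, hc⟩ := M.conj_up h10 y
  have h1 : ∀ b : F, (c : F) ^ 2 * τ y b = b := by
    intro b
    apply M.up_inj hF
    rw [← hc, h _ ⟨b, rfl⟩, mul_inv_cancel_right]
  have h2 : (c : F) ^ 2 = 1 := by
    have := h1 1
    rwa [map_one, mul_one] at this
  have h3 : τ y = 1 := by
    ext b
    have := h1 b
    rw [h2, one_mul] at this
    exact this
  have h4 : y = 1 := M.inj (by rw [h3, map_one])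
  obtain ⟨b, c', hbc, h00'⟩ := upper_eq h10
  have h5 : c' * c' = 1 := Units.ext (by
    rw [Units.val_mul, Units.val_one, ← h00', ← h00, ← pow_two, h2])
  have h6 : κ (dg c') = 1 := by
    apply M.sq_eq_neg_one_or (mul_self_ne hF hn)
    rw [← map_mul, ← dg_mul, h5, dg_one, map_one]
  exact ⟨b, by
    show κ (up b) = κ x * y
    rw [hbc, map_mul, h6, h4, Subgroup.coe_one, mul_one, mul_one]⟩

omit hF hn [Finite F] in
theorem gen {g : G} (hg : g ∈ E) (hgD : g ∉ D E κ) (N : Subgroup G) (hUN : U κ ≤ N)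
    (hN : ∀ u ∈ U κ, g * u * g⁻¹ ∈ N) : κ.range ≤ N := by
  obtain ⟨x, y, rfl⟩ := M.fac g hg
  have h10 : x 1 0 ≠ 0 := fun h => hgD (M.mem_D_iff.2 h)
  have h1 : ∀ b : F, κ (x * up b * x⁻¹) ∈ N := by
    intro b
    have h2 := hN (κ (up ((τ y).symm b))) ⟨_, rfl⟩
    have h3 : κ x * y * κ (up ((τ y).symm b)) * (κ x * y)⁻¹ =
        κ x * ((y : G) * κ (up ((τ y).symm b)) * (y : G)⁻¹) * (κ x)⁻¹ := by group
    rw [h3, M.act, fld_up, RingEquiv.apply_symm_apply, ← map_inv, ← map_mul, ← map_mul] at h2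
    exact h2
  have h2 : ∀ c : F, κ (lo c) ∈ N := by
    intro c
    have h3 := conj_up_of_ne h10 (-c / (x 1 0) ^ 2)
    have h4 : -(x 1 0) ^ 2 * (-c / (x 1 0) ^ 2) = c := by field_simp
    rw [h4] at h3
    rw [← h3]
    have h5 : up (-(x 0 0 / x 1 0)) * x * up (-c / (x 1 0) ^ 2) * (up (-(x 0 0 / x 1 0)) * x)⁻¹ =
        up (-(x 0 0 / x 1 0)) * (x * up (-c / (x 1 0) ^ 2) * x⁻¹) * (up (-(x 0 0 / x 1 0)))⁻¹ := by
      group
    rw [h5, map_mul, map_mul, map_inv]
    exact N.mul_mem (N.mul_mem (hUN ⟨_, rfl⟩) (h1 _)) (N.inv_mem (hUN ⟨_, rfl⟩))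
  rintro _ ⟨z, rfl⟩
  exact mem_of_up_lo (N.comap κ) (fun b => hUN ⟨b, rfl⟩) h2 z

theorem nr {y : G} (hy : y ∈ E) {k : ℕ} (hyk : y ^ 3 ^ k = 1) (hy1 : y ≠ 1) {e : G} (he : e ∈ E) :
    e * y * e⁻¹ ≠ y⁻¹ := by
  intro hey
  have := charP_three hF
  -- `y ∈ κ(SL)`
  obtain ⟨a, φ, rfl⟩ := M.fac y hy
  obtain ⟨b, ψ, rfl⟩ := M.fac e he
  have h1 : φ = 1 := by
    obtain ⟨z, hz⟩ := M.conj b a ψ φ
    rw [hz, M.inv] at hey
    have h2 := (M.unique hey).2
    apply M.eq_one_of_sq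
    nth_rewrite 1 [h2]
    rw [inv_mul_cancel]
  subst h1
  rw [Subgroup.coe_one, mul_one] at hy1 hey hyk
  -- an odd power of `e` lies in `κ(SL)`
  obtain ⟨b', hb'⟩ := M.pow b ψ (Nat.card Φ)
  have h2 : ψ ^ Nat.card Φ = 1 := pow_card_eq_one'
  rw [h2, Subgroup.coe_one, mul_one] at hb'
  have h3 := conj_odd_pow hey
  obtain ⟨m, hm⟩ := M.odd
  have h4 := h3 m
  rw [← hm, hb', ← map_inv, ← map_mul, ← map_mul, ← map_inv] at h4
  -- a unipotent preimage
  obtain ⟨a', ha', ha'k⟩ : ∃ a' : _root_.Matrix.SpecialLinearGroup (Fin 2) F, κ a' = κ a ∧ a' ^ 3 ^ k = 1 := by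
    rw [← map_pow] at hyk
    rcases M.ker _ hyk with h | h
    · exact ⟨a, rfl, h⟩
    · refine ⟨-a, M.kneg a, ?_⟩
      have hodd : Odd (3 ^ k) := Odd.pow (by decide)
      rw [hodd.neg_pow, h, neg_neg]
  have h5 : κ (b' * a' * b'⁻¹) = κ a'⁻¹ := by
    rw [map_mul, map_mul, ha', map_inv κ a', ha', ← map_mul, ← map_mul, h4, map_inv]
  have h6 : b' * a' * b'⁻¹ = a'⁻¹ := by
    rcases M.eq_iff.1 h5 with h | h
    · exact h
    · exfalso
      have h7 := congrArg (fun z => z ^ 3 ^ k) h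
      have hodd : Odd (3 ^ k) := Odd.pow (by decide)
      simp only [conj_pow, inv_pow, hodd.neg_pow, ha'k, mul_one, mul_inv_cancel, inv_one] at h7
      have h8 := congrArg (fun A : _root_.Matrix.SpecialLinearGroup (Fin 2) F => A 0 0) h7
      simp only [neg00, Matrix.SpecialLinearGroup.coe_one, Matrix.one_apply_eq] at h8
      apply two_ne hF
      linear_combination h8
  have h7 := eq_one_of_real (mul_self_ne hF hn) (trace_eq_two ha'k) h6
  apply hy1
  rw [← ha', h7, map_one]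

end Fin

theorem wl_sq : κ (wl F) * κ (wl F) = 1 := by
  rw [← map_mul]
  have h : wl F * wl F = (-1 : _root_.Matrix.SpecialLinearGroup (Fin 2) F) := by
    apply ext2
    · rw [mul00]; simp
    · rw [mul01]; simp
    · rw [mul10]; simp
    · rw [mul11]; simp
  rw [h, M.neg]

theorem wl_ne : κ (wl F) ≠ 1 := by
  intro h
  rcases M.ker _ h with h | h
  · have := congrArg (fun A : _root_.Matrix.SpecialLinearGroup (Fin 2) F => A 0 1) h
    simp at this
  · have := congrArg (fun A : _root_.Matrix.SpecialLinearGroup (Fin 2) F => A 0 1) h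
    simp at this

theorem wl_dg (c : Fˣ) : κ (wl F) * κ (dg c) * (κ (wl F))⁻¹ = (κ (dg c))⁻¹ := by
  have _ := M
  rw [← map_inv, ← map_inv, ← map_mul, ← map_mul]
  congr 1
  rw [mul_inv_eq_iff_eq_mul]
  apply ext2
  · rw [mul00, mul00, inv00, inv01]; simp
  · rw [mul01, mul01, inv00, inv01]; simp
  · rw [mul10, mul10, inv10, inv11]; simp
  · rw [mul11, mul11, inv10, inv11]; simp

theorem dg_ne {ζ : Fˣ} (hζ : (ζ : F) * ζ ≠ 1) : κ (dg ζ) ≠ 1 := by
  intro h
  apply hζ
  rcases M.ker _ h with h | h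
  · have := congrArg (fun A : _root_.Matrix.SpecialLinearGroup (Fin 2) F => A 0 0) h
    simp only [dg00, Matrix.SpecialLinearGroup.coe_one, Matrix.one_apply_eq] at this
    rw [this]; norm_num
  · have := congrArg (fun A : _root_.Matrix.SpecialLinearGroup (Fin 2) F => A 0 0) h
    simp only [dg00, neg00, Matrix.SpecialLinearGroup.coe_one, Matrix.one_apply_eq] at this
    rw [this]; norm_num

theorem range_le : κ.range ≤ E := by
  rintro _ ⟨x, rfl⟩
  exact M.κE x

theorem dg_mem_D (c : Fˣ) (y : Φ) : κ (dg c) * (y : G) ∈ D E κ := by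
  rw [M.mem_D_iff]
  exact dg10 c

theorem LX [Finite F] {n : ℕ} (hF : Nat.card F = 3 ^ n) (hn : Odd n) (hn1 : n ≠ 1) {r : ℕ}
    (hr : r.Prime) (hr2 : r ≠ 2) (hord : ∀ j, r ∣ 3 ^ j - 1 → n ∣ j) {ζ : Fˣ} (hζ : orderOf ζ = r)
    (X : Subgroup G) (hXE : X ≤ E) (hX3 : IsPGroup 3 X)
    (hX : ∀ l ∈ κ.range, ∀ x ∈ X, l * x * l⁻¹ ∈ X) : X = ⊥ := by
  have hsimple : IsSimpleGroup (Matrix.ProjectiveSpecialLinearGroup (Fin 2) F) :=
    Matrix.ProjectiveSpecialLinearGroup.rank_two_simple (by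
      rw [hF]
      obtain ⟨m, rfl⟩ := hn
      have hm : 1 ≤ m := by omega
      calc 4 ≤ 3 ^ 2 := by norm_num
        _ ≤ 3 ^ (2 * m + 1) := Nat.pow_le_pow_right (by norm_num) (by omega))
  have hXpow : ∀ x ∈ X, ∃ k : ℕ, x ^ 3 ^ k = 1 := by
    intro x hx
    obtain ⟨k, hk⟩ := hX3 ⟨x, hx⟩
    exact ⟨k, congrArg Subtype.val hk⟩
  -- `X ∩ κ(SL) = 1`
  have hmk := QuotientGroup.mk'_surjective (Subgroup.center (_root_.Matrix.SpecialLinearGroup (Fin 2) F))
  have hYn : (X.comap κ).Normal := by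
    constructor
    intro z hz p
    show κ (p * z * p⁻¹) ∈ X
    rw [map_mul, map_mul, map_inv]
    exact hX _ ⟨p, rfl⟩ _ hz
  have hYn' := hYn.map (QuotientGroup.mk' (Subgroup.center (_root_.Matrix.SpecialLinearGroup (Fin 2) F))) hmk
  have hint : ∀ z : _root_.Matrix.SpecialLinearGroup (Fin 2) F, κ z ∈ X → κ z = 1 := by
    rcases hsimple.eq_bot_or_eq_top_of_normal _ hYn' with h | h
    · intro z hz
      have h1 : QuotientGroup.mk' (Subgroup.center (_root_.Matrix.SpecialLinearGroup (Fin 2) F)) z ∈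
          (X.comap κ).map (QuotientGroup.mk' (Subgroup.center (_root_.Matrix.SpecialLinearGroup (Fin 2) F))) :=
        ⟨z, hz, rfl⟩
      rw [h, mem_bot] at h1
      have h2 := (QuotientGroup.eq_one_iff z).1 h1
      rcases ClassicalGeometry.PSL2Basic.mem_center_SL2_iff.1 h2 with h3 | h3
      · rw [h3, map_one]
      · rw [h3, M.neg]
    · exfalso
      have h1 : QuotientGroup.mk' (Subgroup.center (_root_.Matrix.SpecialLinearGroup (Fin 2) F)) (wl F) ∈
          (X.comap κ).map (QuotientGroup.mk' (Subgroup.center (_root_.Matrix.SpecialLinearGroup (Fin 2) F))) := by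
        rw [h]; exact mem_top _
      obtain ⟨z, hz, hzw⟩ := h1
      have h2 : κ z = κ (wl F) := by
        have h3 : z⁻¹ * wl F ∈ Subgroup.center (_root_.Matrix.SpecialLinearGroup (Fin 2) F) :=
          QuotientGroup.eq.1 hzw
        rcases ClassicalGeometry.PSL2Basic.mem_center_SL2_iff.1 h3 with h4 | h4
        · rw [inv_mul_eq_one.1 h4]
        · have h5 : wl F = -z := by
            rw [inv_mul_eq_iff_eq_mul] at h4
            rw [h4, mul_neg, mul_one]
          rw [h5, M.kneg]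
      have h3 : κ (wl F) ∈ X := by rw [← h2]; exact hz
      obtain ⟨k, hk⟩ := hXpow _ h3
      apply M.wl_ne
      have h4 : κ (wl F) ^ 3 ^ k = κ (wl F) := by
        obtain ⟨m, hm⟩ : Odd (3 ^ k) := Odd.pow (by decide)
        rw [hm, pow_succ, pow_mul, pow_two, M.wl_sq, one_pow, one_mul]
      rw [← h4, hk]
  rw [eq_bot_iff]
  intro x hx
  rw [mem_bot]
  obtain ⟨a, y, hay⟩ := M.fac x (hXE hx)
  have hh : κ (dg ζ) ∈ E := M.κE _
  have h1 : κ (dg ζ) * x * (κ (dg ζ))⁻¹ * x⁻¹ ∈ X :=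
    X.mul_mem (hX _ ⟨_, rfl⟩ x hx) (X.inv_mem hx)
  have h2 : ∃ z, κ (dg ζ) * x * (κ (dg ζ))⁻¹ * x⁻¹ = κ z := by
    refine ⟨dg ζ * (a * fld (τ y) (dg ζ)⁻¹ * a⁻¹), ?_⟩
    rw [hay, map_mul κ, map_mul κ, map_mul κ, ← M.act, map_inv, map_inv]
    group
  obtain ⟨z, hz⟩ := h2
  rw [hz] at h1
  have h3 := hint z h1
  rw [← hz, mul_inv_eq_one, mul_inv_eq_iff_eq_mul] at h3
  obtain ⟨k, hk⟩ := hXpow x hx
  exact M.ch3 hF hr hr2 hord hζ hn (hXE hx) h3.symm hk

end Mdl

end Grp

section Final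

open Cfsg.Agent.Walter.QdAbelian (AbTwo)
open Cfsg.Agent.Walter.NoFieldThree (El Hyp)

variable {F : Type*} [Field F]

theorem Mdl.hyp {G : Type*} [Group G] [Finite G] {E Φ : Subgroup G}
    {κ : _root_.Matrix.SpecialLinearGroup (Fin 2) F →* G} {τ : Φ →* (F ≃+* F)} (M : Mdl E Φ κ τ) [Finite F]
    {n : ℕ} (hF : Nat.card F = 3 ^ n) (hn : Odd n) (hn1 : n ≠ 1) {r : ℕ}
    (hr : r.Prime) (hr2 : r ≠ 2) (hord : ∀ j, r ∣ 3 ^ j - 1 → n ∣ j) {ζ : Fˣ} (hζ : orderOf ζ = r)
    (hab : AbTwo G) {t : G} (ht : t * t = 1) (ht1 : t ≠ 1)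
    (hconj : ∀ a : G, a * a = 1 → a ≠ 1 → ∃ g, g * t * g⁻¹ = a) (cE : ∀ e ∈ E, e * t = t * e)
    (cent : ∀ g, g * t = t * g → g ∈ E ∨ t * g ∈ E) (tE : t ∉ E) :
    Hyp t E κ.range (U κ) (D E κ) (κ (wl F)) (κ (dg ζ)) r := by
  have hζ2 := Mdl.zeta_sq hr hr2 hζ
  have hdp : ∀ m : ℕ, dg ζ ^ m = dg (ζ ^ m) := fun m => (map_pow (dgHom F) ζ m).symm
  exact
    { hab := hab
      ht := ht
      ht1 := ht1
      isConj := hconj
      cE := cE
      cent := cent
      tE := tE
      nr := by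
        intro y hy hyl hy1 e he
        obtain ⟨k, hk⟩ := hyl.exists_pow
        exact M.nr hF hn hy hk hy1 he
      LE := M.range_le
      LX := fun X hXE hX3 hX => M.LX hF hn hn1 hr hr2 hord hζ X hXE hX3 hX
      wL := ⟨_, rfl⟩
      hw := M.wl_sq
      hw1 := M.wl_ne
      wh := M.wl_dg ζ
      UL := by
        rintro _ ⟨b, rfl⟩
        exact ⟨_, rfl⟩
      U1 := by
        intro h
        have h1 : κ (up (1 : F)) ∈ U κ := ⟨1, rfl⟩
        rw [h, mem_bot] at h1
        have h2 : κ (up (1 : F)) = κ (up 0) := by rw [h1, up_zero, map_one]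
        exact one_ne_zero (M.up_inj hF h2)
      U3 := by
        rintro ⟨_, b, rfl⟩
        refine ⟨1, ?_⟩
        have h3 : ((3 : ℕ) : F) = 0 := by
          have := charP_three hF
          exact CharP.cast_eq_zero F 3
        apply Subtype.ext
        show (κ (up b)) ^ 3 ^ 1 = 1
        rw [pow_one, pow_succ, pow_two, ← map_mul, ← map_mul, ← up_add, ← up_add]
        have h4 : b + b + b = 0 := by
          have : b + b + b = ((3 : ℕ) : F) * b := by push_cast; ring
          rw [this, h3, zero_mul]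
        rw [h4, up_zero, map_one]
      Uc := by
        rintro _ ⟨a, rfl⟩ _ ⟨b, rfl⟩
        show κ (up a) * κ (up b) = κ (up b) * κ (up a)
        rw [← map_mul, ← map_mul, ← up_add, ← up_add, add_comm]
      memD := fun g => mem_D
      Dodd := M.odd_card_D hF hn
      gen := fun g hg hgD N hUN hN => M.gen hg hgD N hUN hN
      CU := fun d hd h => M.CU hF hn hd h
      hD := by
        have := M.dg_mem_D ζ 1
        rwa [Subgroup.coe_one, mul_one] at this
      hr := hr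
      hhr := by
        rw [← map_pow, hdp, ← hζ, pow_orderOf_eq_one, dg_one, map_one]
      hh1 := M.dg_ne hζ2
      ch3 := by
        intro y hy hyh hyl
        obtain ⟨k, hk⟩ := hyl.exists_pow
        exact M.ch3 hF hr hr2 hord hζ hn hy hyh hk
      ch2 := fun y hy hyh hyy => M.ch2 hF hr hr2 hord hζ hn hy hyh hyy }

end Final

end Cfsg.Agent.Walter.NoFieldThreeMdl
end

-- part: Walter/NoFieldThreeLoc
section
/-!
# No field automorphisms of order three (Walter, step (5)): the maximal local subgroup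
-/

set_option autoImplicit false

namespace Cfsg.Agent.Walter.NoFieldThree

open Subgroup Cfsg
open Cfsg.Agent.Walter.QdAbelian (AbTwo)
open Cfsg.Agent.PLocal.StableOfNotInvolves (Inv isPStableOn_of_not_involves)

universe u

/-- `N = O_{p'}(N) N(Z(J(P)))` for a solvable group `N` with abelian Sylow 2-subgroups, `p` odd. -/
theorem fac {N : Type u} [Group N] [Finite N] [Group.IsSolvable N] (hab : AbTwo N) {p : ℕ}
    [Fact p.Prime] (hp : p ≠ 2) (P : Sylow p N) :
    pPrimeCore p N ⊔ normalizer (centerThompsonOf p (P : Subgroup N) : Set N) = ⊤ := by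
  have hc : IsPConstrained p N := S1396.isPConstrained_of_solvable p
  have hcop : (Nat.card (pPrimeCore p N)).Coprime p := Lib.Cores.pPrimeCore_coprime p
  have hKn : (pPrimeCore p N).Normal := Lib.Cores.pPrimeCore_normal p
  have hQ : ¬ Inv (N ⧸ pPrimeCore p N) (Matrix.SpecialLinearGroup (Fin 2) (ZMod p)) :=
    QdAbelian.not_inv_sl_two (QdAbelian.abTwo_iff.1 (hab.quotient (pPrimeCore p N))) hp
  have h1 := PLocal.ZJElem.centerThompsonOf_normal hp
    (P.mapSurjective (QuotientGroup.mk'_surjective (pPrimeCore p N)))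
    (fun V _ hV a _ ha => isPStableOn_of_not_involves hp hQ V hV a ha)
    (PLocal.ZJReduction.centralizer_pCore_quotient_le hc)
  rw [Sylow.coe_mapSurjective] at h1
  have h2 := PLocal.ZJElem.sup_normal_of_quotient (pPrimeCore p N) hcop P.isPGroup' h1
  rw [sup_comm] at h2
  exact PLocal.ZJReduction.sup_normalizer_eq_top hKn hcop
    (P.isPGroup'.to_le (PLocal.ZJElem.centerThompsonOf_le p _)) h2

theorem conj_map_eq {G : Type u} [Group G] [Finite G] {g : G} {X : Subgroup G}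
    (h : ∀ x ∈ X, g * x * g⁻¹ ∈ X) : g ∈ normalizer (X : Set G) := by
  rw [mem_normalizer_iff_map_conj_eq]
  refine Subgroup.eq_of_le_of_card_ge ?_ ?_
  · rintro _ ⟨x, hx, rfl⟩
    exact h x hx
  · exact (Subgroup.card_map_of_injective (MulAut.conj g).injective).ge

/-- The product of elements of a characteristic subgroup. -/
theorem char_conj {G : Type u} [Group G] {B : Subgroup G} {K : Subgroup B} (hK : K.Characteristic)
    {g : G} (hg : g ∈ normalizer (B : Set G)) {a : G} (ha : a ∈ K.map B.subtype) :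
    g * a * g⁻¹ ∈ K.map B.subtype := by
  obtain ⟨b, hb, rfl⟩ := ha
  have := characteristic_iff_le_comap.1 hK (B.normalizerMonoidHom ⟨g, hg⟩) hb
  exact ⟨_, this, rfl⟩

/-- An element of odd order lies in every subgroup which contains its square. -/
theorem mem_of_sq {G : Type u} [Group G] {X : Subgroup G} {a : G} (ha : Odd (orderOf a))
    (h : a * a ∈ X) : a ∈ X := by
  obtain ⟨k, hk⟩ := ha
  have h1 : (a * a) ^ (k + 1) = a := by
    rw [← sq, ← pow_mul, show 2 * (k + 1) = orderOf a + 1 by omega, pow_succ, pow_orderOf_eq_one,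
      one_mul]
  rw [← h1]
  exact pow_mem h _

namespace Hyp

variable {G : Type u} [Group G] {t : G} {E L U D : Subgroup G} {w h : G} {r : ℕ}
  (H : Hyp t E L U D w h r)
include H

theorem DnU [Finite G] : D ≤ normalizer (U : Set G) := fun _ hd =>
  conj_map_eq fun _ hu => H.Dnorm hd hu

theorem tU {u : G} (hu : u ∈ U) : u * t = t * u := H.cE u (H.UE hu)

/-- The maximal local subgroup. -/
theorem exists_local [Finite G]
    (hFT : ∀ X : Subgroup G, Odd (Nat.card X) → Group.IsSolvable X) :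
    ∃ (P : Sylow 3 G) (B : Subgroup G),
      (∀ x ∈ (P : Subgroup G), t * x * t⁻¹ ∈ (P : Subgroup G)) ∧ U ≤ (P : Subgroup G) ∧
      t ∈ normalizer (centerThompsonOf 3 (P : Subgroup G) : Set G) ∧
      normalizer (centerThompsonOf 3 (P : Subgroup G) : Set G) ⊓ E = D ∧
      B ≤ normalizer (centerThompsonOf 3 (P : Subgroup G) : Set G) ∧
      Odd (Nat.card B) ∧
      (∀ g ∈ normalizer (centerThompsonOf 3 (P : Subgroup G) : Set G), ∀ b ∈ B, g * b * g⁻¹ ∈ B) ∧
      (∀ g ∈ normalizer (centerThompsonOf 3 (P : Subgroup G) : Set G), g ∈ B ∨ t * g ∈ B) ∧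
      (∀ g ∈ B, g * t = t * g → g ∈ D) ∧ D ≤ B ∧ (P : Subgroup G) ≤ B := by
  classical
  have h3 : Fact (Nat.Prime 3) := ⟨Nat.prime_three⟩
  have h2 : Fact (Nat.Prime 2) := ⟨Nat.prime_two⟩
  -- the family
  let 𝒬 : Set (Subgroup G) := {Q | IsPGroup 3 Q ∧ (∀ x ∈ Q, t * x * t⁻¹ ∈ Q) ∧ U ≤ Q ∧
    D ≤ normalizer (centerThompsonOf 3 Q : Set G)}
  have hU : U ∈ 𝒬 := by
    refine ⟨H.U3, ?_, le_rfl,
      H.DnU.trans (PLocal.ZJElem.normalizer_le_normalizer_centerThompsonOf 3 U)⟩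
    intro x hx
    rw [← H.tU hx, mul_inv_cancel_right]
    exact hx
  obtain ⟨Q, hQ, hQmax⟩ := Set.Finite.exists_maximalFor (fun Q : Subgroup G => Nat.card Q) 𝒬 (Set.toFinite 𝒬) ⟨U, hU⟩
  obtain ⟨hQ3, hQt, hUQ, hDQ⟩ := hQ
  have hQ1 : Q ≠ ⊥ := by
    rintro rfl
    exact H.U1 (le_bot_iff.1 hUQ)
  set Z := centerThompsonOf 3 Q with hZ
  have hZ1 : Z ≠ ⊥ := S0118.centerThompsonOf_ne_bot hQ3 hQ1
  have hZQ : Z ≤ Q := PLocal.ZJElem.centerThompsonOf_le 3 Q
  have htQ : t ∈ normalizer (Q : Set G) := conj_map_eq hQt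
  have hNQ : normalizer (Q : Set G) ≤ normalizer (Z : Set G) :=
    PLocal.ZJElem.normalizer_le_normalizer_centerThompsonOf 3 Q
  have htZ : t ∈ normalizer (Z : Set G) := hNQ htQ
  have hQN : Q ≤ normalizer (Z : Set G) := le_normalizer.trans hNQ
  have hLN : ¬ L ≤ normalizer (Z : Set G) :=
    H.not_le (hQ3.to_le hZQ) hZ1 (fun z hz => (mem_normalizer_iff.1 htZ z).1 hz)
  have hNE : normalizer (Z : Set G) ⊓ E = D := by
    apply le_antisymm
    · rintro g ⟨hg1, hg2⟩
      by_contra hgD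
      refine hLN (H.gen g hg2 hgD _ (hUQ.trans hQN) ?_)
      intro u hu
      exact mul_mem (mul_mem hg1 (hQN (hUQ hu))) (inv_mem hg1)
    · exact le_inf hDQ H.DE
  obtain ⟨B, hBN, hBodd, hBn, hBt2, hBmem, hBE, hEB⟩ := H.kernel (normalizer (Z : Set G)) htZ
    (by rw [hNE]; exact H.Dodd)
  have hDB : D ≤ B := by rw [← hNE]; exact hEB
  have hBD : ∀ g ∈ B, g * t = t * g → g ∈ D := by
    intro g hg hgt
    rw [← hNE]
    exact ⟨hBN hg, hBE g hg hgt⟩
  -- 3-subgroups of `N(Z)` lie in `B`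
  have h3B : ∀ X : Subgroup G, IsPGroup 3 X → X ≤ normalizer (Z : Set G) → X ≤ B := by
    intro X hX hXN x hx
    rw [hBmem x (hXN hx)]
    obtain ⟨k, hk⟩ := (el_of_mem hX hx).exists_pow
    exact Odd.of_dvd_nat (Odd.pow (by decide) : Odd (3 ^ k)) (orderOf_dvd_of_pow_eq_one hk)
  have hQB : Q ≤ B := h3B Q hQ3 hQN
  -- the `t`-invariant Sylow 3-subgroup of `B`
  have htB : t ∈ normalizer (B : Set G) := conj_map_eq (hBn t htZ)
  have hcop : (Nat.card (zpowers t)).Coprime (Nat.card B) := by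
    rw [Nat.card_zpowers, orderOf_eq_prime (p := 2) (by rw [sq]; exact H.ht) H.ht1]
    exact Nat.coprime_two_left.2 hBodd
  have hsolB : Group.IsSolvable B := hFT B hBodd
  obtain ⟨P0, hP0, hP0t⟩ := S0025.result (zpowers t) B (by rwa [zpowers_le]) hcop (Or.inr hsolB) 3 Q
    hQB hQ3 (by rwa [zpowers_le])
  rw [zpowers_le] at hP0t
  set Q' : Subgroup G := (P0 : Subgroup B).map B.subtype with hQ'
  have hQ'3 : IsPGroup 3 Q' := P0.isPGroup'.map _
  have hQ't : ∀ x ∈ Q', t * x * t⁻¹ ∈ Q' := fun x hx => (mem_normalizer_iff.1 hP0t x).1 hx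
  -- the 3'-core
  set A0 : Subgroup G := (pPrimeCore 3 B).map B.subtype with hA0
  have hA0B : A0 ≤ B := map_subtype_le _
  have hA0n : ∀ g ∈ normalizer (B : Set G), ∀ a ∈ A0, g * a * g⁻¹ ∈ A0 := fun g hg a ha =>
    char_conj (Lib.Cores.pPrimeCore_characteristic 3) hg ha
  have hA0c : (Nat.card A0).Coprime 3 := by
    rw [hA0, Subgroup.card_map_of_injective B.subtype_injective]
    exact Lib.Cores.pPrimeCore_coprime 3
  have hA0U : ∀ a ∈ A0, a ∈ U → a = 1 := by
    intro a ha haU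
    have h4 := PLocal.ZJReduction.inf_eq_bot hA0c H.U3
    have h5 : a ∈ A0 ⊓ U := ⟨ha, haU⟩
    rwa [h4, mem_bot] at h5
  have hfix : ∀ a ∈ A0, a * t = t * a → a = 1 := by
    intro a ha hat
    have haD : a ∈ D := hBD a (hA0B ha) hat
    refine hA0U a ha (H.CU a haD fun u hu => ?_)
    have h6 : a * (u * a⁻¹ * u⁻¹) ∈ A0 :=
      mul_mem ha (hA0n u (le_normalizer (hQB (hUQ hu))) _ (inv_mem ha))
    have h7 : a * (u * a⁻¹ * u⁻¹) = a * u * a⁻¹ * u⁻¹ := by group
    rw [h7] at h6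
    have h8 := hA0U _ h6 (mul_mem (H.Dnorm haD hu) (inv_mem hu))
    have h9 : a * u = (a * u * a⁻¹ * u⁻¹) * (u * a) := by group
    rw [h9, h8, one_mul]
  have hA0inv := inv_of_fix H.ht (fun a ha => hA0n t htB a ha) hfix
  -- `D` normalises `ZJ(Q')`
  have htZ' : t ∈ normalizer (centerThompsonOf 3 Q' : Set G) :=
    PLocal.ZJElem.normalizer_le_normalizer_centerThompsonOf 3 Q' hP0t
  have hDQ' : D ≤ normalizer (centerThompsonOf 3 Q' : Set G) := by
    intro d hd
    have hfac := fac (N := B) (H.hab.subgroup B) (by norm_num : (3 : ℕ) ≠ 2) P0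
    have hKn : (pPrimeCore 3 B).Normal := Lib.Cores.pPrimeCore_normal 3
    have hd1 : (⟨d, hDB hd⟩ : B) ∈ pPrimeCore 3 B ⊔
        normalizer (centerThompsonOf 3 (P0 : Subgroup B) : Set B) := by
      rw [hfac]; exact mem_top _
    obtain ⟨a, ha, b, hb, hab⟩ := mem_sup_of_normal_left.1 hd1
    have hab' : (a : G) * b = d := congrArg Subtype.val hab
    have haA : (a : G) ∈ A0 := ⟨a, ha, rfl⟩
    have hb' : (b : G) ∈ normalizer (centerThompsonOf 3 Q' : Set G) := by
      refine conj_map_eq ?_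
      intro x hx
      rw [hQ', PLocal.ZJElem.centerThompsonOf_map 3 B.subtype_injective] at hx ⊢
      obtain ⟨y, hy, rfl⟩ := hx
      exact ⟨b * y * b⁻¹, (mem_normalizer_iff.1 hb y).1 hy, rfl⟩
    have hdt : t * d * t⁻¹ = d := by
      rw [← H.cE d (H.DE hd), mul_inv_cancel_right]
    have h4 : (a : G) * a = (t * b * t⁻¹) * (b : G)⁻¹ := by
      have h5 : (a : G)⁻¹ * (t * b * t⁻¹) = a * b := by
        rw [← hA0inv a haA]
        calc t * a * t⁻¹ * (t * b * t⁻¹) = t * (a * b) * t⁻¹ := by group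
          _ = a * b := by rw [hab', hdt]
      calc (a : G) * a = a * (a * b) * (b : G)⁻¹ := by group
        _ = _ := by rw [← h5]; group
    have ha2 : (a : G) ∈ normalizer (centerThompsonOf 3 Q' : Set G) := by
      refine mem_of_sq ?_ ?_
      · have h5 : orderOf (a : G) ∣ Nat.card B := by
          rw [Subgroup.orderOf_coe]
          exact _root_.orderOf_dvd_natCard _
        exact Odd.of_dvd_nat hBodd h5
      · rw [h4]
        exact mul_mem (mul_mem (mul_mem htZ' hb') (inv_mem htZ')) (inv_mem hb')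
    rw [← hab']
    exact mul_mem ha2 hb'
  have hQQ' : Q = Q' := by
    have h4 : Q' ∈ 𝒬 := ⟨hQ'3, hQ't, hUQ.trans hP0, hDQ'⟩
    have h5 : Nat.card Q ≤ Nat.card Q' := Subgroup.card_le_of_le hP0
    exact Subgroup.eq_of_le_of_card_ge hP0 (hQmax h4 h5)
  -- `Q` is a Sylow 3-subgroup of `G`
  obtain ⟨P, hP⟩ := hQ3.exists_le_sylow
  have hQP : Q = P := by
    by_contra hne
    have hlt : Q < P := lt_of_le_of_ne hP hne
    have h4 := PLocal.ConjFunctor.lt_inf_normalizer P.isPGroup' hlt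
    set R : Subgroup G := (P : Subgroup G) ⊓ normalizer (Q : Set G) with hR
    have hR3 : IsPGroup 3 R := P.isPGroup'.to_le inf_le_left
    have hRB : R ≤ B := h3B R hR3 (inf_le_right.trans hNQ)
    have h5 : (P0 : Subgroup B) ≤ R.subgroupOf B := by
      intro x hx
      rw [mem_subgroupOf]
      refine h4.le ?_
      rw [hQQ']
      exact ⟨x, hx, rfl⟩
    have h6 : R.subgroupOf B = P0 := P0.is_maximal' hR3.comap_subtype h5
    have h7 : R = Q := by
      rw [hQQ', hQ', ← h6, subgroupOf_map_subtype, inf_eq_left.2 hRB]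
    exact h4.ne h7.symm
  have hPZ : centerThompsonOf 3 (P : Subgroup G) = Z := by rw [hZ, hQP]
  refine ⟨P, B, ?_, ?_, ?_, ?_, ?_, hBodd, ?_, ?_, hBD, hDB, ?_⟩
  · rw [← hQP]; exact hQt
  · rw [← hQP]; exact hUQ
  · rw [hPZ]; exact htZ
  · rw [hPZ]; exact hNE
  · rw [hPZ]; exact hBN
  · rw [hPZ]; exact hBn
  · rw [hPZ]; exact hBt2
  · rw [← hQP]; exact hQB

end Hyp

end Cfsg.Agent.Walter.NoFieldThree
end

-- part: Walter/NoFieldThreeFoc
section
/-!
# No field automorphisms of order three (Walter, step (5)): the focal subgroup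
-/

set_option autoImplicit false

namespace Cfsg.Agent.Walter.NoFieldThree

open Subgroup Cfsg
open Cfsg.Agent.Walter.QdAbelian (AbTwo)

universe u

/-- `M = N(Z(J(P)))` controls fusion, so it has no normal subgroup of index `p` if `G = G'`. -/
theorem focal {G : Type u} [Group G] [Finite G] (hab : AbTwo G) (hG : commutator G = ⊤) {p : ℕ}
    [Fact p.Prime] (hp : p ≠ 2) (P : Sylow p G) {X : Subgroup G}
    (hc : ∀ g ∈ normalizer (centerThompsonOf p (P : Subgroup G) : Set G),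
      ∀ g' ∈ normalizer (centerThompsonOf p (P : Subgroup G) : Set G), g * g' * g⁻¹ * g'⁻¹ ∈ X)
    (h3 : ∀ g ∈ normalizer (centerThompsonOf p (P : Subgroup G) : Set G), g ^ p ∈ X) :
    normalizer (centerThompsonOf p (P : Subgroup G) : Set G) ≤ X := by
  set M := normalizer (centerThompsonOf p (P : Subgroup G) : Set G) with hM
  have hPM : (P : Subgroup G) ≤ M :=
    le_normalizer.trans (PLocal.ZJElem.normalizer_le_normalizer_centerThompsonOf p _)
  have hidx : Nat.Coprime p M.index := by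
    have h1 : M.index ∣ (P : Subgroup G).index := index_dvd_of_le hPM
    have h2 : Nat.Coprime p (P : Subgroup G).index :=
      ((Fact.out : p.Prime).coprime_iff_not_dvd).2 P.not_dvd_index
    exact Nat.Coprime.coprime_dvd_right h1 h2
  -- conjugating `p`-elements of `M` into `P`
  have hconj : ∀ g ∈ M, (∃ k : ℕ, orderOf g = p ^ k) → ∃ m ∈ M, m * g * m⁻¹ ∈ (P : Subgroup G) := by
    rintro g hg ⟨k, hk⟩
    have h1 : IsPGroup p (zpowers (⟨g, hg⟩ : M)) := by
      rw [IsPGroup.iff_card]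
      exact ⟨k, by rw [Nat.card_zpowers, orderOf_mk, hk]⟩
    obtain ⟨Q, hQ⟩ := h1.exists_le_sylow
    obtain ⟨m, hm⟩ := MulAction.exists_smul_eq M Q (P.subtype hPM)
    refine ⟨m, m.2, ?_⟩
    have h2 : (m * ⟨g, hg⟩ * m⁻¹ : M) ∈ (P.subtype hPM : Subgroup M) := by
      rw [← hm, Sylow.coe_subgroup_smul]
      exact ⟨⟨g, hg⟩, hQ (mem_zpowers _), rfl⟩
    rwa [Sylow.coe_subtype, mem_subgroupOf] at h2
  have hfus : ∀ g ∈ M, (∃ k : ℕ, orderOf g = p ^ k) → ∀ a : G, a * g * a⁻¹ ∈ M →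
      ∃ h ∈ M, h * g * h⁻¹ = a * g * a⁻¹ := by
    intro g hg hgp a haM
    obtain ⟨m1, hm1, h1⟩ := hconj g hg hgp
    obtain ⟨m2, hm2, h2⟩ := hconj _ haM (by
      obtain ⟨k, hk⟩ := hgp
      refine ⟨k, ?_⟩
      rw [← hk]
      exact orderOf_injective (MulAut.conj a).toMonoidHom (MulAut.conj a).injective g)
    obtain ⟨n, hn, hn2⟩ := S0118.result hp (QdAbelian.not_exists_sl hab hp) P
      {m1 * g * m1⁻¹} (Set.singleton_subset_iff.2 h1) (m1 * a⁻¹ * m2⁻¹) (by
        rintro _ ⟨_, rfl, rfl⟩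
        show (m1 * a⁻¹ * m2⁻¹)⁻¹ * (m1 * g * m1⁻¹) * (m1 * a⁻¹ * m2⁻¹) ∈ (P : Subgroup G)
        have : (m1 * a⁻¹ * m2⁻¹)⁻¹ * (m1 * g * m1⁻¹) * (m1 * a⁻¹ * m2⁻¹) =
          m2 * (a * g * a⁻¹) * m2⁻¹ := by group
        rwa [this])
    have h3 := hn2 _ rfl
    have h4 : (m1 * a⁻¹ * m2⁻¹)⁻¹ * (m1 * g * m1⁻¹) * (m1 * a⁻¹ * m2⁻¹) =
          m2 * (a * g * a⁻¹) * m2⁻¹ := by group
    rw [h4] at h3
    refine ⟨m2⁻¹ * n⁻¹ * m1, mul_mem (mul_mem (inv_mem hm2) (inv_mem hn)) hm1, ?_⟩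
    calc m2⁻¹ * n⁻¹ * m1 * g * (m2⁻¹ * n⁻¹ * m1)⁻¹ = m2⁻¹ * (n⁻¹ * (m1 * g * m1⁻¹) * n) * m2 := by
          group
      _ = a * g * a⁻¹ := by rw [h3]; group
  have hmain := S1242.result M hidx hfus
  rw [hG, sup_top_eq, top_inf_eq] at hmain
  rw [hmain, map_le_iff_le_comap]
  refine sup_le ?_ ?_
  · show Subgroup.closure _ ≤ _
    rw [Subgroup.closure_le]
    intro g hg
    show (g : G) ∈ X
    have h5 := h3 g g.2
    have h6 : Nat.Coprime (orderOf (g : G)) p := by rw [orderOf_coe]; exact hg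
    obtain ⟨m, hm⟩ := exists_pow_eq_self_of_coprime h6.symm
    rw [← hm]
    exact pow_mem h5 _
  · rw [_root_.commutator_def, commutator_le]
    intro a _ b _
    show ((a * b * a⁻¹ * b⁻¹ : M) : G) ∈ X
    exact hc a a.2 b b.2

/-- An element of the coset of `b` fixed by `t`. -/
theorem exists_fix {G : Type u} [Group G] {t : G} (ht : t * t = 1) {B : Subgroup G}
    (hB : Odd (Nat.card B)) (hBt : ∀ b ∈ B, t * b * t⁻¹ ∈ B) {b : G} (hb : b ∈ B) :
    ∃ k : ℕ, b * (b⁻¹ * (t * b * t⁻¹)) ^ k ∈ B ∧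
      (b * (b⁻¹ * (t * b * t⁻¹)) ^ k) * t = t * (b * (b⁻¹ * (t * b * t⁻¹)) ^ k) := by
  have hti : t⁻¹ = t := inv_eq_of_mul_eq_one_left ht
  set y := b⁻¹ * (t * b * t⁻¹) with hy
  have hyB : y ∈ B := mul_mem (inv_mem hb) (hBt b hb)
  have hyodd : Odd (orderOf y) := by
    have h5 : orderOf y ∣ Nat.card B := by
      rw [← orderOf_mk y hyB]
      exact _root_.orderOf_dvd_natCard _
    exact Odd.of_dvd_nat hB h5
  obtain ⟨m, hm⟩ := hyodd
  refine ⟨m + 1, mul_mem hb (pow_mem hyB _), ?_⟩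
  have h1 : t * y * t⁻¹ = y⁻¹ := by
    rw [hy, hti, mul_inv_rev, inv_inv, mul_inv_rev, mul_inv_rev, hti]
    calc t * (b⁻¹ * (t * b * t)) * t = t * b⁻¹ * t * b * (t * t) := by group
      _ = t * (b⁻¹ * t) * b := by rw [ht]; group
  have h2 : t * y ^ (m + 1) * t⁻¹ = (y ^ (m + 1))⁻¹ := by
    rw [← conj_pow, h1, inv_pow]
  have h3 : t * b * t⁻¹ = b * y := by rw [hy]; group
  have h4 : y * (y ^ (m + 1))⁻¹ = y ^ (m + 1) := by
    rw [mul_inv_eq_iff_eq_mul, ← pow_add, show m + 1 + (m + 1) = (2 * m + 1) + 1 by ring, pow_succ,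
      ← hm, pow_orderOf_eq_one, one_mul]
  have h5 : t * (b * y ^ (m + 1)) * t⁻¹ = b * y ^ (m + 1) := by
    calc t * (b * y ^ (m + 1)) * t⁻¹ = (t * b * t⁻¹) * (t * y ^ (m + 1) * t⁻¹) := by group
      _ = b * (y * (y ^ (m + 1))⁻¹) := by rw [h3, h2]; group
      _ = _ := by rw [h4]
  exact (mul_inv_eq_iff_eq_mul.1 h5).symm

/-- The subgroup `D₁⟨t⟩`. -/
def withT {G : Type u} [Group G] {t : G} (ht : t * t = 1) {D1 : Subgroup G}
    (hDt : ∀ d ∈ D1, d * t = t * d) : Subgroup G where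
  carrier := {x | ∃ d ∈ D1, x = d ∨ x = d * t}
  one_mem' := ⟨1, one_mem _, Or.inl rfl⟩
  mul_mem' := by
    rintro x y ⟨a, ha, ha'⟩ ⟨b, hb, hb'⟩
    refine ⟨a * b, mul_mem ha hb, ?_⟩
    rcases ha' with h1 | h1 <;> rcases hb' with h2 | h2 <;> rw [h1, h2]
    · exact Or.inl rfl
    · exact Or.inr (mul_assoc _ _ _).symm
    · right
      rw [mul_assoc, ← hDt b hb, mul_assoc]
    · left
      calc a * t * (b * t) = a * (t * b) * t := by group
        _ = a * b * (t * t) := by rw [← hDt b hb]; group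
        _ = a * b := by rw [ht, mul_one]
  inv_mem' := by
    rintro _ ⟨a, ha, ha'⟩
    refine ⟨a⁻¹, inv_mem ha, ?_⟩
    rcases ha' with rfl | rfl
    · exact Or.inl rfl
    · right
      rw [mul_inv_rev, inv_eq_of_mul_eq_one_left ht, hDt _ (inv_mem ha)]

/-- The commutator subgroup `[B, t]` contains an element of `D` outside `D₁`. -/
theorem exists_comm {G : Type u} [Group G] [Finite G] {t : G} (ht : t * t = 1) (ht1 : t ≠ 1)
    {M B D D1 : Subgroup G} (htM : t ∈ M) (hBM : B ≤ M) (hBodd : Odd (Nat.card B))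
    (hBn : ∀ g ∈ M, ∀ b ∈ B, g * b * g⁻¹ ∈ B) (hB2 : ∀ g ∈ M, g ∈ B ∨ t * g ∈ B)
    (hBD : ∀ g ∈ B, g * t = t * g → g ∈ D) (hDB : D ≤ B) (hDt : ∀ d ∈ D, d * t = t * d)
    (hfoc : ∀ X : Subgroup G, (∀ g ∈ M, ∀ g' ∈ M, g * g' * g⁻¹ * g'⁻¹ ∈ X) →
      (∀ g ∈ M, g ^ 3 ∈ X) → M ≤ X)
    (hD1 : D1 ≤ D) (hD3 : ∀ d ∈ D, d ^ 3 ∈ D1)
    (hDc : ∀ d ∈ D, ∀ d' ∈ D, d * d' * d⁻¹ * d'⁻¹ ∈ D1) (hne : ¬ D ≤ D1) :
    ∃ x ∈ D, x ∈ Subgroup.closure {y | ∃ b ∈ B, y = b * t * b⁻¹ * t⁻¹} ∧ x ∉ D1 := by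
  classical
  set Y : Subgroup G := Subgroup.closure {y | ∃ b ∈ B, y = b * t * b⁻¹ * t⁻¹} with hY
  have hti : t⁻¹ = t := inv_eq_of_mul_eq_one_left ht
  have htB : t ∉ B := by
    intro h
    have h1 : orderOf t ∣ Nat.card B := by
      rw [← orderOf_mk t h]
      exact _root_.orderOf_dvd_natCard _
    rw [orderOf_eq_prime (p := 2) (by rw [sq]; exact ht) ht1] at h1
    obtain ⟨k, hk⟩ := hBodd
    omega
  have hgen : ∀ b ∈ B, b * t * b⁻¹ * t⁻¹ ∈ Y := fun b hb => subset_closure ⟨b, hb, rfl⟩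
  have hYB : Y ≤ B := by
    rw [hY, Subgroup.closure_le]
    rintro _ ⟨b, hb, rfl⟩
    have : b * t * b⁻¹ * t⁻¹ = b * (t * b⁻¹ * t⁻¹) := by group
    rw [SetLike.mem_coe, this]
    exact mul_mem hb (hBn t htM _ (inv_mem hb))
  -- `M` normalises `Y`
  have hYn1 : ∀ g ∈ B, ∀ y ∈ Y, g * y * g⁻¹ ∈ Y := by
    intro g hg y hy
    induction hy using Subgroup.closure_induction with
    | mem x hx =>
      obtain ⟨b, hb, rfl⟩ := hx
      have : g * (b * t * b⁻¹ * t⁻¹) * g⁻¹ =
          (g * b * t * (g * b)⁻¹ * t⁻¹) * (g * t * g⁻¹ * t⁻¹)⁻¹ := by group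
      rw [this]
      exact mul_mem (hgen _ (mul_mem hg hb)) (inv_mem (hgen g hg))
    | one => simp
    | mul x y _ _ hx hy =>
      have : g * (x * y) * g⁻¹ = (g * x * g⁻¹) * (g * y * g⁻¹) := by group
      rw [this]; exact mul_mem hx hy
    | inv x _ hx =>
      have : g * x⁻¹ * g⁻¹ = (g * x * g⁻¹)⁻¹ := by group
      rw [this]; exact inv_mem hx
  have hYn2 : ∀ y ∈ Y, t * y * t⁻¹ ∈ Y := by
    intro y hy
    induction hy using Subgroup.closure_induction with
    | mem x hx =>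
      obtain ⟨b, hb, rfl⟩ := hx
      have : t * (b * t * b⁻¹ * t⁻¹) * t⁻¹ =
          (t * b * t⁻¹) * t * (t * b * t⁻¹)⁻¹ * t⁻¹ := by group
      rw [this]
      exact hgen _ (hBn t htM b hb)
    | one => simp
    | mul x y _ _ hx hy =>
      have : t * (x * y) * t⁻¹ = (t * x * t⁻¹) * (t * y * t⁻¹) := by group
      rw [this]; exact mul_mem hx hy
    | inv x _ hx =>
      have : t * x⁻¹ * t⁻¹ = (t * x * t⁻¹)⁻¹ := by group
      rw [this]; exact inv_mem hx
  have hYn : ∀ g ∈ M, ∀ y ∈ Y, g * y * g⁻¹ ∈ Y := by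
    intro g hg y hy
    rcases hB2 g hg with h1 | h1
    · exact hYn1 g h1 y hy
    · have h2 := hYn2 _ (hYn1 _ h1 y hy)
      have h3 : t * (t * g * y * (t * g)⁻¹) * t⁻¹ = (t * t) * (g * y * g⁻¹) * (t * t)⁻¹ := by group
      rwa [h3, ht, one_mul, inv_one, mul_one] at h2
  have hYnorm : (Y.subgroupOf M).Normal :=
    ⟨fun y hy g => hYn g g.2 y hy⟩
  set q := QuotientGroup.mk' (Y.subgroupOf M) with hq
  have hq1 : ∀ a b : M, q a = q b ↔ (a : G)⁻¹ * b ∈ Y := by
    intro a b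
    exact QuotientGroup.eq
  set t' : M := ⟨t, htM⟩ with ht'
  -- decomposition
  have hdec : ∀ g : M, ∃ d : M, (d : G) ∈ D ∧ ∃ s : M, (s = 1 ∨ s = t') ∧ q g = q d * q s := by
    have key : ∀ b : M, (b : G) ∈ B → ∃ d : M, (d : G) ∈ D ∧ q b = q d := by
      intro b hb
      obtain ⟨k, hk1, hk2⟩ := exists_fix ht hBodd (fun b hb => hBn t htM b hb) hb
      refine ⟨⟨_, hBM hk1⟩, hBD _ hk1 hk2, ?_⟩
      rw [hq1]
      show (b : G)⁻¹ * (b * ((b : G)⁻¹ * (t * b * t⁻¹)) ^ k) ∈ Y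
      rw [inv_mul_cancel_left]
      refine pow_mem ?_ k
      have := hgen _ (inv_mem hb)
      have e : (b : G)⁻¹ * (t * b * t⁻¹) = (b : G)⁻¹ * t * (b : G)⁻¹⁻¹ * t⁻¹ := by group
      rwa [e]
    intro g
    rcases hB2 g g.2 with h1 | h1
    · obtain ⟨d, hd, hd2⟩ := key g h1
      exact ⟨d, hd, 1, Or.inl rfl, by rw [hd2, map_one, mul_one]⟩
    · -- `g = (g t) t`
      have h2 : (g : G) * t ∈ B := by
        have := hBn t htM _ h1
        have e : t * (t * (g : G)) * t⁻¹ = (t * t) * (g * t⁻¹) := by group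
        rwa [e, ht, one_mul, hti] at this
      obtain ⟨d, hd, hd2⟩ := key (g * t') h2
      refine ⟨d, hd, t', Or.inr rfl, ?_⟩
      rw [← hd2, ← map_mul, mul_assoc]
      have : t' * t' = 1 := Subtype.ext ht
      rw [this, mul_one]
  have htc : ∀ z, q t' * z = z * q t' := by
    intro z
    obtain ⟨g, rfl⟩ := QuotientGroup.mk'_surjective _ z
    obtain ⟨d, hd, s, hs, hds⟩ := hdec g
    have h1 : q t' * q d = q d * q t' := by
      rw [← map_mul, ← map_mul]
      exact congrArg q (Subtype.ext (hDt _ hd).symm)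
    have h2 : q t' * q s = q s * q t' := by
      rcases hs with rfl | rfl
      · rw [map_one, mul_one, one_mul]
      · rfl
    rw [← hq, hds, ← mul_assoc, h1, mul_assoc, h2, mul_assoc]
  have hsc : ∀ s : M, (s = 1 ∨ s = t') → ∀ z, q s * z = z * q s := by
    rintro s (rfl | rfl) z
    · rw [map_one, mul_one, one_mul]
    · exact htc z
  by_contra hcon
  push Not at hcon
  have hDt1 : ∀ d ∈ D1, d * t = t * d := fun d hd => hDt d (hD1 hd)
  set W : Subgroup G := withT ht hDt1 with hW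
  have hWD : ∀ d ∈ D1, d ∈ W := fun d hd => ⟨d, hd, Or.inl rfl⟩
  have hWt : t ∈ W := ⟨1, one_mem _, Or.inr (one_mul t).symm⟩
  set X : Subgroup G := (((W.subgroupOf M).map q).comap q).map M.subtype with hX
  have hmem : ∀ g : M, q g ∈ (W.subgroupOf M).map q → (g : G) ∈ X := fun g hg => ⟨g, hg, rfl⟩
  have hMX : M ≤ X := by
    apply hfoc
    · intro g hg g' hg'
      obtain ⟨d, hd, s, hs, hds⟩ := hdec ⟨g, hg⟩
      obtain ⟨d', hd', s', hs', hds'⟩ := hdec ⟨g', hg'⟩
      refine hmem (@HMul.hMul _ _ _ instHMul (@HMul.hMul _ _ _ instHMul (@HMul.hMul _ _ _ instHMul ⟨g, hg⟩ ⟨g', hg'⟩) ⟨g, hg⟩⁻¹) ⟨g', hg'⟩⁻¹) ?_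
      rw [map_mul, map_mul, map_mul, map_inv, map_inv, hds, hds']
      have e1 := hsc s hs
      have e2 := hsc s' hs'
      have e : q d * q s * (q d' * q s') * (q d * q s)⁻¹ * (q d' * q s')⁻¹ =
          q (d * d' * d⁻¹ * d'⁻¹) := by
        calc q d * q s * (q d' * q s') * (q d * q s)⁻¹ * (q d' * q s')⁻¹ =
            q d * (q s * (q d' * q s')) * (q s)⁻¹ * (q d)⁻¹ * (q s')⁻¹ * (q d')⁻¹ := by group
          _ = q d * q d' * (q s' * (q d)⁻¹) * (q s')⁻¹ * (q d')⁻¹ := by rw [e1]; group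
          _ = q d * q d' * (q d)⁻¹ * (q d')⁻¹ := by rw [e2]; group
          _ = _ := by rw [map_mul, map_mul, map_mul, map_inv, map_inv]
      rw [e]
      exact mem_map_of_mem _ (hWD _ (hDc d hd d' hd'))
    · intro g hg
      obtain ⟨d, hd, s, hs, hds⟩ := hdec ⟨g, hg⟩
      refine hmem (@HPow.hPow _ _ _ instHPow ⟨g, hg⟩ (3 : ℕ)) ?_
      have hc : Commute (q d) (q s) := (hsc s hs _).symm
      rw [map_pow, hds, hc.mul_pow, ← map_pow, ← map_pow, ← map_mul]
      refine mem_map_of_mem _ ?_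
      show (d : G) ^ 3 * (s : G) ^ 3 ∈ W
      refine mul_mem (hWD _ (hD3 d hd)) (pow_mem ?_ 3)
      rcases hs with rfl | rfl
      · exact one_mem _
      · exact hWt
  apply hne
  intro d hd
  have hdM : d ∈ M := hBM (hDB hd)
  obtain ⟨g, hg, hgd⟩ := hMX hdM
  obtain ⟨e, he, heg⟩ := hg
  have h1 : (e : G)⁻¹ * d ∈ Y := by
    rw [← hgd]
    exact (hq1 e g).1 heg
  obtain ⟨d1, hd1, hed⟩ := he
  have hd1B : d1 ∈ B := hDB (hD1 hd1)
  rcases hed with hed | hed
  · have hed' : (e : G) = d1 := hed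
    rw [hed'] at h1
    have h2 := hcon _ (mul_mem (inv_mem (hD1 hd1)) hd) h1
    have : d = d1 * (d1⁻¹ * d) := by group
    rw [this]
    exact mul_mem hd1 h2
  · exfalso
    have hed' : (e : G) = d1 * t := hed
    rw [hed'] at h1
    apply htB
    have h2 : (d1 * t)⁻¹ * d ∈ B := hYB h1
    have h3 : t⁻¹ = ((d1 * t)⁻¹ * d) * d⁻¹ * d1 := by group
    rw [← hti, h3]
    exact mul_mem (mul_mem h2 (inv_mem (hDB hd))) hd1B

end Cfsg.Agent.Walter.NoFieldThree
end

-- part: Walter/NoFieldThreeRep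
section
/-!
An `r`-group acting faithfully on an elementary abelian `p`-group of order less than `p ^ r`, `r ≠ p`,
is abelian.
-/

set_option autoImplicit false

namespace Cfsg.Agent.Walter.NoFieldThreeRep

open Module
open Cfsg.Agent.OddOrderLocal.Thm34 (elemRep elemRep_apply bc bc_apply bc_tmul eq_of_bc)

universe u v

section Alg

variable {k : Type*} [Field k] [IsAlgClosed k] {W : Type*} [AddCommGroup W] [Module k W]
  [FiniteDimensional k W]

/-- an eigenvector of `z` for an eigenvalue different from `1` -/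
theorem exists_eigen {m : ℕ} (hm : (m : k) ≠ 0) (z : End k W) (hz : z ^ m = 1) (hz1 : z ≠ 1) :
    ∃ ζ : k, ζ ≠ 1 ∧ ζ ^ m = 1 ∧ z.eigenspace ζ ≠ ⊥ := by
  set R : Submodule k W := LinearMap.range (z - 1) with hR
  have hRne : Nontrivial R := by
    rw [Submodule.nontrivial_iff_ne_bot]
    intro h
    apply hz1
    rw [← sub_eq_zero]
    exact LinearMap.range_eq_bot.1 h
  have hzR : ∀ v ∈ R, z v ∈ R := by
    rintro _ ⟨w, rfl⟩
    refine ⟨z w, ?_⟩
    simp only [LinearMap.sub_apply, _root_.Module.End.one_apply, _root_.map_sub]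
  obtain ⟨ζ, hζ⟩ := Module.End.exists_eigenvalue (z.restrict hzR)
  obtain ⟨v, hv⟩ := hζ.exists_hasEigenvector
  have hv0 : (v : W) ≠ 0 := by
    intro h
    exact hv.2 (Subtype.ext h)
  have hzv : z v = ζ • (v : W) := by
    have h1 := hv.apply_eq_smul
    exact congrArg Subtype.val h1
  have hpow : ∀ j : ℕ, (z ^ j) (v : W) = ζ ^ j • (v : W) := by
    intro j
    induction j with
    | zero => simp
    | succ j ih => rw [pow_succ', Module.End.mul_apply, ih, map_smul, hzv, smul_smul, pow_succ]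
  have hζm : ζ ^ m = 1 := by
    have h1 := hpow m
    rw [hz, Module.End.one_apply] at h1
    have h2 : (ζ ^ m - 1) • (v : W) = 0 := by rw [sub_smul, one_smul, ← h1, sub_self]
    rcases smul_eq_zero.1 h2 with h3 | h3
    · exact sub_eq_zero.1 h3
    · exact absurd h3 hv0
  refine ⟨ζ, ?_, hζm, ?_⟩
  · rintro rfl
    obtain ⟨w, hw⟩ := v.2
    rw [LinearMap.sub_apply, Module.End.one_apply] at hw
    rw [one_smul] at hzv
    have h1 : ∀ j : ℕ, (z ^ j) w = w + (j : k) • (v : W) := by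
      intro j
      induction j with
      | zero => simp only [_root_.pow_zero, _root_.Module.End.one_apply, _root_.Nat.cast_zero, _root_.zero_smul, _root_.add_zero]
      | succ j ih =>
        rw [pow_succ', Module.End.mul_apply, ih, map_add, map_smul, hzv, Nat.cast_succ, add_smul,
          one_smul, ← hw]
        abel
    have h2 := h1 m
    rw [hz, Module.End.one_apply] at h2
    have h3 : (m : k) • (v : W) = 0 := by
      have := h2.symm
      simpa only [_root_.smul_eq_zero, _root_.ZeroMemClass.coe_eq_zero, _root_.add_eq_left] using this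
    rcases smul_eq_zero.1 h3 with h4 | h4
    · exact hm h4
    · exact hv0 h4
  · intro h
    apply hv0
    have h1 : (v : W) ∈ z.eigenspace ζ := Module.End.mem_eigenspace_iff.2 hzv
    rw [h] at h1
    exact h1

theorem le_finrank {r c : ℕ} (hr : r.Prime) (hrk : (r : k) ≠ 0) (e f z : End k W)
    (hz : z ^ (r ^ c) = 1) (hz1 : z ≠ 1) (hef : e * f = z * f * e) (hze : z * e = e * z)
    (hzf : z * f = f * z) (he : Function.Injective e) (hf : Function.Injective f) :
    r ≤ finrank k W := by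
  obtain ⟨ζ, hζ1, hζ, hE⟩ := exists_eigen (m := r ^ c) (by push_cast; exact pow_ne_zero _ hrk) z hz
    hz1
  have hEn : Nontrivial (z.eigenspace ζ) := (Submodule.nontrivial_iff_ne_bot).2 hE
  have heE : ∀ v ∈ z.eigenspace ζ, e v ∈ z.eigenspace ζ := by
    intro v hv
    rw [Module.End.mem_eigenspace_iff] at hv ⊢
    rw [← Module.End.mul_apply, hze, Module.End.mul_apply, hv, map_smul]
  obtain ⟨μ, hμ⟩ := Module.End.exists_eigenvalue (e.restrict heE)
  obtain ⟨v, hv⟩ := hμ.exists_hasEigenvector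
  have hv0 : (v : W) ≠ 0 := by
    intro h
    exact hv.2 (Subtype.ext h)
  have hev : e v = μ • (v : W) := congrArg Subtype.val hv.apply_eq_smul
  have hzv : z v = ζ • (v : W) := Module.End.mem_eigenspace_iff.1 v.2
  have hμ0 : μ ≠ 0 := by
    rintro rfl
    rw [zero_smul] at hev
    exact hv0 (he (by rw [hev, map_zero]))
  -- the vectors `f ^ i v`
  have hz_i : ∀ i : ℕ, z ((f ^ i) v) = ζ • (f ^ i) (v : W) := by
    intro i
    induction i with
    | zero => simpa only [_root_.pow_zero, _root_.Module.End.one_apply] using hzv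
    | succ i ih =>
      rw [pow_succ', Module.End.mul_apply, ← Module.End.mul_apply, hzf, Module.End.mul_apply, ih,
        map_smul]
  have he_i : ∀ i : ℕ, e ((f ^ i) v) = (μ * ζ ^ i) • (f ^ i) (v : W) := by
    intro i
    induction i with
    | zero => simpa only [_root_.pow_zero, _root_.Module.End.one_apply, _root_.mul_one] using hev
    | succ i ih =>
      rw [pow_succ', Module.End.mul_apply, ← Module.End.mul_apply, hef, Module.End.mul_apply,
        Module.End.mul_apply, ih, map_smul, map_smul, ← Module.End.mul_apply f, ← pow_succ', hz_i,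
        smul_smul]
      congr 1
      ring
  have hf_i : ∀ i : ℕ, (f ^ i) (v : W) ≠ 0 := by
    intro i
    induction i with
    | zero => simpa using hv0
    | succ i ih =>
      rw [pow_succ', Module.End.mul_apply]
      intro h
      exact ih (hf (by rw [h, map_zero]))
  have hord : r ∣ orderOf ζ := by
    have h1 : orderOf ζ ∣ r ^ c := orderOf_dvd_of_pow_eq_one hζ
    obtain ⟨j, _, hj⟩ := (Nat.dvd_prime_pow hr).1 h1
    rcases Nat.eq_zero_or_pos j with h0 | h0
    · exfalso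
      rw [h0, pow_zero, orderOf_eq_one_iff] at hj
      exact hζ1 hj
    · rw [hj]
      exact dvd_pow_self r h0.ne'
  have hinj : Function.Injective (fun i : Fin r => μ * ζ ^ (i : ℕ)) := by
    intro i j hij
    have h1 : ζ ^ (i : ℕ) = ζ ^ (j : ℕ) := mul_left_cancel₀ hμ0 hij
    have hfin : 0 < orderOf ζ := orderOf_pos_iff.2
      (isOfFinOrder_iff_pow_eq_one.2 ⟨r ^ c, pow_pos hr.pos c, hζ⟩)
    have hle : r ≤ orderOf ζ := Nat.le_of_dvd hfin hord
    exact Fin.ext (pow_injOn_Iio_orderOf (i.2.trans_le hle) (j.2.trans_le hle) h1)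
  have hli := Module.End.eigenvectors_linearIndependent' e (fun i : Fin r => μ * ζ ^ (i : ℕ)) hinj
    (fun i : Fin r => (f ^ (i : ℕ)) (v : W))
    (fun i => ⟨Module.End.mem_eigenspace_iff.2 (he_i i), hf_i i⟩)
  simpa only [_root_.ge_iff_le, _root_.Fintype.card_fin] using hli.fintype_card_le_finrank

end Alg

theorem le_finrank_of_rep {F : Type*} [Field F] {G : Type u} [Group G] {V : Type v} [AddCommGroup V]
    [Module F V] [FiniteDimensional F V] (ρ : Representation F G V) {r c : ℕ} (hr : r.Prime)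
    (hrF : (r : F) ≠ 0) (e f z : G) (hz : z ^ (r ^ c) = 1) (hz1 : ρ z ≠ ρ 1) (hef : e * f = z * f * e)
    (hze : z * e = e * z) (hzf : z * f = f * z) : r ≤ finrank F V := by
  have hcast : (r : AlgebraicClosure F) ≠ 0 := by
    intro h
    apply hrF
    have h1 : algebraMap F (AlgebraicClosure F) (r : F) = 0 := by rw [map_natCast]; exact h
    exact (map_eq_zero _).1 h1
  have hinj : ∀ g : G, Function.Injective (bc (AlgebraicClosure F) ρ g) := by
    intro g
    apply Function.LeftInverse.injective (g := bc (AlgebraicClosure F) ρ g⁻¹)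
    intro v
    rw [← Module.End.mul_apply, ← map_mul, inv_mul_cancel, map_one, Module.End.one_apply]
  have h := le_finrank (W := TensorProduct F (AlgebraicClosure F) V) (c := c) hr hcast
    (bc (AlgebraicClosure F) ρ e) (bc (AlgebraicClosure F) ρ f) (bc (AlgebraicClosure F) ρ z)
    (by rw [← map_pow, hz, map_one])
    (by
      intro h
      apply hz1
      apply eq_of_bc (F' := AlgebraicClosure F)
      rw [h, map_one])
    (by rw [← map_mul, ← map_mul, ← map_mul, hef])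
    (by rw [← map_mul, ← map_mul, hze]) (by rw [← map_mul, ← map_mul, hzf]) (hinj e) (hinj f)
  rwa [Module.finrank_baseChange] at h

theorem comm_of_card_lt' {Γ : Type u} {V : Type v} [Group Γ] [Finite Γ] [CommGroup V] [Finite V]
    (act : Γ →* MulAut V) (hinj : Function.Injective act) {p r : ℕ} [hp : Fact p.Prime]
    [Module (ZMod p) (Additive V)] (hr : r.Prime) (hrp : r ≠ p) (hcard : Nat.card V < p ^ r)
    {E : Subgroup Γ} (hE : IsPGroup r E) : ∀ e ∈ E, ∀ f ∈ E, e * f = f * e := by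
  by_contra hcon
  have : Fact r.Prime := ⟨hr⟩
  have hfinA : Finite (Additive V) := inferInstanceAs (Finite V)
  have hfd : FiniteDimensional (ZMod p) (Additive V) := Module.Finite.of_finite
  -- a central commutator
  obtain ⟨e, f, c, hz1, hz, hze, hzf⟩ : ∃ e f : E, ∃ c : ℕ, e * f * e⁻¹ * f⁻¹ ≠ 1 ∧
      (e * f * e⁻¹ * f⁻¹) ^ r ^ c = 1 ∧ (e * f * e⁻¹ * f⁻¹) * e = e * (e * f * e⁻¹ * f⁻¹) ∧
      (e * f * e⁻¹ * f⁻¹) * f = f * (e * f * e⁻¹ * f⁻¹) := by
    have hne : Subgroup.center E ≠ ⊤ := by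
      intro h
      apply hcon
      intro e he f hf
      have h1 : (⟨f, hf⟩ : E) ∈ Subgroup.center E := by rw [h]; exact Subgroup.mem_top _
      exact congrArg Subtype.val ((Subgroup.mem_center_iff.1 h1) ⟨e, he⟩)
    have hQ : IsPGroup r (E ⧸ Subgroup.center E) := hE.to_quotient _
    have hnt : Nontrivial (E ⧸ Subgroup.center E) := by
      rw [← not_subsingleton_iff_nontrivial]
      intro hs
      apply hne
      rw [eq_top_iff]
      intro y _
      exact (QuotientGroup.eq_one_iff y).1 (Subsingleton.elim _ _)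
    have hcn : Nontrivial (Subgroup.center (E ⧸ Subgroup.center E)) := hQ.center_nontrivial
    obtain ⟨⟨y, hy⟩, hy1⟩ := exists_ne (1 : Subgroup.center (E ⧸ Subgroup.center E))
    obtain ⟨e, rfl⟩ := QuotientGroup.mk_surjective y
    have heZ : e ∉ Subgroup.center E := by
      intro h
      apply hy1
      apply Subtype.ext
      exact (QuotientGroup.eq_one_iff e).2 h
    obtain ⟨f, hf⟩ : ∃ f, f * e ≠ e * f := by
      by_contra hc
      push Not at hc
      exact heZ (Subgroup.mem_center_iff.2 hc)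
    have hzc : e * f * e⁻¹ * f⁻¹ ∈ Subgroup.center E := by
      rw [← QuotientGroup.eq_one_iff]
      have h1 := (Subgroup.mem_center_iff.1 hy) (QuotientGroup.mk f)
      show (QuotientGroup.mk e * QuotientGroup.mk f * (QuotientGroup.mk e)⁻¹ * (QuotientGroup.mk f)⁻¹ :
        E ⧸ Subgroup.center E) = 1
      rw [← h1]
      group
    obtain ⟨c, hc⟩ := hE (e * f * e⁻¹ * f⁻¹)
    refine ⟨e, f, c, ?_, hc, ((Subgroup.mem_center_iff.1 hzc) e).symm,
      ((Subgroup.mem_center_iff.1 hzc) f).symm⟩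
    intro h
    apply hf
    have h2 : e * f = 1 * f * e := by rw [← h]; group
    rw [h2, one_mul]
  have hrF : (r : ZMod p) ≠ 0 := by
    intro h
    have h1 := (ZMod.natCast_eq_zero_iff r p).1 h
    exact hrp ((Nat.prime_dvd_prime_iff_eq hp.out hr).1 h1).symm
  have h := le_finrank_of_rep (elemRep p act) hr hrF (e : Γ) (f : Γ) ((e : Γ) * f * (e : Γ)⁻¹ * (f : Γ)⁻¹)
    (c := c) (congrArg Subtype.val hz)
    (by
      intro h
      apply hz1
      apply Subtype.ext
      apply hinj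
      ext v
      exact LinearMap.congr_fun h (Additive.ofMul v))
    (by group) (congrArg Subtype.val hze) (congrArg Subtype.val hzf)
  have h2 : Nat.card (Additive V) = p ^ finrank (ZMod p) (Additive V) := by
    have := Module.natCard_eq_pow_finrank (K := ZMod p) (V := Additive V)
    rwa [Nat.card_zmod] at this
  have h3 : Nat.card V = Nat.card (Additive V) := Nat.card_congr Additive.ofMul
  rw [h3, h2] at hcard
  exact absurd (Nat.pow_le_pow_right hp.out.pos h) (not_le.2 hcard)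

theorem comm_of_card_lt {Γ : Type u} {V : Type v} [Group Γ] [Finite Γ] [CommGroup V] [Finite V]
    (act : Γ →* MulAut V) (hinj : Function.Injective act) {p r : ℕ} [hp : Fact p.Prime]
    (hV : ∀ v : V, v ^ p = 1) (hr : r.Prime) (hrp : r ≠ p) (hcard : Nat.card V < p ^ r)
    {E : Subgroup Γ} (hE : IsPGroup r E) : ∀ e ∈ E, ∀ f ∈ E, e * f = f * e := by
  letI : Module (ZMod p) (Additive V) := AddCommGroup.zmodModule (by
    intro a
    exact hV a.toMul)
  exact comm_of_card_lt' act hinj hr hrp hcard hE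

end Cfsg.Agent.Walter.NoFieldThreeRep
end

-- part: Walter/NoFieldThreeComb
section
/-!
The combinatorial part of the module theorem for `p = 3`: an elementary abelian normal `r`-subgroup `Z` with
at most three distinguished hyperplanes permuted by conjugation, an involution `t` with `C_Z(t) = ⟨h⟩`, and an
element `x` of odd order commuting with `t`, `x h x⁻¹ = h ^ s`: then `x` acts on `Z` as the power `s`, and
`|Z| = r` or `r ^ 2`. If `x` is a product of commutators then `s ^ 2 = 1`.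
-/

set_option autoImplicit false

namespace Cfsg.Agent.Walter.NoFieldThreeComb

open Module Subgroup
open Cfsg.Agent.OddOrderLocal.Thm34 (elemRep elemRep_apply)

theorem det_abs' {Γ A : Type*} [Group Γ] [CommGroup A] [Finite A] {r : ℕ} [Fact r.Prime]
    [Module (ZMod r) (Additive A)] (φ : Γ →* MulAut A) {m : ℕ} (hcard : Nat.card A = r ^ m) {x : Γ}
    (hx : x ∈ _root_.Subgroup.closure {y : Γ | ∃ b t, y = b * t * b⁻¹ * t⁻¹}) {s : ℕ} (hs : ∀ a, φ x a = a ^ s) :
    (s : ZMod r) ^ m = 1 := by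
  have hfinA : Finite (Additive A) := inferInstanceAs (Finite A)
  have hfd : FiniteDimensional (ZMod r) (Additive A) := Module.Finite.of_finite
  have h2 : Nat.card (Additive A) = r ^ finrank (ZMod r) (Additive A) := by
    have := Module.natCard_eq_pow_finrank (K := ZMod r) (V := Additive A)
    rwa [Nat.card_zmod] at this
  have h3 : Nat.card A = Nat.card (Additive A) := Nat.card_congr Additive.ofMul
  have hm : finrank (ZMod r) (Additive A) = m := by
    rw [← h3, hcard] at h2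
    exact (Nat.pow_right_injective (Fact.out : r.Prime).two_le h2).symm
  let d : Γ →* ZMod r := (LinearMap.det : (Additive A →ₗ[ZMod r] Additive A) →* ZMod r).comp
    (elemRep r φ)
  have hd1 : d x = 1 := by
    have h4 : _root_.Subgroup.closure {y : Γ | ∃ b t, y = b * t * b⁻¹ * t⁻¹} ≤ d.ker := by
      rw [closure_le]
      rintro _ ⟨b, t, rfl⟩
      show d (b * t * b⁻¹ * t⁻¹) = 1
      have h5 : d b * d b⁻¹ = 1 := by rw [← map_mul, mul_inv_cancel, map_one]
      have h6 : d t * d t⁻¹ = 1 := by rw [← map_mul, mul_inv_cancel, map_one]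
      rw [map_mul, map_mul, map_mul]
      calc d b * d t * d b⁻¹ * d t⁻¹ = (d b * d b⁻¹) * (d t * d t⁻¹) := by ring
        _ = 1 := by rw [h5, h6, one_mul]
    exact h4 hx
  have hxs : elemRep r φ x = (s : ZMod r) • (1 : Additive A →ₗ[ZMod r] Additive A) := by
    ext a
    rw [LinearMap.smul_apply, Module.End.one_apply, Nat.cast_smul_eq_nsmul]
    show Additive.ofMul (φ x a.toMul) = s • a
    rw [hs]
    rfl
  have h7 : d x = (s : ZMod r) ^ m := by
    show LinearMap.det (elemRep r φ x) = _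
    rw [hxs, LinearMap.det_smul, hm]
    show (s : ZMod r) ^ m * LinearMap.det (LinearMap.id) = _
    rw [LinearMap.det_id, mul_one]
  rw [← h7, hd1]

theorem det_abs {Γ A : Type*} [Group Γ] [CommGroup A] [Finite A] {r : ℕ} [Fact r.Prime]
    (hA : ∀ a : A, a ^ r = 1) (φ : Γ →* MulAut A) {m : ℕ} (hcard : Nat.card A = r ^ m) {x : Γ}
    (hx : x ∈ _root_.Subgroup.closure {y : Γ | ∃ b t, y = b * t * b⁻¹ * t⁻¹}) {s : ℕ} (hs : ∀ a, φ x a = a ^ s) :
    (s : ZMod r) ^ m = 1 := by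
  let _inst : Module (ZMod r) (Additive A) := AddCommGroup.zmodModule (by
    intro a
    exact hA a.toMul)
  exact det_abs' φ hcard hx hs

theorem det_sub {Γ : Type*} [Group Γ] [Finite Γ] {r : ℕ} [Fact r.Prime] (Z : Subgroup Γ) [Z.Normal]
    (hab : ∀ a ∈ Z, ∀ b ∈ Z, a * b = b * a) (hexp : ∀ z ∈ Z, z ^ r = 1) {m : ℕ}
    (hcard : Nat.card Z = r ^ m) {x : Γ}
    (hx : x ∈ _root_.Subgroup.closure {y : Γ | ∃ b t, y = b * t * b⁻¹ * t⁻¹}) {s : ℕ}
    (hs : ∀ z ∈ Z, x * z * x⁻¹ = z ^ s) : (s : ZMod r) ^ m = 1 := by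
  let _c : CommGroup Z := { (inferInstance : Group Z) with
    mul_comm := fun a b => Subtype.ext (hab a a.2 b b.2) }
  exact det_abs (A := Z) (fun a => Subtype.ext (hexp a a.2)) (MulAut.conjNormal (H := Z)) hcard hx
    (fun a => Subtype.ext (by
      have := hs a a.2
      simpa only [_root_.MulAut.conjNormal_apply, _root_.SubmonoidClass.coe_pow] using this))

section Cj

variable {Γ : Type*} [Group Γ]

/-- the conjugate subgroup `g K g⁻¹` -/
def cj (g : Γ) (K : Subgroup Γ) : Subgroup Γ where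
  carrier := {y | g⁻¹ * y * g ∈ K}
  one_mem' := by simp
  mul_mem' := by
    intro a b ha hb
    have := K.mul_mem ha hb
    simpa only [mul_assoc, _root_.Set.mem_ofPred_eq, _root_.mul_inv_cancel_left] using this
  inv_mem' := by
    intro a ha
    have := K.inv_mem ha
    simpa only [mul_assoc, _root_.Set.mem_ofPred_eq, _root_.mul_inv_rev, _root_.inv_inv] using this

theorem mem_cj {g y : Γ} {K : Subgroup Γ} : y ∈ cj g K ↔ g⁻¹ * y * g ∈ K := Iff.rfl

theorem conj_mem_cj {g y : Γ} {K : Subgroup Γ} (hy : y ∈ K) : g * y * g⁻¹ ∈ cj g K := by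
  rw [mem_cj]
  simpa [mul_assoc] using hy

theorem cj_mul (a b : Γ) (K : Subgroup Γ) : cj (a * b) K = cj a (cj b K) := by
  ext y
  simp only [mem_cj, mul_assoc, _root_.mul_inv_rev]

theorem cj_one (K : Subgroup Γ) : cj 1 K = K := by
  ext y
  simp [mem_cj]

theorem cj_injective (g : Γ) {K L : Subgroup Γ} (h : cj g K = cj g L) : K = L := by
  have h1 := congrArg (cj g⁻¹) h
  rwa [← cj_mul, ← cj_mul, inv_mul_cancel, cj_one, cj_one] at h1

theorem exists_mul_zpow_mem {r : ℕ} (hr : r.Prime) {Z K : Subgroup Γ}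
    (hab : ∀ a ∈ Z, ∀ b ∈ Z, a * b = b * a) (hKr : K.relIndex Z = r) {h : Γ} (hh : h ∈ Z)
    (hhK : h ∉ K) : ∀ z ∈ Z, ∃ i : ℤ, z * h ^ i ∈ K := by
  intro z hz
  have hn : (K.subgroupOf Z).Normal := by
    constructor
    intro n hn g
    have h1 : g * n * g⁻¹ = n := by
      rw [show g * n = n * g from Subtype.ext (hab g g.2 n n.2), mul_inv_cancel_right]
    rwa [h1]
  have hcard : Nat.card (Z ⧸ K.subgroupOf Z) = r := hKr
  have hp : Fact r.Prime := ⟨hr⟩
  have h1 : (QuotientGroup.mk (⟨h, hh⟩ : Z) : Z ⧸ K.subgroupOf Z) ≠ 1 := by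
    intro h2
    exact hhK (mem_subgroupOf.1 ((QuotientGroup.eq_one_iff (⟨h, hh⟩ : Z)).1 h2))
  have h2 := mem_zpowers_of_prime_card hcard h1
    (g' := (QuotientGroup.mk (⟨z, hz⟩ : Z) : Z ⧸ K.subgroupOf Z))
  obtain ⟨i, hi⟩ := mem_zpowers_iff.1 h2
  refine ⟨-i, ?_⟩
  have h3 : (QuotientGroup.mk ((⟨z, hz⟩ : Z) * (⟨h, hh⟩ : Z) ^ (-i)) : Z ⧸ K.subgroupOf Z) = 1 := by
    rw [QuotientGroup.mk_mul, QuotientGroup.mk_zpow, zpow_neg, hi, mul_inv_cancel]
  have h4 := (QuotientGroup.eq_one_iff _).1 h3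
  rw [mem_subgroupOf] at h4
  simpa only [_root_.zpow_neg, _root_.Subgroup.coe_mul, _root_.InvMemClass.coe_inv, _root_.SubgroupClass.coe_zpow] using h4

end Cj

theorem comb {Γ : Type*} [Group Γ] [Finite Γ] {r : ℕ} (hr : r.Prime) (hr2 : r ≠ 2) (Z : Subgroup Γ)
    (hZn : Z.Normal) (hab : ∀ a ∈ Z, ∀ b ∈ Z, a * b = b * a) (hexp : ∀ z ∈ Z, z ^ r = 1) (t h x : Γ)
    (ht : t * t = 1) (hht : h * t = t * h) (hhZ : h ∈ Z) (hh1 : h ≠ 1)
    (hCt : ∀ z ∈ Z, z * t = t * z → z ∈ zpowers h) (𝒦 : Set (Subgroup Γ))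
    (h4 : ∀ A ∈ 𝒦, ∀ B ∈ 𝒦, ∀ C ∈ 𝒦, ∀ D ∈ 𝒦, A = B ∨ A = C ∨ A = D ∨ B = C ∨ B = D ∨ C = D)
    (hKZ : ∀ K ∈ 𝒦, K ≤ Z) (hKr : ∀ K ∈ 𝒦, K.relIndex Z = r) (hKh : ∀ K ∈ 𝒦, h ∉ K)
    (hinf : ∀ z ∈ Z, (∀ K ∈ 𝒦, z ∈ K) → z = 1) (hconj : ∀ g, ∀ K ∈ 𝒦, cj g K ∈ 𝒦)
    (hxt : x * t = t * x) (hxodd : Odd (orderOf x)) {s : ℕ} (hxh : x * h * x⁻¹ = h ^ s) :
    (∀ z ∈ Z, x * z * x⁻¹ = z ^ s) ∧ (Nat.card Z = r ^ 1 ∨ Nat.card Z = r ^ 2) := by
  have hti : t⁻¹ = t := inv_eq_of_mul_eq_one_right ht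
  have hcZ : ∀ g, ∀ z ∈ Z, g * z * g⁻¹ ∈ Z := fun g z hz => hZn.conj_mem z hz g
  have hKi : ∀ K ∈ 𝒦, ∀ z ∈ Z, ∃ i : ℤ, z * h ^ i ∈ K := fun K hK =>
    exists_mul_zpow_mem hr hab (hKr K hK) hhZ (hKh K hK)
  have hord : orderOf h = r := by
    rcases (Nat.dvd_prime hr).1 (orderOf_dvd_of_pow_eq_one (hexp h hhZ)) with h1 | h1
    · exact absurd (orderOf_eq_one_iff.1 h1) hh1
    · exact h1
  have hxi : ∀ i : ℤ, x * h ^ i * x⁻¹ = (h ^ i) ^ s := by
    intro i
    have h1 : x * h ^ i * x⁻¹ = (x * h * x⁻¹) ^ i := by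
      rw [← MulAut.conj_apply, ← MulAut.conj_apply, map_zpow]
    rw [h1, hxh, ← zpow_natCast, ← zpow_natCast, ← zpow_mul, ← zpow_mul, mul_comm]
  have hti' : ∀ i : ℤ, t * h ^ i * t⁻¹ = h ^ i := by
    intro i
    have h1 : Commute t h := hht.symm
    rw [(h1.zpow_right i).eq, mul_inv_cancel_right]
  by_cases hfix : ∀ K ∈ 𝒦, cj t K = K
  · -- all hyperplanes are fixed by `t`
    have hZh : ∀ z ∈ Z, z ∈ zpowers h := by
      intro z hz
      apply hCt z hz
      have h1 : t * z * t⁻¹ * z⁻¹ = 1 := by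
        apply hinf _ (Z.mul_mem (hcZ t z hz) (Z.inv_mem hz))
        intro K hK
        obtain ⟨i, hi⟩ := hKi K hK z hz
        have h2 : t * (z * h ^ i) * t⁻¹ ∈ K := by
          have := conj_mem_cj (g := t) hi
          rwa [hfix K hK] at this
        have h3 : t * z * t⁻¹ * z⁻¹ = (t * (z * h ^ i) * t⁻¹) * (z * h ^ i)⁻¹ := by
          have h5 := hti' i
          calc t * z * t⁻¹ * z⁻¹ = t * z * t⁻¹ * (h ^ i) * (h ^ i)⁻¹ * z⁻¹ := by group
            _ = t * z * t⁻¹ * (t * h ^ i * t⁻¹) * (h ^ i)⁻¹ * z⁻¹ := by rw [h5]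
            _ = _ := by group
        rw [h3]
        exact K.mul_mem h2 (K.inv_mem hi)
      have h2 : t * z = 1 * z * t := by rw [← h1]; group
      rw [one_mul] at h2
      exact h2.symm
    have hZe : Z = zpowers h := le_antisymm hZh (by rw [zpowers_le]; exact hhZ)
    refine ⟨?_, Or.inl ?_⟩
    · intro z hz
      obtain ⟨i, rfl⟩ := mem_zpowers_iff.1 (hZh z hz)
      exact hxi i
    · rw [hZe, Nat.card_zpowers, hord, pow_one]
  push Not at hfix
  obtain ⟨Ka, hKa, hne⟩ := hfix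
  set Kb := cj t Ka with hKbdef
  have hKb : Kb ∈ 𝒦 := hconj t Ka hKa
  have hKba : cj t Kb = Ka := by rw [hKbdef, ← cj_mul, ht, cj_one]
  have hoth : ∀ K ∈ 𝒦, K ≠ Ka → K ≠ Kb → cj t K = K := by
    intro K hK h1 h2
    rcases h4 K hK (cj t K) (hconj t K hK) Ka hKa Kb hKb with h | h | h | h | h | h
    · exact h.symm
    · exact absurd h h1
    · exact absurd h h2
    · exfalso
      apply h2
      rw [hKbdef, ← h, ← cj_mul, ht, cj_one]
    · exact absurd (cj_injective t h) h1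
    · exact absurd h.symm hne
  have hsq : ∀ K : Subgroup Γ, ∀ z ∈ Z, z * z ∈ K → z ∈ K := by
    intro K z hz hzz
    obtain ⟨m, hm⟩ : ∃ m, r = 2 * m + 1 := hr.odd_of_ne_two hr2
    have h1 : (z * z) ^ (m + 1) = z := by
      rw [← pow_two, ← pow_mul, show 2 * (m + 1) = r + 1 by omega, pow_succ, hexp z hz, one_mul]
    rw [← h1]
    exact K.pow_mem hzz _
  have hneg : ∀ z ∈ Ka, z * (t * z * t⁻¹) = 1 → z = 1 := by
    intro z hz h1
    have hzZ : z ∈ Z := hKZ Ka hKa hz
    have h2 : t * z * t⁻¹ = z⁻¹ := eq_inv_of_mul_eq_one_right h1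
    apply hinf z hzZ
    intro K hK
    by_cases hKKa : K = Ka
    · rw [hKKa]; exact hz
    by_cases hKKb : K = Kb
    · rw [hKKb, ← inv_mem_iff, ← h2]
      exact conj_mem_cj hz
    have h3 := hoth K hK hKKa hKKb
    obtain ⟨i, hi⟩ := hKi K hK z hzZ
    have h5 : t * (z * h ^ i) * t⁻¹ ∈ K := by
      have := conj_mem_cj (g := t) hi
      rwa [h3] at this
    have h6 : t * (z * h ^ i) * t⁻¹ = z⁻¹ * h ^ i := by
      have h8 : t * (z * h ^ i) * t⁻¹ = (t * z * t⁻¹) * (t * h ^ i * t⁻¹) := by group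
      rw [h8, h2, hti' i]
    apply hsq K z hzZ
    have h7 : z * z = (z * h ^ i) * (t * (z * h ^ i) * t⁻¹)⁻¹ := by
      rw [h6]; group
    rw [h7]
    exact K.mul_mem hi (K.inv_mem h5)
  -- the map `z ↦ z z^t` from `Ka` to `⟨h⟩`
  have hcmem : ∀ z ∈ Ka, z * (t * z * t⁻¹) ∈ zpowers h := by
    intro z hz
    have hzZ : z ∈ Z := hKZ Ka hKa hz
    apply hCt _ (Z.mul_mem hzZ (hcZ t z hzZ))
    have h1 := hab _ (hcZ t z hzZ) z hzZ
    calc z * (t * z * t⁻¹) * t = (z * (t * z * t⁻¹)) * t := rfl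
      _ = (t * z * t⁻¹ * z) * t := by rw [h1]
      _ = t * z * t⁻¹ * z * t⁻¹ := by rw [hti]
      _ = t * (z * (t * z * t⁻¹)) := by rw [hti]; simp only [mul_assoc]
  let c : Ka → zpowers h := fun z => ⟨z * (t * z * t⁻¹), hcmem z z.2⟩
  have hcinj : Function.Injective c := by
    rintro ⟨y, hy⟩ ⟨z, hz⟩ hyz
    have h1 : y * (t * y * t⁻¹) = z * (t * z * t⁻¹) := congrArg Subtype.val hyz
    have hyZ : y ∈ Z := hKZ Ka hKa hy
    have hzZ : z ∈ Z := hKZ Ka hKa hz
    have h2 : z⁻¹ * y = 1 := by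
      apply hneg _ (Ka.mul_mem (Ka.inv_mem hz) hy)
      have h3 : (z⁻¹ * y) * (t * (z⁻¹ * y) * t⁻¹) = z⁻¹ * (y * (t * z * t⁻¹)⁻¹) * (t * y * t⁻¹) := by
        group
      rw [h3, hab y hyZ _ (Z.inv_mem (hcZ t z hzZ))]
      calc z⁻¹ * ((t * z * t⁻¹)⁻¹ * y) * (t * y * t⁻¹)
          = z⁻¹ * (t * z * t⁻¹)⁻¹ * (y * (t * y * t⁻¹)) := by simp only [mul_assoc]
        _ = z⁻¹ * (t * z * t⁻¹)⁻¹ * (z * (t * z * t⁻¹)) := by rw [h1]
        _ = z⁻¹ * ((t * z * t⁻¹)⁻¹ * z) * (t * z * t⁻¹) := by simp only [mul_assoc]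
        _ = z⁻¹ * (z * (t * z * t⁻¹)⁻¹) * (t * z * t⁻¹) := by
          rw [hab z hzZ _ (Z.inv_mem (hcZ t z hzZ))]
        _ = 1 := by group
    exact Subtype.ext (inv_mul_eq_one.1 h2).symm
  have hcardh : Nat.card (zpowers h) = r := by rw [Nat.card_zpowers, hord]
  have hKale : Nat.card Ka ≤ r := by
    rw [← hcardh]
    exact Nat.card_le_card_of_injective c hcinj
  have hKa1 : Ka ≠ ⊥ := by
    intro h1
    apply hne
    rw [hKbdef, h1]
    ext y
    rw [mem_cj, mem_bot, mem_bot]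
    constructor
    · intro h2
      have h3 : y = t * (t⁻¹ * y * t) * t⁻¹ := by group
      rw [h3, h2]; group
    · rintro rfl
      group
  have hKac : Nat.card Ka = r := by
    obtain ⟨y, hy, hy1⟩ := (Subgroup.ne_bot_iff_exists_ne_one.1 hKa1 : ∃ y : Ka, y ≠ 1) |>.imp
      (fun y hy => hy) |> fun ⟨y, hy⟩ => (⟨(y : Γ), y.2, fun h => hy (Subtype.ext h)⟩ :
        ∃ y : Γ, y ∈ Ka ∧ y ≠ 1)
    have h1 : orderOf y = r := by
      rcases (Nat.dvd_prime hr).1 (orderOf_dvd_of_pow_eq_one (hexp y (hKZ Ka hKa hy))) with h2 | h2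
      · exact absurd (orderOf_eq_one_iff.1 h2) hy1
      · exact h2
    apply le_antisymm hKale
    rw [← h1, ← Nat.card_zpowers]
    exact Nat.card_le_card_of_injective _ (Subgroup.inclusion_injective (zpowers_le.2 hy))
  have hZc : Nat.card Z = r ^ 2 := by
    have h1 := relIndex_mul_relIndex ⊥ Ka Z bot_le (hKZ Ka hKa)
    rw [relIndex_bot_left, relIndex_bot_left, hKr Ka hKa, hKac] at h1
    rw [← h1, pow_two]
  refine ⟨?_, Or.inr hZc⟩
  have hKab : ∀ z ∈ Ka, z ∈ Kb → z = 1 := by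
    intro z hza hzb
    by_contra hz1
    have hoz : orderOf z = r := by
      rcases (Nat.dvd_prime hr).1 (orderOf_dvd_of_pow_eq_one (hexp z (hKZ Ka hKa hza))) with h2 | h2
      · exact absurd (orderOf_eq_one_iff.1 h2) hz1
      · exact h2
    have h1 : zpowers z = Ka := Subgroup.eq_of_le_of_card_ge (zpowers_le.2 hza)
      (by rw [Nat.card_zpowers, hoz, hKac])
    have h2 : Ka ≤ Kb := by rw [← h1]; exact zpowers_le.2 hzb
    have h3 : Nat.card Kb = r := by
      have h1 := relIndex_mul_relIndex ⊥ Kb Z bot_le (hKZ Kb hKb)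
      rw [relIndex_bot_left, relIndex_bot_left, hKr Kb hKb, hZc, pow_two] at h1
      exact Nat.eq_of_mul_eq_mul_right hr.pos h1
    exact hne (Subgroup.eq_of_le_of_card_ge h2 (by rw [h3, hKac])).symm
  -- `x` normalises `Ka` and `Kb`
  have hxKa : cj x Ka = Ka := by
    by_contra hcon
    have h1 : cj x Ka = Kb := by
      by_contra h2
      have h3 := hoth _ (hconj x Ka hKa) hcon h2
      rw [← cj_mul, ← hxt, cj_mul] at h3
      exact hne (cj_injective x h3)
    have h2 : cj x Kb = Ka := by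
      rw [hKbdef, ← cj_mul, hxt, cj_mul, h1, hKba]
    have h3 : ∀ j : ℕ, cj ((x * x) ^ j) Ka = Ka := by
      intro j
      induction j with
      | zero => rw [pow_zero, cj_one]
      | succ j ih => rw [pow_succ, cj_mul, cj_mul x x, h1, h2, ih]
    obtain ⟨m, hm⟩ := hxodd
    have h5 : (x * x) ^ (m + 1) = x := by
      rw [← pow_two, ← pow_mul, show 2 * (m + 1) = (2 * m + 1) + 1 by ring, pow_succ, ← hm,
        pow_orderOf_eq_one, one_mul]
    apply hcon
    rw [← h5]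
    exact h3 _
  have hxKb : cj x Kb = Kb := by
    rw [hKbdef, ← cj_mul, hxt, cj_mul, hxKa]
  -- `h = a b`
  obtain ⟨⟨a, ha⟩, hca⟩ := (hcinj.bijective_of_nat_card_le (by rw [hcardh, hKac])).2
    ⟨h, mem_zpowers h⟩
  have hca' : a * (t * a * t⁻¹) = h := congrArg Subtype.val hca
  set b := t * a * t⁻¹ with hb
  have hbK : b ∈ Kb := conj_mem_cj ha
  have haZ : a ∈ Z := hKZ Ka hKa ha
  have hbZ : b ∈ Z := hKZ Kb hKb hbK
  have ha1 : a ≠ 1 := by
    rintro rfl
    apply hh1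
    rw [← hca', hb]
    group
  have hxa : x * a * x⁻¹ = a ^ s := by
    have h1 : x * a * x⁻¹ ∈ Ka := by
      have := conj_mem_cj (g := x) ha
      rwa [hxKa] at this
    have h2 : x * b * x⁻¹ ∈ Kb := by
      have := conj_mem_cj (g := x) hbK
      rwa [hxKb] at this
    have h3 : (x * a * x⁻¹) * (x * b * x⁻¹) = a ^ s * b ^ s := by
      have h5 : Commute a b := hab a haZ b hbZ
      rw [← h5.mul_pow, hca', ← hxh, ← hca']
      group
    have h5 : (a ^ s)⁻¹ * (x * a * x⁻¹) = b ^ s * (x * b * x⁻¹)⁻¹ := by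
      have h6 : (x * a * x⁻¹) = a ^ s * b ^ s * (x * b * x⁻¹)⁻¹ := by rw [← h3]; group
      rw [h6]; group
    have h7 : (a ^ s)⁻¹ * (x * a * x⁻¹) = 1 := by
      apply hKab
      · exact Ka.mul_mem (Ka.inv_mem (Ka.pow_mem ha s)) h1
      · rw [h5]
        exact Kb.mul_mem (Kb.pow_mem hbK s) (Kb.inv_mem h2)
    exact (inv_mul_eq_one.1 h7).symm
  have hKaz : Ka = zpowers a := by
    have hoa : orderOf a = r := by
      rcases (Nat.dvd_prime hr).1 (orderOf_dvd_of_pow_eq_one (hexp a haZ)) with h2 | h2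
      · exact absurd (orderOf_eq_one_iff.1 h2) ha1
      · exact h2
    exact (Subgroup.eq_of_le_of_card_ge (zpowers_le.2 ha) (by rw [Nat.card_zpowers, hoa, hKac])).symm
  intro z hz
  obtain ⟨i, hi⟩ := hKi Ka hKa z hz
  rw [hKaz] at hi
  obtain ⟨j, hj⟩ := mem_zpowers_iff.1 hi
  have hzj : z = a ^ j * h ^ (-i) := by rw [hj]; group
  have h5 : Commute (a ^ j) (h ^ (-i)) := hab _ (Z.zpow_mem haZ j) _ (Z.zpow_mem hhZ (-i))
  have h6 : x * a ^ j * x⁻¹ = (a ^ j) ^ s := by
    have h1 : x * a ^ j * x⁻¹ = (x * a * x⁻¹) ^ j := by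
      rw [← MulAut.conj_apply, ← MulAut.conj_apply, map_zpow]
    rw [h1, hxa, ← zpow_natCast, ← zpow_natCast, ← zpow_mul, ← zpow_mul, mul_comm]
  rw [hzj, h5.mul_pow, ← hxi (-i), ← h6]
  group

end Cfsg.Agent.Walter.NoFieldThreeComb
end

-- part: Walter/NoFieldThreeCount
section
/-!
Counting the hyperplanes `K` of an elementary abelian `r`-group `Z` acting on an elementary abelian `p`-group
`V` with `C_V(K) ≠ 1`.
-/

set_option autoImplicit false

namespace Cfsg.Agent.Walter.NoFieldThreeCount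

open Subgroup
open Cfsg.Agent.Walter.NoFieldThreeComb (cj mem_cj conj_mem_cj)

section

variable {Γ V : Type*} [Group Γ] [CommGroup V] (act : Γ →* MulAut V)

/-- the fixed points of `K` on `V` -/
def CV (K : Subgroup Γ) : Subgroup V where
  carrier := {v | ∀ k ∈ K, act k v = v}
  one_mem' := fun k _ => map_one _
  mul_mem' := fun {x y} hx hy k hk => by rw [map_mul, hx k hk, hy k hk]
  inv_mem' := fun {x} hx k hk => by rw [map_inv, hx k hk]

variable {act}

theorem act_mem_CV_cj {K : Subgroup Γ} {g : Γ} {v : V} (hv : v ∈ CV act K) :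
    act g v ∈ CV act (cj g K) := by
  intro k hk
  have h1 := hv _ hk
  have h2 : act g (act (g⁻¹ * k * g) v) = act k (act g v) := by
    rw [← MulAut.mul_apply, ← MulAut.mul_apply, ← map_mul, ← map_mul]
    congr 2
    group
  rw [← h2, h1]

theorem act_mem_CV_comm {K : Subgroup Γ} {g : Γ} (hg : ∀ k ∈ K, k * g = g * k) {v : V}
    (hv : v ∈ CV act K) : act g v ∈ CV act K := by
  intro k hk
  rw [← MulAut.mul_apply, ← map_mul, hg k hk, map_mul, MulAut.mul_apply, hv k hk]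

theorem mem_CV_of_sup {A B Z : Subgroup Γ} (hZ : Z ≤ A ⊔ B) {v : V} (hA : v ∈ CV act A)
    (hB : v ∈ CV act B) : v ∈ CV act Z := by
  let S : Subgroup Γ :=
    { carrier := {g | act g v = v}
      one_mem' := by
        show act 1 v = v
        rw [map_one]; rfl
      mul_mem' := by
        intro a b ha hb
        show act (a * b) v = v
        rw [map_mul, MulAut.mul_apply, show act b v = v from hb]
        exact ha
      inv_mem' := by
        intro a ha
        show act a⁻¹ v = v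
        have h1 : act a⁻¹ (act a v) = v := by
          rw [← MulAut.mul_apply, ← map_mul, inv_mul_cancel, map_one]; rfl
        rwa [show act a v = v from ha] at h1 }
  have h1 : A ⊔ B ≤ S := sup_le (fun a ha => hA a ha) (fun b hb => hB b hb)
  exact fun k hk => h1 (hZ hk)

theorem le_sup_of_ne [Finite Γ] {r : ℕ} (hr : r.Prime) {A B Z : Subgroup Γ} (hA : A ≤ Z)
    (hB : B ≤ Z) (hAr : A.relIndex Z = r) (hBr : B.relIndex Z = r) (hne : A ≠ B) : Z ≤ A ⊔ B := by
  have h1 := relIndex_mul_relIndex A (A ⊔ B) Z le_sup_left (sup_le hA hB)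
  rw [hAr] at h1
  have h2 : (A ⊔ B).relIndex Z ∣ r := ⟨A.relIndex (A ⊔ B), by rw [← h1, mul_comm]⟩
  rcases (Nat.dvd_prime hr).1 h2 with h3 | h3
  · exact relIndex_eq_one.1 h3
  · exfalso
    rw [h3] at h1
    have h4 : A.relIndex (A ⊔ B) = 1 := Nat.eq_of_mul_eq_mul_right hr.pos (by rw [h1, one_mul])
    have h5 : B ≤ A := le_sup_right.trans (relIndex_eq_one.1 h4)
    have h6 := relIndex_mul_relIndex B A Z h5 hA
    rw [hAr, hBr] at h6
    have h7 : B.relIndex A = 1 := Nat.eq_of_mul_eq_mul_right hr.pos (by rw [h6, one_mul])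
    exact hne (le_antisymm (relIndex_eq_one.1 h7) h5)

theorem eq_of_pow_eq {m p : ℕ} (hp : p.Prime) (hm : ¬ p ∣ m) {v w : V} (hv : v ^ p = 1)
    (hw : w ^ p = 1) (h : v ^ m = w ^ m) : v = w := by
  have h1 : (v * w⁻¹) ^ m = 1 := by rw [mul_pow, inv_pow, h, mul_inv_cancel]
  have h2 : (v * w⁻¹) ^ p = 1 := by rw [mul_pow, inv_pow, hv, hw, inv_one, mul_one]
  have h3 : orderOf (v * w⁻¹) ∣ Nat.gcd m p :=
    Nat.dvd_gcd (orderOf_dvd_of_pow_eq_one h1) (orderOf_dvd_of_pow_eq_one h2)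
  rw [Nat.Coprime.gcd_eq_one ((Nat.Prime.coprime_iff_not_dvd hp).2 hm).symm, Nat.dvd_one,
    orderOf_eq_one_iff] at h3
  exact mul_inv_eq_one.1 h3

theorem prod_card_le [Finite Γ] [Finite V] {p r : ℕ} (hp : p.Prime) (hV : ∀ v : V, v ^ p = 1)
    (hr : r.Prime) {Z : Subgroup Γ} (hab : ∀ a ∈ Z, ∀ b ∈ Z, a * b = b * a)
    (hpZ : ¬ p ∣ Nat.card Z) (hfix : ∀ v : V, v ∈ CV act Z → v = 1) {ι : Type*} [Fintype ι]
    (K : ι → Subgroup Γ) (hK : Function.Injective K) (hKZ : ∀ i, K i ≤ Z)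
    (hKr : ∀ i, (K i).relIndex Z = r) : ∏ i, Nat.card (CV act (K i)) ≤ Nat.card V := by
  classical
  have := Fintype.ofFinite Γ
  let F : (∀ i, CV act (K i)) → V := fun v => ∏ i, (v i : V)
  have hF : Function.Injective F := by
    intro v w hvw
    have hvw' : ∏ i, (v i : V) = ∏ i, (w i : V) := hvw
    funext j
    let N : V →* V :=
      { toFun := fun u => ∏ k : K j, act (k : Γ) u
        map_one' := by simp only [_root_.map_one, _root_.Finset.prod_const_one]
        map_mul' := by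
          intro a b
          rw [← Finset.prod_mul_distrib]
          exact Finset.prod_congr rfl fun k _ => map_mul _ _ _ }
    have hN1 : ∀ i, i ≠ j → ∀ u ∈ CV act (K i), N u = 1 := by
      intro i hij u hu
      apply hfix
      apply mem_CV_of_sup (A := K i) (B := K j)
        (le_sup_of_ne hr (hKZ i) (hKZ j) (hKr i) (hKr j) (fun h => hij (hK h)))
      · intro k hk
        show act k (∏ k' : K j, act (k' : Γ) u) = ∏ k' : K j, act (k' : Γ) u
        rw [map_prod]
        refine Finset.prod_congr rfl fun k' _ => ?_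
        rw [← MulAut.mul_apply, ← map_mul, hab k (hKZ i hk) k' (hKZ j k'.2), map_mul,
          MulAut.mul_apply, hu k hk]
      · intro k hk
        show act k (∏ k' : K j, act (k' : Γ) u) = ∏ k' : K j, act (k' : Γ) u
        rw [map_prod]
        apply Fintype.prod_equiv (Equiv.mulLeft (⟨k, hk⟩ : K j))
        intro k'
        rw [← MulAut.mul_apply, ← map_mul]
        rfl
    have hN2 : ∀ u ∈ CV act (K j), N u = u ^ Nat.card (K j) := by
      intro u hu
      show ∏ k' : K j, act (k' : Γ) u = _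
      have h1 : ∀ k' : K j, act (k' : Γ) u = u := fun k' => hu k' k'.2
      simp only [h1]
      rw [Finset.prod_const, Finset.card_univ, Nat.card_eq_fintype_card]
    have hN3 : ∀ u : (∀ i, CV act (K i)), N (∏ i, (u i : V)) = (u j : V) ^ Nat.card (K j) := by
      intro u
      rw [map_prod, Finset.prod_eq_single j (fun i _ hij => hN1 i hij _ (u i).2)
        (fun h => absurd (Finset.mem_univ j) h), hN2 _ (u j).2]
    have h1 : (v j : V) ^ Nat.card (K j) = (w j : V) ^ Nat.card (K j) := by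
      rw [← hN3, ← hN3, hvw']
    exact Subtype.ext (eq_of_pow_eq hp
      (fun h => hpZ (h.trans (Subgroup.card_dvd_of_le (hKZ j)))) (hV _) (hV _) h1)
  have h2 := Nat.card_le_card_of_injective F hF
  rwa [Nat.card_pi] at h2

/-- a fixed point free automorphism of prime order `r` -/
theorem card_modEq_one [Finite V] {r : ℕ} (hr : r.Prime) {h : Γ} (hhr : h ^ r = 1)
    (hfix : ∀ v, act h v = v → v = 1) (W : Subgroup V) (hW : ∀ w ∈ W, act h w ∈ W) :
    Nat.card W ≡ 1 [MOD r] := by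
  classical
  have hp : Fact r.Prime := ⟨hr⟩
  have := Fintype.ofFinite W
  let f : Function.End W := fun w => ⟨act h w, hW w w.2⟩
  have hf : ∀ j : ℕ, ∀ w : W, ((f ^ j) w : V) = act (h ^ j) w := by
    intro j
    induction j with
    | zero => intro w; simp only [_root_.pow_zero, _root_.map_one, _root_.MulAut.one_apply, _root_.SetLike.coe_eq_coe]; rfl
    | succ j ih =>
      intro w
      rw [pow_succ, pow_succ, map_mul, MulAut.mul_apply]
      exact ih (f w)
  have hf1 : f ^ r ^ 1 = 1 := by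
    funext w
    apply Subtype.ext
    rw [pow_one, hf, hhr, map_one]
    rfl
  have h1 := Equiv.Perm.card_fixedPoints_modEq hf1
  have h2 : Fintype.card (Function.fixedPoints f) = 1 := by
    rw [Fintype.card_eq_one_iff]
    refine ⟨⟨1, ?_⟩, ?_⟩
    · show f 1 = 1
      exact Subtype.ext (map_one _)
    · rintro ⟨w, hw⟩
      apply Subtype.ext
      apply Subtype.ext
      exact hfix w (congrArg Subtype.val hw)
  rw [Nat.card_eq_fintype_card]
  rwa [h2] at h1

theorem le_card_of_ne_bot [Finite V] {p r n : ℕ} (hp : p.Prime) (hV : ∀ v : V, v ^ p = 1)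
    (hr : r.Prime) (hord : ∀ j, r ∣ p ^ j - 1 → n ∣ j) {h : Γ} (hhr : h ^ r = 1)
    (hfix : ∀ v, act h v = v → v = 1) (W : Subgroup V) (hW : ∀ w ∈ W, act h w ∈ W)
    (hW1 : W ≠ ⊥) : p ^ n ≤ Nat.card W := by
  have hpF : Fact p.Prime := ⟨hp⟩
  have h1 := card_modEq_one hr hhr hfix W hW
  have hWp : IsPGroup p W := fun w => ⟨1, by
    rw [pow_one]
    exact Subtype.ext (hV w)⟩
  obtain ⟨j, hj⟩ := IsPGroup.iff_card.1 hWp
  rw [hj] at h1 ⊢
  have h2 : r ∣ p ^ j - 1 := (Nat.modEq_iff_dvd' (Nat.one_le_pow _ _ hp.pos)).1 h1.symm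
  have h3 := hord j h2
  have hj0 : j ≠ 0 := by
    rintro rfl
    rw [pow_zero] at hj
    exact hW1 (Subgroup.card_eq_one.1 hj)
  exact Nat.pow_le_pow_right hp.pos (Nat.le_of_dvd (Nat.pos_of_ne_zero hj0) h3)

/-- elements of `Z` in all the hyperplanes `K` with `C_V(K) ≠ 1` act trivially -/
theorem act_eq_of_forall_mem [Finite Γ] [Finite V] {p r : ℕ} [hpF : Fact p.Prime] [hrF : Fact r.Prime]
    (hrp : r ≠ p) (hV : ∀ v : V, v ^ p = 1) {Z : Subgroup Γ}
    (hab : ∀ a ∈ Z, ∀ b ∈ Z, a * b = b * a) (hexp : ∀ z ∈ Z, z ^ r = 1) (hZ1 : Z ≠ ⊥) {z : Γ}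
    (hz : ∀ K : Subgroup Γ, K ≤ Z → K.relIndex Z = r → CV act K ≠ ⊥ → z ∈ K) (v : V) :
    act z v = v := by
  let _c : CommGroup Z := { (inferInstance : Group Z) with
    mul_comm := fun a b => Subtype.ext (hab a a.2 b b.2) }
  have hnt : Nontrivial Z := (Subgroup.nontrivial_iff_ne_bot Z).2 hZ1
  have hVp : IsPGroup p V := fun w => ⟨1, by
    rw [pow_one]
    exact hV w⟩
  have h1 := Lib.CoprimeHyperplane.iSup_fix_eq_top_of_isPGroup (A := Z) (R := V) (act.comp Z.subtype) hrp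
    (fun a => Subtype.ext (hexp a a.2)) hVp
  have h2 : (⨆ B : {B : Subgroup Z // B.index = r},
      Lib.CoprimeHyperplane.fix (act.comp Z.subtype) B.1) ≤ CV act (zpowers z) := by
    refine iSup_le fun B w hw => ?_
    have hBr : (B.1.map Z.subtype).relIndex Z = r := by
      rw [Subgroup.relIndex, Subgroup.subgroupOf, Subgroup.comap_map_eq_self_of_injective
        (Subgroup.subtype_injective Z)]
      exact B.2
    have hBZ : B.1.map Z.subtype ≤ Z := Subgroup.map_subtype_le B.1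
    have hwC : w ∈ CV act (B.1.map Z.subtype) := by
      rintro _ ⟨b, hb, rfl⟩
      exact hw b hb
    by_cases hC : CV act (B.1.map Z.subtype) = ⊥
    · rw [hC, mem_bot] at hwC
      rw [hwC]
      exact one_mem _
    · have h3 := hz _ hBZ hBr hC
      intro k hk
      exact hwC k (zpowers_le.2 h3 hk)
  have h3 : v ∈ CV act (zpowers z) := h2 (by rw [h1]; exact mem_top _)
  exact h3 z (mem_zpowers z)

end

end Cfsg.Agent.Walter.NoFieldThreeCount
end

-- part: Walter/NoFieldThreeMod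
section
/-!
Module theorem for "no field automorphisms", `p = 3` (Walter's theorem, Ree case; S0506), form of helper95
(bb 5327): `Γ` acts faithfully on an elementary abelian `3`-group `V`, `|V| ≤ 3 ^ (3 n)`, `O` normal of odd
order, `h ∈ O` of prime order `r > 3 n` fixed point free on `V` and commuting with the involution `t`; then no
product `x` of commutators `[b, t]`, `b ∈ O`, commuting with `t`, can act on `⟨h⟩` as a power `s`, `s ^ 2 ≠ 1`,
modulo a `3`-subgroup normalised by `h`.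
-/

set_option autoImplicit false

namespace Cfsg.Agent.Walter.NoFieldThreeMod

open Subgroup
open Cfsg.Agent.Walter.NoFieldThreeComb (cj mem_cj conj_mem_cj comb det_sub)
open Cfsg.Agent.Walter.NoFieldThreeCount

universe u

theorem inj4 {α : Type*} {A B C D : α} (h1 : A ≠ B) (h2 : A ≠ C) (h3 : A ≠ D) (h4 : B ≠ C)
    (h5 : B ≠ D) (h6 : C ≠ D) : Function.Injective (![A, B, C, D] : Fin 4 → α) := by
  intro i j hij
  fin_cases i <;> fin_cases j <;> simp_all

theorem forall4 {α : Type*} {A B C D : α} {P : α → Prop} (h1 : P A) (h2 : P B) (h3 : P C)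
    (h4 : P D) : ∀ i, P ((![A, B, C, D] : Fin 4 → α) i) := by
  intro i
  fin_cases i
  · exact h1
  · exact h2
  · exact h3
  · exact h4

theorem card_cj {Γ : Type*} [Group Γ] (g : Γ) (K : Subgroup Γ) : Nat.card (cj g K) = Nat.card K := by
  refine Nat.card_congr
    { toFun := fun y => ⟨g⁻¹ * y * g, y.2⟩
      invFun := fun k => ⟨g * k * g⁻¹, conj_mem_cj k.2⟩
      left_inv := fun y => Subtype.ext (by group)
      right_inv := fun k => Subtype.ext (by group) }

theorem cj_mem_of_mem {Γ : Type*} [Group Γ] [Finite Γ] {Z K : Subgroup Γ} {r : ℕ} (hZn : Z.Normal)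
    (g : Γ) (hK1 : K ≤ Z) (hK2 : K.relIndex Z = r) :
    cj g K ≤ Z ∧ (cj g K).relIndex Z = r := by
  have h1 : cj g K ≤ Z := by
    intro y hy
    have h2 := hZn.conj_mem _ (hK1 (mem_cj.1 hy)) g
    have h3 : g * (g⁻¹ * y * g) * g⁻¹ = y := by group
    rwa [h3] at h2
  refine ⟨h1, ?_⟩
  have h2 := relIndex_mul_relIndex ⊥ K Z bot_le hK1
  have h3 := relIndex_mul_relIndex ⊥ (cj g K) Z bot_le h1
  rw [relIndex_bot_left, relIndex_bot_left] at h2 h3
  rw [card_cj, ← h2, hK2] at h3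
  exact Nat.eq_of_mul_eq_mul_left Nat.card_pos h3

theorem mt {Γ V : Type u} [Group Γ] [Finite Γ] [CommGroup V] [Finite V] (act : Γ →* MulAut V)
    (hinj : Function.Injective act) (hV3 : ∀ v : V, v ^ 3 = 1)
    (hO3 : ∀ X : Subgroup Γ, X.Normal → IsPGroup 3 X → X = ⊥) (O : Subgroup Γ) [O.Normal]
    (hodd : Odd (Nat.card O)) (hsol : Group.IsSolvable O) (t : Γ) (ht : t * t = 1)
    (_hgen : ∀ g : Γ, g ∈ O ∨ t * g ∈ O) {r n : ℕ} (hr : r.Prime) (hrn : 3 * n < r)
    (hord : ∀ j, r ∣ 3 ^ j - 1 → n ∣ j) (hcard : Nat.card V ≤ 3 ^ (3 * n)) (h : Γ) (hO : h ∈ O)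
    (hhr : h ^ r = 1) (hh1 : h ≠ 1) (hht : h * t = t * h) (hfix : ∀ v, act h v = v → v = 1)
    (hD : ∀ z ∈ O, z ^ r = 1 → z * t = t * z → z * h = h * z → z ∈ zpowers h) (U : Subgroup Γ)
    (_hUO : U ≤ O) (hU3 : IsPGroup 3 U) (hUh : ∀ u ∈ U, h * u * h⁻¹ ∈ U) (x : Γ)
    (hx : x ∈ _root_.Subgroup.closure {y | ∃ b ∈ O, y = b * t * b⁻¹ * t⁻¹}) (hxt : x * t = t * x) (u d : Γ)
    (hu : u ∈ U) (hxud : x = u * d) (s : ℕ) (hds : d * h * d⁻¹ = h ^ s)
    (hs : ¬ s ^ 2 ≡ 1 [MOD r]) : False := by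
  have hrF : Fact r.Prime := ⟨hr⟩
  have h3F : Fact (Nat.Prime 3) := ⟨Nat.prime_three⟩
  -- `n ≠ 0`
  have hn : n ≠ 0 := by
    rintro rfl
    rw [mul_zero, pow_zero] at hcard
    have h1 : Subsingleton V := Finite.card_le_one_iff_subsingleton.1 hcard
    apply hh1
    apply hinj
    ext v
    exact Subsingleton.elim _ _
  have hr3 : 3 < r := by omega
  have hr2 : r ≠ 2 := by omega
  have hrne3 : r ≠ 3 := by omega
  have hV3r : Nat.card V < 3 ^ r := hcard.trans_lt (Nat.pow_lt_pow_right (by norm_num) hrn)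
  have hrab : ∀ E : Subgroup Γ, IsPGroup r E → ∀ e ∈ E, ∀ f ∈ E, e * f = f * e := fun E hE =>
    NoFieldThreeRep.comm_of_card_lt act hinj hV3 hr hrne3 hV3r hE
  have hodd_of_le : ∀ H : Subgroup Γ, H ≤ O → Odd (Nat.card H) := fun H hH =>
    hodd.of_dvd_nat (Subgroup.card_dvd_of_le hH)
  -- the `l`-cores of `O`
  let N : ℕ → Subgroup Γ := fun l => (Cfsg.pCore l O).map O.subtype
  have hNn : ∀ l, (N l).Normal := by
    intro l
    have := Lib.Cores.pCore_characteristic (G := O) l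
    exact ConjAct.normal_of_characteristic_of_normal
  have hNp : ∀ l, IsPGroup l (N l) := fun l => (Lib.Cores.pCore_isPGroup (G := O) l).map _
  have hNO : ∀ l, N l ≤ O := fun l => Subgroup.map_subtype_le _
  have hcomm : ∀ l : ℕ, l.Prime → ∀ y ∈ N l, y * h = h * y := by
    intro l hl y hy
    have hlF : Fact l.Prime := ⟨hl⟩
    by_cases hl3 : l = 3
    · subst hl3
      have h1 := hO3 (N 3) (hNn 3) (hNp 3)
      rw [h1, mem_bot] at hy
      rw [hy, one_mul, mul_one]
    by_cases hlr : l = r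
    · subst hlr
      have h1 : IsPGroup l (zpowers h) := by
        apply IsPGroup.of_card (n := 1)
        rw [Nat.card_zpowers, pow_one]
        exact orderOf_eq_prime hhr hh1
      have := hNn l
      have h2 : IsPGroup l (N l ⊔ zpowers h : Subgroup Γ) := (hNp l).to_sup_of_normal_left h1
      exact hrab _ h2 y (mem_sup_left hy) h (mem_sup_right (mem_zpowers h))
    · obtain ⟨c, hc⟩ := (hNp l).exists_card_eq
      have hsolN : Group.IsSolvable (N l) := by
        have : Group.IsNilpotent (N l) := (hNp l).isNilpotent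
        exact inferInstance
      have h1 := OddOrderLocal.Thm34.elem_version 3 hV3 act (N l) h hr hr2 hhr
        (fun k hk => (hNn l).conj_mem k hk h) hsolN (hodd_of_le _ (hNO l))
        (by
          rw [hc]
          intro h2
          exact hlr ((Nat.prime_dvd_prime_iff_eq hr hl).1 (hr.dvd_of_dvd_pow h2)).symm)
        (by
          rw [hc]
          intro h2
          exact hl3 ((Nat.prime_dvd_prime_iff_eq Nat.prime_three hl).1
            (Nat.prime_three.dvd_of_dvd_pow h2)).symm) hrne3 hfix y hy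
      apply hinj
      ext v
      exact (h1 v).symm
  -- `h ∈ O_r(O)`
  have hhN : h ∈ N r := by
    have h1 := OddOrderLocal.RankTwoFitting.mem_fitting_of_forall_mem_centralizer (G := O)
      (x := ⟨h, hO⟩) (by
        intro l hl
        rw [mem_centralizer_iff]
        intro y hy
        exact Subtype.ext (hcomm l hl y ⟨y, hy, rfl⟩))
    have h2 := Lib.GenFitting.mem_pCore_of_mem_fitting (p := r) h1.2 (k := 1)
      (by rw [pow_one]; exact Subtype.ext hhr)
    exact ⟨⟨h, hO⟩, h2, rfl⟩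
  have hNab := hrab (N r) (hNp r)
  -- `Z = Ω₁(O_r(O))`
  let Z : Subgroup Γ :=
    { carrier := {z | z ∈ N r ∧ z ^ r = 1}
      one_mem' := ⟨one_mem _, one_pow _⟩
      mul_mem' := by
        rintro a b ⟨ha, ha'⟩ ⟨hb, hb'⟩
        refine ⟨mul_mem ha hb, ?_⟩
        have h1 : Commute a b := hNab a ha b hb
        rw [h1.mul_pow, ha', hb', one_mul]
      inv_mem' := by
        rintro a ⟨ha, ha'⟩
        exact ⟨inv_mem ha, by rw [inv_pow, ha', inv_one]⟩ }
  have hZN : Z ≤ N r := fun z hz => hz.1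
  have hZO : Z ≤ O := hZN.trans (hNO r)
  have hZexp : ∀ z ∈ Z, z ^ r = 1 := fun z hz => hz.2
  have hZab : ∀ a ∈ Z, ∀ b ∈ Z, a * b = b * a := fun a ha b hb => hNab a ha.1 b hb.1
  have hZn : Z.Normal := by
    constructor
    rintro z ⟨hz, hz'⟩ g
    refine ⟨(hNn r).conj_mem z hz g, ?_⟩
    rw [conj_pow, hz', mul_one, mul_inv_cancel]
  have hhZ : h ∈ Z := ⟨hhN, hhr⟩
  have hZr : IsPGroup r Z := fun z => ⟨1, by rw [pow_one]; exact Subtype.ext z.2.2⟩
  have hCt : ∀ z ∈ Z, z * t = t * z → z ∈ zpowers h := fun z hz hzt =>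
    hD z (hZO hz) hz.2 hzt (hZab z hz h hhZ)
  -- `U` centralises `h`
  have huh : u * h * u⁻¹ = h := by
    have h1 : u * h * u⁻¹ * h⁻¹ ∈ Z := Z.mul_mem (hZn.conj_mem h hhZ u) (Z.inv_mem hhZ)
    have h2 : u * h * u⁻¹ * h⁻¹ ∈ U := by
      have : u * h * u⁻¹ * h⁻¹ = u * (h * u⁻¹ * h⁻¹) := by group
      rw [this]
      exact U.mul_mem hu (hUh _ (U.inv_mem hu))
    have h3 : Disjoint Z U := IsPGroup.disjoint_of_ne r 3 hrne3 Z U hZr hU3
    have h4 : u * h * u⁻¹ * h⁻¹ = 1 := by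
      have := h3.le_bot (show u * h * u⁻¹ * h⁻¹ ∈ Z ⊓ U from ⟨h1, h2⟩)
      exact mem_bot.1 this
    exact mul_inv_eq_one.1 h4
  have hxh : x * h * x⁻¹ = h ^ s := by
    have h1 : x * h * x⁻¹ = u * (d * h * d⁻¹) * u⁻¹ := by rw [hxud]; group
    rw [h1, hds, ← conj_pow, huh]
  have hxO : x ∈ O := by
    refine (closure_le O).2 ?_ hx
    rintro _ ⟨b, hb, rfl⟩
    have : b * t * b⁻¹ * t⁻¹ = b * (t * b⁻¹ * t⁻¹) := by group
    rw [this]
    exact O.mul_mem hb (Normal.conj_mem inferInstance _ (O.inv_mem hb) t)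
  have hxodd : Odd (orderOf x) := by
    have h1 : orderOf (⟨x, hxO⟩ : O) = orderOf x := Subgroup.orderOf_mk x hxO
    rw [← h1]
    exact hodd.of_dvd_nat (_root_.orderOf_dvd_natCard _)
  -- the hyperplanes
  let 𝒦 : Set (Subgroup Γ) := {K | K ≤ Z ∧ K.relIndex Z = r ∧ CV act K ≠ ⊥}
  have h3Z : ¬ 3 ∣ Nat.card Z := by
    obtain ⟨c, hc⟩ := hZr.exists_card_eq
    rw [hc]
    intro h2
    exact hrne3 ((Nat.prime_dvd_prime_iff_eq Nat.prime_three hr).1
      (Nat.prime_three.dvd_of_dvd_pow h2)).symm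
  have hZfix : ∀ v : V, v ∈ CV act Z → v = 1 := fun v hv => hfix v (hv h hhZ)
  have hKn : ∀ K ∈ 𝒦, 3 ^ n ≤ Nat.card (CV act K) := by
    rintro K ⟨hK1, hK2, hK3⟩
    exact le_card_of_ne_bot Nat.prime_three hV3 hr hord hhr hfix (CV act K)
      (fun w hw => act_mem_CV_comm (fun k hk => hZab k (hK1 hk) h hhZ) hw) hK3
  have h4 : ∀ A ∈ 𝒦, ∀ B ∈ 𝒦, ∀ C ∈ 𝒦, ∀ D ∈ 𝒦,
      A = B ∨ A = C ∨ A = D ∨ B = C ∨ B = D ∨ C = D := by
    intro A hA B hB C hC D hD'
    by_contra hcon
    push Not at hcon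
    obtain ⟨hAB, hAC, hAD, hBC, hBD, hCD⟩ := hcon
    have hmem : ∀ i : Fin 4, (![A, B, C, D] : Fin 4 → Subgroup Γ) i ∈ 𝒦 :=
      forall4 (P := fun K => K ∈ 𝒦) hA hB hC hD'
    have hinjK : Function.Injective (![A, B, C, D] : Fin 4 → Subgroup Γ) :=
      inj4 hAB hAC hAD hBC hBD hCD
    have h5 := prod_card_le Nat.prime_three hV3 hr hZab h3Z hZfix (![A, B, C, D] : Fin 4 → Subgroup Γ)
      hinjK (fun i => (hmem i).1) (fun i => (hmem i).2.1)
    have h6 : ∏ _i : Fin 4, 3 ^ n ≤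
        ∏ i, Nat.card (CV act ((![A, B, C, D] : Fin 4 → Subgroup Γ) i)) :=
      Finset.prod_le_prod' fun i _ => hKn _ (hmem i)
    rw [Finset.prod_const, Finset.card_univ, Fintype.card_fin, ← pow_mul] at h6
    have h7 := (h6.trans h5).trans hcard
    have h8 := (Nat.pow_le_pow_iff_right (by norm_num : 1 < 3)).1 h7
    omega
  have hconj : ∀ g, ∀ K ∈ 𝒦, cj g K ∈ 𝒦 := by
    rintro g K ⟨hK1, hK2, hK3⟩
    obtain ⟨h5, h6⟩ := cj_mem_of_mem hZn g hK1 hK2
    refine ⟨h5, h6, ?_⟩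
    intro h7
    apply hK3
    rw [eq_bot_iff]
    intro v hv
    have h8 : act g v ∈ CV act (cj g K) := act_mem_CV_cj hv
    rw [h7, mem_bot] at h8
    rw [mem_bot]
    exact (map_eq_one_iff (act g) (act g).injective).1 h8
  obtain ⟨hpow, hZc⟩ := comb hr hr2 Z hZn hZab hZexp t h x ht hht hhZ hh1 hCt 𝒦 h4
    (fun K hK => hK.1) (fun K hK => hK.2.1)
    (by
      rintro K ⟨hK1, hK2, hK3⟩ hhK
      apply hK3
      rw [eq_bot_iff]
      intro v hv
      exact mem_bot.2 (hfix v (hv h hhK)))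
    (by
      intro z hz hzK
      apply hinj
      ext v
      rw [map_one]
      exact act_eq_of_forall_mem hrne3 hV3 hZab hZexp
        (fun hb => hh1 (by rw [hb] at hhZ; exact mem_bot.1 hhZ))
        (fun K h1 h2 h3 => hzK K ⟨h1, h2, h3⟩) v)
    hconj hxt hxodd hxh
  have hxc : x ∈ _root_.Subgroup.closure {y : Γ | ∃ b t, y = b * t * b⁻¹ * t⁻¹} := by
    refine _root_.Subgroup.closure_mono ?_ hx
    rintro _ ⟨b, _, rfl⟩
    exact ⟨b, t, rfl⟩
  have hs2 : (s : ZMod r) ^ 2 = 1 := by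
    rcases hZc with h1 | h1
    · have h2 := det_sub Z hZab hZexp h1 hxc hpow
      rw [pow_one] at h2
      rw [h2, one_pow]
    · exact det_sub Z hZab hZexp h1 hxc hpow
  apply hs
  rw [← ZMod.natCast_eq_natCast_iff]
  push_cast
  exact hs2

end Cfsg.Agent.Walter.NoFieldThreeMod
end

-- part: Walter/NoFieldThreeMain
section
/-!
# No field automorphisms of order three (Walter, step (5)): the conclusion
-/

set_option autoImplicit false

namespace Cfsg.Agent.Walter.NoFieldThree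

open Subgroup Cfsg
open Cfsg.Agent.Walter.QdAbelian (AbTwo)

universe u

/-! ### Auxiliary results -/

theorem card_comap_le {V W : Type*} [Group V] [Group W] [Finite V] [Finite W] (N : V →* W)
    (S : Subgroup W) : Nat.card (S.comap N) ≤ Nat.card N.ker * Nat.card S := by
  have h1 := card_mul_index (N.subgroupComap S).ker
  have h2 : (N.subgroupComap S).ker.index ≤ Nat.card S := by
    rw [index_ker]
    exact Subgroup.card_le_card_group _
  have h3 : Nat.card (N.subgroupComap S).ker ≤ Nat.card N.ker := by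
    refine Nat.card_le_card_of_injective
      (fun x => (⟨(x : S.comap N), ?_⟩ : N.ker)) ?_
    · exact congrArg Subtype.val x.2
    · intro x y hxy
      have h4 : ((x : S.comap N) : V) = ((y : S.comap N) : V) := Subtype.mk_eq_mk.1 hxy
      exact Subtype.ext (Subtype.ext h4)
  rw [← h1]
  exact Nat.mul_le_mul h3 h2

/-- An automorphism `σ` with `σ³ = 1` of an elementary abelian 3-group `V` satisfies `|V| ≤ |C_V(σ)|³`. -/
theorem card_le_cube {V : Type*} [CommGroup V] [Finite V] (hV : ∀ v : V, v ^ 3 = 1) (σ : V →* V)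
    (hσ : ∀ v, σ (σ (σ v)) = v) : Nat.card V ≤ Nat.card {v : V // σ v = v} ^ 3 := by
  let N : V →* V := σ / MonoidHom.id V
  have hN : ∀ v, N v = σ v / v := fun v => rfl
  have hN3 : ∀ v, N (N (N v)) = 1 := by
    intro v
    have h1 : N (N (N v)) = σ (σ (σ v)) * v⁻¹ * ((σ v) ^ 3 * ((σ (σ v)) ^ 3)⁻¹) := by
      simp only [hN, map_div]
      simp only [div_eq_mul_inv, mul_inv_rev, inv_inv, pow_succ, pow_zero, one_mul]
      generalize σ (σ (σ v)) = a
      generalize σ (σ v) = b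
      generalize σ v = c
      apply Additive.ofMul.injective
      simp only [ofMul_mul, ofMul_inv]
      abel
    rw [h1, hV, hV, hσ, mul_inv_cancel, one_mul, inv_one, mul_one]
  have hk : Nat.card N.ker = Nat.card {v : V // σ v = v} := by
    refine Nat.card_congr (Equiv.subtypeEquivRight fun v => ?_)
    rw [MonoidHom.mem_ker, hN, div_eq_one]
  have h1 := card_comap_le N N.ker
  have h2 := card_comap_le N (N.ker.comap N)
  have h3 : (N.ker.comap N).comap N = ⊤ := by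
    rw [eq_top_iff]
    intro v _
    exact hN3 v
  rw [h3, card_top] at h2
  rw [← hk]
  calc Nat.card V ≤ Nat.card N.ker * Nat.card (N.ker.comap N) := h2
    _ ≤ Nat.card N.ker * (Nat.card N.ker * Nat.card N.ker) := Nat.mul_le_mul_left _ h1
    _ = Nat.card N.ker ^ 3 := by ring

/-- In a cyclic group the elements `z` with `z ^ r = 1` are powers of an element of order `r`. -/
theorem mem_zpowers_of_cyclic {C : Type*} [Group C] [Finite C] [IsCyclic C] {r : ℕ} {z h : C}
    (hr : r.Prime) (hz : z ^ r = 1) (hh : h ^ r = 1) (hh1 : h ≠ 1) : z ∈ zpowers h := by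
  classical
  have := Fintype.ofFinite C
  have hrF : Fact r.Prime := ⟨hr⟩
  have h1 := IsCyclic.card_pow_eq_one_le (α := C) hr.pos
  have h2 : orderOf h = r := orderOf_eq_prime hh hh1
  have h3 : (Finset.univ.filter fun a : C => a ∈ zpowers h) ⊆
      Finset.univ.filter fun a : C => a ^ r = 1 := by
    intro a ha
    rw [Finset.mem_filter] at ha ⊢
    refine ⟨ha.1, ?_⟩
    obtain ⟨k, rfl⟩ := mem_zpowers_iff.1 ha.2
    rw [← zpow_natCast, zpow_comm, zpow_natCast, hh, one_zpow]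
  have h4 : (Finset.univ.filter fun a : C => a ∈ zpowers h).card = r := by
    rw [← h2, ← Nat.card_zpowers, ← Fintype.card_subtype, ← Nat.card_eq_fintype_card]
  have h5 := Finset.eq_of_subset_of_card_le h3 (by rw [h4]; exact h1)
  have h6 : z ∈ Finset.univ.filter fun a : C => a ^ r = 1 := by simp [hz]
  rw [← h5, Finset.mem_filter] at h6
  exact h6.2

/-- A minimal `M`-invariant subgroup. -/
theorem exists_min {G : Type u} [Group G] [Finite G] {M Z : Subgroup G} (hZ : IsPGroup 3 Z)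
    (hZ1 : Z ≠ ⊥) (hZc : ∀ a ∈ Z, ∀ b ∈ Z, a * b = b * a) (hMZ : ∀ m ∈ M, ∀ z ∈ Z, m * z * m⁻¹ ∈ Z) :
    ∃ V ≤ Z, V ≠ ⊥ ∧ (∀ m ∈ M, ∀ v ∈ V, m * v * m⁻¹ ∈ V) ∧
      (∀ W ≤ V, W ≠ ⊥ → (∀ m ∈ M, ∀ v ∈ W, m * v * m⁻¹ ∈ W) → W = V) ∧ ∀ v ∈ V, v ^ 3 = 1 := by
  classical
  have h3 : Fact (Nat.Prime 3) := ⟨Nat.prime_three⟩
  let 𝒱 : Set (Subgroup G) := {V | V ≤ Z ∧ V ≠ ⊥ ∧ ∀ m ∈ M, ∀ v ∈ V, m * v * m⁻¹ ∈ V}
  obtain ⟨V, ⟨hVZ, hV1, hVM⟩, hmin⟩ :=
    Set.Finite.exists_minimalFor (fun Q : Subgroup G => Nat.card Q) 𝒱 (Set.toFinite 𝒱)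
      ⟨Z, le_rfl, hZ1, hMZ⟩
  have hirr : ∀ W ≤ V, W ≠ ⊥ → (∀ m ∈ M, ∀ v ∈ W, m * v * m⁻¹ ∈ W) → W = V := by
    intro W hWV hW1 hWM
    refine Subgroup.eq_of_le_of_card_ge hWV ?_
    exact hmin (show W ∈ 𝒱 from ⟨hWV.trans hVZ, hW1, hWM⟩) (Subgroup.card_le_of_le hWV)
  refine ⟨V, hVZ, hV1, hVM, hirr, ?_⟩
  -- elements of order 3
  let W : Subgroup G :=
    { carrier := {v | v ∈ V ∧ v ^ 3 = 1}
      one_mem' := ⟨one_mem _, one_pow _⟩
      mul_mem' := by
        rintro a b ⟨ha, ha3⟩ ⟨hb, hb3⟩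
        refine ⟨mul_mem ha hb, ?_⟩
        have hc : Commute a b := hZc a (hVZ ha) b (hVZ hb)
        rw [hc.mul_pow, ha3, hb3, one_mul]
      inv_mem' := by
        rintro a ⟨ha, ha3⟩
        exact ⟨inv_mem ha, by rw [inv_pow, ha3, inv_one]⟩ }
  have hW : W = V := by
    refine hirr W (fun v hv => hv.1) ?_ ?_
    · intro hbot
      have hVp : IsPGroup 3 V := hZ.to_le hVZ
      have hnt : Nontrivial V := (nontrivial_iff_ne_bot V).2 hV1
      obtain ⟨n, hn0, hn⟩ := hVp.nontrivial_iff_card.1 hnt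
      obtain ⟨x, hx⟩ := exists_prime_orderOf_dvd_card' (G := V) 3 (by rw [hn]; exact dvd_pow_self 3 hn0.ne')
      have hxW : (x : G) ∈ W := by
        refine ⟨x.2, ?_⟩
        have := pow_orderOf_eq_one x
        rw [hx] at this
        exact congrArg Subtype.val this
      rw [hbot, mem_bot] at hxW
      have : x = 1 := Subtype.ext hxW
      rw [this, orderOf_one] at hx
      omega
    · rintro m hm v ⟨hv, hv3⟩
      refine ⟨hVM m hm v hv, ?_⟩
      rw [conj_pow, hv3, mul_one, mul_inv_cancel]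
  intro v hv
  rw [← hW] at hv
  exact hv.2

/-- The remaining data: `D₁` normal of index 3 in `D`, `F` the 3-subgroup of field automorphisms, `φ ∈ F` of order 3. -/
structure Ext {G : Type u} [Group G] (U D : Subgroup G) (h : G) (r n : ℕ) (D1 F : Subgroup G)
    (φ : G) : Prop where
  D1D : D1 ≤ D
  D3 : ∀ d ∈ D, d ^ 3 ∈ D1
  Dc : ∀ d ∈ D, ∀ d' ∈ D, d * d' * d⁻¹ * d'⁻¹ ∈ D1
  Dne : ¬ D ≤ D1
  act : ∀ x ∈ D, x ∉ D1 → ∃ u ∈ U, ∃ (d : G) (s : ℕ), x = u * d ∧ d * h * d⁻¹ = h ^ s ∧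
    ¬ s ^ 2 ≡ 1 [MOD r]
  F3 : IsPGroup 3 F
  FD : F ≤ D
  Fh : ∀ f ∈ F, f * h * f⁻¹ ∈ zpowers h
  φF : φ ∈ F
  φ3 : φ ^ 3 = 1
  Fφ : ∀ f ∈ F, f * φ = φ * f
  card : ∀ X : Subgroup G, IsPGroup 3 X → (∀ x ∈ X, x * φ = φ * x) →
    Nat.card X ≤ Nat.card F * 3 ^ n
  rn : 3 * n < r
  ord : ∀ j, r ∣ 3 ^ j - 1 → n ∣ j
  cyc : ∀ R ≤ D, IsPGroup r R → IsCyclic R

section

variable {G : Type u} [Group G] {t : G} {E L U D : Subgroup G} {w h : G} {r n : ℕ}
  {D1 F : Subgroup G} {φ : G}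

/-- `|V| ≤ 3 ^ (3 n)` for an elementary abelian 3-group `V` normalised by `D`. -/
theorem Hyp.card_le [Finite G] (H : Hyp t E L U D w h r) (X : Ext U D h r n D1 F φ) {V : Subgroup G}
    (hVc : ∀ a ∈ V, ∀ b ∈ V, a * b = b * a) (hV3 : ∀ v ∈ V, v ^ 3 = 1)
    (hDV : ∀ d ∈ D, ∀ v ∈ V, d * v * d⁻¹ ∈ V) : Nat.card V ≤ 3 ^ (3 * n) := by
  have hVp : IsPGroup 3 V := fun v => ⟨1, Subtype.ext (by rw [pow_one]; exact hV3 v v.2)⟩
  have hφD : φ ∈ D := X.FD X.φF
  let _ : CommGroup V :=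
    { (inferInstance : Group V) with mul_comm := fun a b => Subtype.ext (hVc a a.2 b b.2) }
  have hDN : D ≤ normalizer (V : Set G) := fun d hd => conj_map_eq (hDV d hd)
  let σ : V →* V := (V.normalizerMonoidHom ⟨φ, hDN hφD⟩ : MulAut V).toMonoidHom
  have hσ : ∀ v : V, ((σ v : V) : G) = φ * v * φ⁻¹ := fun v => rfl
  have h1 := card_le_cube (V := V) (fun v => Subtype.ext (hV3 v v.2)) σ (by
    intro v
    refine Subtype.ext ?_
    rw [hσ, hσ, hσ]
    have e : φ * (φ * (φ * (v : G) * φ⁻¹) * φ⁻¹) * φ⁻¹ = φ ^ 3 * v * (φ ^ 3)⁻¹ := by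
      rw [pow_succ, pow_succ, pow_one]; group
    rw [e, X.φ3, one_mul, inv_one, mul_one])
  -- the 3-subgroup `C_V(φ) F`
  set C : Subgroup G := V ⊓ centralizer {φ} with hC
  have hCc : ∀ x ∈ C, x * φ = φ * x := fun x hx => mem_centralizer_singleton_iff.1 hx.2
  have hfix : Nat.card {v : V // σ v = v} = Nat.card C := by
    refine Nat.card_congr
      { toFun := fun v => ⟨v.1, v.1.2, mem_centralizer_singleton_iff.2 ?_⟩
        invFun := fun c => ⟨⟨c.1, c.2.1⟩, Subtype.ext ?_⟩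
        left_inv := fun v => rfl
        right_inv := fun c => rfl }
    · have h2 : φ * (v.1 : G) * φ⁻¹ = v.1 := by
        rw [← hσ]; exact congrArg Subtype.val v.2
      exact (mul_inv_eq_iff_eq_mul.1 h2).symm
    · rw [hσ]
      show φ * (c : G) * φ⁻¹ = c
      rw [← hCc c c.2, mul_inv_cancel_right]
  have hFC : F ≤ normalizer (C : Set G) := by
    intro f hf
    refine conj_map_eq ?_
    rintro c ⟨hc1, hc2⟩
    refine ⟨hDV f (X.FD hf) c hc1, mem_centralizer_singleton_iff.2 ?_⟩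
    have hc1 : Commute f φ := X.Fφ f hf
    have hc2 : Commute c φ := mem_centralizer_singleton_iff.1 hc2
    exact ((hc1.mul_left hc2).mul_left hc1.inv_left)
  have hp : IsPGroup 3 (C ⊔ F : Subgroup G) :=
    IsPGroup.to_sup_of_normal_left' (hVp.to_le inf_le_left) X.F3 hFC
  have hcφ : ∀ x ∈ C ⊔ F, x * φ = φ * x := by
    have : C ⊔ F ≤ centralizer {φ} :=
      sup_le inf_le_right fun f hf => mem_centralizer_singleton_iff.2 (X.Fφ f hf)
    exact fun x hx => mem_centralizer_singleton_iff.1 (this hx)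
  have h2 := X.card (C ⊔ F) hp hcφ
  have h3 : Nat.card C * Nat.card F ≤ Nat.card (C ⊔ F : Subgroup G) := by
    rw [← Nat.card_prod]
    refine Nat.card_le_card_of_injective
      (fun x : C × F => (⟨x.1 * x.2, mul_mem (mem_sup_left x.1.2) (mem_sup_right x.2.2)⟩ :
        (C ⊔ F : Subgroup G))) ?_
    rintro ⟨c, f⟩ ⟨c', f'⟩ hcf
    have h4 : (c : G) * f = c' * f' := Subtype.mk_eq_mk.1 hcf
    have h5 : (c' : G)⁻¹ * c = f' * (f : G)⁻¹ := by
      rw [inv_mul_eq_iff_eq_mul, ← mul_assoc, eq_mul_inv_iff_mul_eq, h4]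
    -- an element of `V ∩ F` commutes with `h`
    have h6 : (c' : G)⁻¹ * c = 1 := by
      set x : G := (c' : G)⁻¹ * c with hx
      have hxV : x ∈ V := mul_mem (inv_mem c'.2.1) c.2.1
      have hxF : x ∈ F := by rw [h5]; exact mul_mem f'.2 (inv_mem f.2)
      have h7 : x * h * x⁻¹ * h⁻¹ ∈ V := by
        have e : x * h * x⁻¹ * h⁻¹ = x * (h * x⁻¹ * h⁻¹) := by group
        rw [e]
        exact mul_mem hxV (hDV h H.hD _ (inv_mem hxV))
      have h8 : x * h * x⁻¹ * h⁻¹ ∈ zpowers h :=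
        mul_mem (X.Fh x hxF) (inv_mem (mem_zpowers h))
      have h9 : x * h * x⁻¹ * h⁻¹ = 1 := by
        refine H.fpf (el_of_mem hVp h7) ?_
        obtain ⟨k, hk⟩ := mem_zpowers_iff.1 h8
        rw [← hk]
        exact ((Commute.refl h).zpow_left k)
      refine H.fpf (el_of_mem hVp hxV) ?_
      have h10 : x * h * x⁻¹ = h := mul_inv_eq_one.1 h9
      exact mul_inv_eq_iff_eq_mul.1 h10
    have h7 : (c : G) = c' := by
      have := inv_mul_eq_one.1 h6
      exact this.symm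
    have h8 : (f : G) = f' := by
      rw [h7] at h4
      exact mul_left_cancel h4
    exact Prod.ext (Subtype.ext h7) (Subtype.ext h8)
  have h4 : Nat.card C ≤ 3 ^ n := by
    have h5 : Nat.card F * Nat.card C ≤ Nat.card F * 3 ^ n := by
      rw [mul_comm]; exact h3.trans h2
    exact Nat.le_of_mul_le_mul_left h5 Nat.card_pos
  rw [hfix] at h1
  calc Nat.card V ≤ Nat.card C ^ 3 := h1
    _ ≤ (3 ^ n) ^ 3 := Nat.pow_le_pow_left h4 3
    _ = 3 ^ (3 * n) := by rw [← pow_mul, mul_comm]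

/-- **No field automorphisms of order three.** -/
theorem main [Finite G] (H : Hyp t E L U D w h r) (X : Ext U D h r n D1 F φ)
    (hFT : ∀ X : Subgroup G, Odd (Nat.card X) → Group.IsSolvable X) (hG : commutator G = ⊤) :
    False := by
  classical
  have h3F : Fact (Nat.Prime 3) := ⟨Nat.prime_three⟩
  have hrF : Fact r.Prime := ⟨H.hr⟩
  obtain ⟨P, B, htP, hUP, htM, hME, hBM, hBodd, hBn, hB2, hBD, hDB, hPB⟩ := H.exists_local hFT
  set Z := centerThompsonOf 3 (P : Subgroup G) with hZ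
  set M := normalizer (Z : Set G) with hM
  obtain ⟨x, hxD, hxY, hxD1⟩ := exists_comm H.ht H.ht1 htM hBM hBodd hBn hB2 hBD hDB
    (fun d hd => H.cE d (H.DE hd))
    (fun X hX1 hX2 => focal H.hab hG (by norm_num : (3 : ℕ) ≠ 2) P hX1 hX2) X.D1D X.D3 X.Dc X.Dne
  obtain ⟨u, hu, d, s, hxud, hds, hs⟩ := X.act x hxD hxD1
  -- the minimal subgroup
  have hP1 : (P : Subgroup G) ≠ ⊥ := by
    intro h1
    rw [h1] at hUP
    exact H.U1 (le_bot_iff.1 hUP)
  have hZp : IsPGroup 3 Z := P.isPGroup'.to_le (PLocal.ZJElem.centerThompsonOf_le 3 _)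
  obtain ⟨V, hVZ, hV1, hVM, hirr, hV3⟩ := exists_min (M := M) hZp
    (S0118.centerThompsonOf_ne_bot P.isPGroup' hP1)
    (fun a ha b hb => PLocal.ZJElem.centerThompsonOf_comm ha hb)
    (fun m hm z hz => (mem_normalizer_iff.1 hm z).1 hz)
  have hVc : ∀ a ∈ V, ∀ b ∈ V, a * b = b * a := fun a ha b hb =>
    PLocal.ZJElem.centerThompsonOf_comm (hVZ ha) (hVZ hb)
  have hVp : IsPGroup 3 V := hZp.to_le hVZ
  have hcard := H.card_le X hVc hV3 (fun d hd v hv => hVM d (hBM (hDB hd)) v hv)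
  -- the action
  have hMV : M ≤ normalizer (V : Set G) := fun m hm => conj_map_eq (hVM m hm)
  let ρ : M →* MulAut V := V.normalizerMonoidHom.comp (Subgroup.inclusion hMV)
  let π : M →* ρ.range := ρ.rangeRestrict
  have hπs : Function.Surjective π := ρ.rangeRestrict_surjective
  have hval : ∀ (m : M) (v : V), ((((π m : ρ.range) : MulAut V) v : V) : G) = m * v * (m : G)⁻¹ :=
    fun m v => rfl
  have hπ1 : ∀ m : M, (∀ v ∈ V, (m : G) * v * (m : G)⁻¹ = v) → π m = 1 := by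
    intro m hm
    refine Subtype.ext (MulEquiv.ext fun v => Subtype.ext ?_)
    rw [hval]
    exact hm v v.2
  have hDM : D ≤ M := hDB.trans hBM
  have hhM : h ∈ M := hDM H.hD
  have hxM : x ∈ M := hDM hxD
  have huM : u ∈ M := hDM (H.UD hu)
  have hdM : d ∈ M := by
    have : d = u⁻¹ * x := by rw [hxud]; group
    rw [this]
    exact mul_mem (inv_mem huM) hxM
  set t' : M := ⟨t, htM⟩ with ht'
  set h' : M := ⟨h, hhM⟩ with hh'
  -- `C_V(h) = 1`
  have hfixV : ∀ v ∈ V, h * v * h⁻¹ = v → v = 1 := by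
    intro v hv hhv
    exact H.fpf (el_of_mem hVp hv) (mul_inv_eq_iff_eq_mul.1 hhv).symm
  have hh1' : π h' ≠ 1 := by
    intro h1
    apply hV1
    rw [eq_bot_iff]
    intro v hv
    rw [mem_bot]
    refine hfixV v hv ?_
    have h2 := hval h' ⟨v, hv⟩
    rw [h1] at h2
    exact h2.symm
  -- the image of `B`
  have hBnorm : (B.subgroupOf M).Normal := ⟨fun b hb g => hBn g g.2 b hb⟩
  set O : Subgroup ρ.range := (B.subgroupOf M).map π with hO
  have hOn : O.Normal := hBnorm.map π hπs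
  have hOmem : ∀ z, z ∈ O ↔ ∃ b : M, (b : G) ∈ B ∧ π b = z := fun z => Iff.rfl
  have hOodd : Odd (Nat.card O) := by
    have h1 : Nat.card O ∣ Nat.card (B.subgroupOf M) := card_map_dvd _ _
    rw [Nat.card_congr (subgroupOfEquivOfLe hBM).toEquiv] at h1
    exact Odd.of_dvd_nat hBodd h1
  have hOsol : Group.IsSolvable O := by
    have h1 : Group.IsSolvable B := hFT B hBodd
    have h2 : Group.IsSolvable (B.subgroupOf M) :=
      Group.isSolvable_of_surjective (f := (subgroupOfEquivOfLe hBM).symm.toMonoidHom)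
        (subgroupOfEquivOfLe hBM).symm.surjective
    exact Group.isSolvable_of_surjective ((π.subgroupMap_surjective (B.subgroupOf M)))
  -- commutators
  have hcomm : Subgroup.closure {y | ∃ b ∈ B, y = b * t * b⁻¹ * t⁻¹} ≤
      ((Subgroup.closure {y : ρ.range | ∃ b ∈ O, y = b * π t' * b⁻¹ * (π t')⁻¹}).comap π).map
        M.subtype := by
    rw [Subgroup.closure_le]
    rintro _ ⟨b, hb, rfl⟩
    refine ⟨⟨b, hBM hb⟩ * t' * ⟨b, hBM hb⟩⁻¹ * t'⁻¹, ?_, rfl⟩
    refine subset_closure ⟨π ⟨b, hBM hb⟩, ⟨_, hb, rfl⟩, ?_⟩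
    rw [map_mul, map_mul, map_mul, map_inv, map_inv]
  have hxY' : π ⟨x, hxM⟩ ∈ Subgroup.closure {y : ρ.range | ∃ b ∈ O, y = b * π t' * b⁻¹ * (π t')⁻¹} := by
    obtain ⟨x', hx1, hx2⟩ := hcomm hxY
    have : x' = ⟨x, hxM⟩ := Subtype.ext hx2
    rw [← this]
    exact hx1
  -- no normal 3-subgroups
  have hO3 : ∀ Y : Subgroup ρ.range, Y.Normal → IsPGroup 3 Y → Y = ⊥ := by
    intro Y hYn hY3
    let W : Subgroup G :=
      { carrier := {v | ∃ hv : v ∈ V, ∀ y ∈ Y, (y : MulAut V) ⟨v, hv⟩ = ⟨v, hv⟩}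
        one_mem' := ⟨one_mem _, fun y _ => map_one _⟩
        mul_mem' := by
          rintro a b ⟨ha, ha'⟩ ⟨hb, hb'⟩
          refine ⟨mul_mem ha hb, fun y hy => ?_⟩
          have e : (⟨a * b, mul_mem ha hb⟩ : V) = ⟨a, ha⟩ * ⟨b, hb⟩ := rfl
          rw [e, map_mul, ha' y hy, hb' y hy]
        inv_mem' := by
          rintro a ⟨ha, ha'⟩
          refine ⟨inv_mem ha, fun y hy => ?_⟩
          have e : (⟨a⁻¹, inv_mem ha⟩ : V) = (⟨a, ha⟩ : V)⁻¹ := rfl
          rw [e, map_inv, ha' y hy] }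
    have hWV : W ≤ V := fun v hv => hv.1
    have hW1 : W ≠ ⊥ := by
      have hnt : Nontrivial V := (nontrivial_iff_ne_bot V).2 hV1
      obtain ⟨m, hm0, hm⟩ := hVp.nontrivial_iff_card.1 hnt
      have hfp : (1 : V) ∈ MulAction.fixedPoints Y V := by
        intro y
        show ((y : ρ.range) : MulAut V) 1 = 1
        exact map_one _
      obtain ⟨b, hb, hb1⟩ := hY3.exists_fixed_point_of_prime_dvd_card_of_fixed_point V
        (by rw [hm]; exact dvd_pow_self 3 hm0.ne') hfp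
      intro hbot
      apply hb1
      have hbW : (b : G) ∈ W := ⟨b.2, fun y hy => hb ⟨y, hy⟩⟩
      rw [hbot, mem_bot] at hbW
      exact (Subtype.ext hbW).symm
    have hWM : ∀ m ∈ M, ∀ v ∈ W, m * v * m⁻¹ ∈ W := by
      rintro m hm v ⟨hv, hv'⟩
      refine ⟨hVM m hm v hv, fun y hy => ?_⟩
      have e : (⟨m * v * m⁻¹, hVM m hm v hv⟩ : V) = ((π ⟨m, hm⟩ : ρ.range) : MulAut V) ⟨v, hv⟩ := rfl
      have h1 := hYn.conj_mem y hy (π ⟨m, hm⟩)⁻¹
      have h2 := hv' _ h1
      rw [e]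
      have h3 : (((π ⟨m, hm⟩)⁻¹ * y * (π ⟨m, hm⟩)⁻¹⁻¹ : ρ.range) : MulAut V) =
        ((π ⟨m, hm⟩ : ρ.range) : MulAut V)⁻¹ * (y : MulAut V) * ((π ⟨m, hm⟩ : ρ.range) : MulAut V) := by
        rw [inv_inv]; rfl
      rw [h3, MulAut.mul_apply, MulAut.mul_apply] at h2
      have h4 := congrArg ((π ⟨m, hm⟩ : ρ.range) : MulAut V) h2
      rwa [MulAut.apply_inv_self] at h4
    have hWeq := hirr W hWV hW1 hWM
    rw [eq_bot_iff]
    intro y hy
    rw [mem_bot]
    refine Subtype.ext (MulEquiv.ext fun v => ?_)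
    have hv : (v : G) ∈ W := by rw [hWeq]; exact v.2
    obtain ⟨hv1, hv2⟩ := hv
    exact hv2 y hy
  -- elements of order `r` of `O` commuting with `t` and `h`
  have hπt : π t' * π t' = 1 := by
    rw [← map_mul]
    have : t' * t' = 1 := Subtype.ext H.ht
    rw [this, map_one]
  have hhr' : π h' ^ r = 1 := by
    rw [← map_pow]
    have : h' ^ r = 1 := Subtype.ext H.hhr
    rw [this, map_one]
  have hOD : ∀ z ∈ O, z ^ r = 1 → z * π t' = π t' * z → z * π h' = π h' * z → z ∈ zpowers (π h') := by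
    intro z hz hzr hzt hzh
    -- `z` comes from an element of `D`
    obtain ⟨c, hcD, hcz⟩ : ∃ c : M, (c : G) ∈ D ∧ π c = z := by
      obtain ⟨b, hbB, hbz⟩ := hz
      obtain ⟨k, hk1, hk2⟩ := exists_fix H.ht hBodd (hBn t htM) hbB
      refine ⟨b * (b⁻¹ * (t' * b * t'⁻¹)) ^ k, hBD _ hk1 hk2, ?_⟩
      rw [map_mul, map_pow, map_mul, map_inv, map_mul, map_mul, map_inv, hbz]
      rw [← hzt, mul_inv_cancel_right, inv_mul_cancel, one_pow, mul_one]
    -- the abelian `r`-group `R = ⟨z, h⟩`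
    set R : Subgroup ρ.range := Subgroup.closure {z, π h'} with hR
    have hRcomm : ∀ a ∈ R, a * z = z * a ∧ a * π h' = π h' * a := by
      intro a ha
      have h1 : R ≤ centralizer {z} ⊓ centralizer {π h'} := by
        rw [hR, Subgroup.closure_le]
        rintro _ (rfl | rfl)
        · exact ⟨mem_centralizer_singleton_iff.2 rfl, mem_centralizer_singleton_iff.2 hzh⟩
        · exact ⟨mem_centralizer_singleton_iff.2 hzh.symm, mem_centralizer_singleton_iff.2 rfl⟩
      have h2 := h1 ha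
      exact ⟨mem_centralizer_singleton_iff.1 h2.1, mem_centralizer_singleton_iff.1 h2.2⟩
    have hRr : ∀ a ∈ R, a ^ r = 1 := by
      intro a ha
      induction ha using Subgroup.closure_induction with
      | mem x hx =>
        rcases hx with rfl | rfl
        · exact hzr
        · exact hhr'
      | one => exact one_pow _
      | mul x y hx hy h1 h2 =>
        have hc : Commute x y := by
          have h3 : R ≤ centralizer {x} := by
            rw [hR, Subgroup.closure_le]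
            rintro _ (rfl | rfl)
            · exact mem_centralizer_singleton_iff.2 (hRcomm x hx).1.symm
            · exact mem_centralizer_singleton_iff.2 (hRcomm x hx).2.symm
          exact (mem_centralizer_singleton_iff.1 (h3 hy)).symm
        rw [hc.mul_pow, h1, h2, one_mul]
      | inv x hx h1 => rw [inv_pow, h1, inv_one]
    have hRp : IsPGroup r R := fun a => ⟨1, Subtype.ext (by rw [pow_one]; exact hRr a a.2)⟩
    -- its preimage in `D`
    set S : Subgroup M := R.comap π ⊓ D.subgroupOf M with hS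
    have hSR : S.map π = R := by
      apply le_antisymm
      · rintro _ ⟨s, hs, rfl⟩
        exact hs.1
      · rw [hR, Subgroup.closure_le]
        rintro _ (rfl | rfl)
        · refine ⟨c, ⟨?_, hcD⟩, hcz⟩
          show π c ∈ R
          rw [hcz]
          exact _root_.Subgroup.subset_closure (by simp)
        · exact ⟨h', ⟨_root_.Subgroup.subset_closure (by simp), H.hD⟩, rfl⟩
    obtain ⟨T⟩ : Nonempty (Sylow r S) := inferInstance
    let f : S →* R := (π.comp S.subtype).codRestrict R (fun s => s.2.1)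
    have hf : Function.Surjective f := by
      rintro ⟨a, ha⟩
      rw [← hSR] at ha
      obtain ⟨s, hs, rfl⟩ := ha
      exact ⟨⟨s, hs⟩, rfl⟩
    have hTtop : (T : Subgroup S).map f = ⊤ :=
      ((T.mapSurjective hf).is_maximal' (hRp.of_equiv Subgroup.topEquiv.symm) le_top).symm
    have hTcyc : IsCyclic T := by
      have hinj : Function.Injective (M.subtype.comp S.subtype) :=
        M.subtype_injective.comp S.subtype_injective
      have h1 : IsCyclic ((T : Subgroup S).map (M.subtype.comp S.subtype)) := by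
        refine X.cyc _ ?_ (T.isPGroup'.map _)
        rintro _ ⟨s, hs, rfl⟩
        exact s.2.2
      exact isCyclic_of_surjective
        ((T : Subgroup S).equivMapOfInjective _ hinj).symm.toMonoidHom
        ((T : Subgroup S).equivMapOfInjective _ hinj).symm.surjective
    have hRcyc : IsCyclic R := by
      refine isCyclic_of_surjective (f.comp (T : Subgroup S).subtype) ?_
      intro a
      have ha : a ∈ (T : Subgroup S).map f := by rw [hTtop]; exact mem_top a
      obtain ⟨s, hs, hsa⟩ := ha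
      exact ⟨⟨s, hs⟩, hsa⟩
    have hzR : z ∈ R := _root_.Subgroup.subset_closure (by simp)
    have hhR : π h' ∈ R := _root_.Subgroup.subset_closure (by simp)
    have h1 := mem_zpowers_of_cyclic (C := R) (z := ⟨z, hzR⟩) (h := ⟨π h', hhR⟩) H.hr
      (Subtype.ext hzr) (Subtype.ext hhr') (fun h2 => hh1' (congrArg Subtype.val h2))
    obtain ⟨k, hk⟩ := mem_zpowers_iff.1 h1
    exact mem_zpowers_iff.2 ⟨k, congrArg Subtype.val hk⟩
  let _ : CommGroup V :=
    { (inferInstance : Group V) with mul_comm := fun a b => Subtype.ext (hVc a a.2 b b.2) }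
  exact NoFieldThreeMod.mt (Γ := ρ.range) (V := V) ρ.range.subtype ρ.range.subtype_injective
    (fun v => Subtype.ext (hV3 v v.2)) hO3 O hOodd hOsol (π t') hπt
    (by
      intro g
      obtain ⟨m, rfl⟩ := hπs g
      rcases hB2 m m.2 with h1 | h1
      · exact Or.inl ⟨m, h1, rfl⟩
      · refine Or.inr ⟨t' * m, h1, ?_⟩
        rw [map_mul])
    H.hr X.rn X.ord hcard (π h') ⟨h', hDB H.hD, rfl⟩ hhr' hh1'
    (by rw [← map_mul, ← map_mul]; exact congrArg π (Subtype.ext H.th.symm))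
    (by
      intro v hv
      refine Subtype.ext (show (v : G) = 1 from hfixV v v.2 ?_)
      have h2 := hval h' v
      have h3 : ((π h' : ρ.range) : MulAut V) v = v := hv
      rw [h3] at h2
      exact h2.symm)
    hOD ((U.subgroupOf M).map π)
    (by
      rintro _ ⟨y, hy, rfl⟩
      exact ⟨y, hDB (H.UD hy), rfl⟩)
    ((H.U3.comap_of_injective M.subtype M.subtype_injective).map π)
    (by
      rintro _ ⟨y, hy, rfl⟩
      refine ⟨h' * y * h'⁻¹, H.Dnorm H.hD hy, ?_⟩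
      rw [map_mul, map_mul, map_inv])
    (π ⟨x, hxM⟩) hxY'
    (by rw [← map_mul, ← map_mul]; exact congrArg π (Subtype.ext (H.cE x (H.DE hxD))))
    (π ⟨u, huM⟩) (π ⟨d, hdM⟩) ⟨⟨u, huM⟩, hu, rfl⟩
    (by rw [← map_mul]; exact congrArg π (Subtype.ext hxud)) s
    (by
      rw [← map_mul, ← map_inv, ← map_mul, ← map_pow]
      exact congrArg π (Subtype.ext hds)) hs

end

end Cfsg.Agent.Walter.NoFieldThree
end

-- part: Walter/NoFieldThreeExt
section
/-!
# The model side of "no field automorphisms", `p = 3`: the structure `NoFieldThree.Ext`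
-/

set_option autoImplicit false

namespace Cfsg.Agent.Walter.NoFieldThreeMdl

open Subgroup Matrix Matrix.SpecialLinearGroup
open Cfsg.Agent.ClassicalGeometry.SplitTorus (mul00 mul01 mul10 mul11 inv00 inv01 inv10 inv11 det_eq ext2 dg wl up lo
  dg00 dg01 dg10 dg11 wl00 wl01 wl10 wl11 up00 up01 up10 up11 lo00 lo01 lo10 lo11 dg_mul dg_one dg_inv dgHom
  up_add up_zero up_neg dg_conj_up wl_mul_up mem_of_up_lo)
open Cfsg.Agent.ClassicalGeometry.AutPSL.Auto (fld coe_fld_apply)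
open Cfsg.Agent.Walter.FieldPSL (Fix mem_Fix card_eq_Fix_pow)
open Cfsg.Agent.Walter.NoFieldThree (Ext)

variable {G : Type*} [Group G] {F : Type*} [Field F] {E Φ : Subgroup G}
  {κ : _root_.Matrix.SpecialLinearGroup (Fin 2) F →* G} {τ : Φ →* (F ≃+* F)}

namespace Mdl

/-- the elements of `D` which are cubes modulo `κ(SL)` -/
def D1 (M : Mdl E Φ κ τ) : Subgroup G where
  carrier := {g | g ∈ D E κ ∧ ∃ x, ∃ y : Φ, g = κ x * ((y ^ 3 : Φ) : G)}
  one_mem' := ⟨one_mem _, 1, 1, by simp only [_root_.map_one, _root_.one_pow, _root_.OneMemClass.coe_one, _root_.mul_one]⟩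
  mul_mem' := by
    rintro _ _ ⟨h1, x, y, rfl⟩ ⟨h2, x', y', rfl⟩
    refine ⟨mul_mem h1 h2, x * fld (τ (y ^ 3)) x', y * y', ?_⟩
    have h3 : Commute y y' := M.comm y y'
    rw [M.mul, h3.mul_pow]
  inv_mem' := by
    rintro _ ⟨h1, x, y, rfl⟩
    refine ⟨inv_mem h1, fld (τ (y ^ 3)⁻¹) x⁻¹, y⁻¹, ?_⟩
    rw [M.inv, inv_pow]

variable (M : Mdl E Φ κ τ)
include M

theorem D3 {d : G} (hd : d ∈ D E κ) : d ^ 3 ∈ M.D1 := by
  obtain ⟨x, y, rfl⟩ := M.fac d (mem_D.1 hd).1
  obtain ⟨x', hx'⟩ := M.pow x y 3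
  exact ⟨pow_mem hd 3, x', y, hx'⟩

theorem Dc {d d' : G} (hd : d ∈ D E κ) (hd' : d' ∈ D E κ) : d * d' * d⁻¹ * d'⁻¹ ∈ M.D1 := by
  refine ⟨mul_mem (mul_mem (mul_mem hd hd') (inv_mem hd)) (inv_mem hd'), ?_⟩
  obtain ⟨x, y, rfl⟩ := M.fac d (mem_D.1 hd).1
  obtain ⟨x', y', rfl⟩ := M.fac d' (mem_D.1 hd').1
  obtain ⟨z, hz⟩ := M.conj x x' y y'
  refine ⟨z * fld (τ y') (fld (τ y'⁻¹) x'⁻¹), 1, ?_⟩
  rw [hz, M.inv, M.mul, mul_inv_cancel, one_pow]

theorem Φ_le_D {y : G} (hy : y ∈ Φ) : y ∈ D E κ := by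
  have h1 : κ 1 * ((⟨y, hy⟩ : Φ) : G) ∈ D E κ := by
    rw [M.mem_D_iff]
    simp
  rwa [map_one, one_mul] at h1

theorem Dne [Finite G] (h3 : 3 ∣ Nat.card Φ) : ¬ D E κ ≤ M.D1 := by
  intro hle
  have h3F : Fact (Nat.Prime 3) := ⟨Nat.prime_three⟩
  have hsurj : Function.Surjective (fun y : Φ => y ^ 3) := by
    intro y
    obtain ⟨-, x, z, hz⟩ := hle (M.Φ_le_D y.2)
    have h1 : κ 1 * ((y : Φ) : G) = κ x * ((z ^ 3 : Φ) : G) := by rw [map_one, one_mul, hz]
    exact ⟨z, (M.unique h1).2.symm⟩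
  have hinj := Finite.injective_iff_surjective.2 hsurj
  obtain ⟨g, hg⟩ := exists_prime_orderOf_dvd_card' (G := Φ) 3 h3
  have h1 : g ^ 3 = 1 := by rw [← hg]; exact pow_orderOf_eq_one g
  have h2 : g = 1 := hinj (by show g ^ 3 = 1 ^ 3; rw [h1, one_pow])
  rw [h2, orderOf_one] at hg
  omega

theorem conj_dg (c ζ : Fˣ) (y : Φ) :
    (κ (dg c) * y) * κ (dg ζ) * (κ (dg c) * y)⁻¹ = κ (dg (Units.map (τ y : F →* F) ζ)) := by
  have h1 : (κ (dg c) * y) * κ (dg ζ) * (κ (dg c) * y)⁻¹ =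
      κ (dg c) * ((y : G) * κ (dg ζ) * (y : G)⁻¹) * (κ (dg c))⁻¹ := by group
  rw [h1, M.act, M.fld_dg, ← map_inv, ← map_mul, ← map_mul, ← dg_mul, mul_comm c, dg_mul,
    mul_inv_cancel_right]

theorem act_pow [Finite F] {n : ℕ} (hF : Nat.card F = 3 ^ n) {r : ℕ}
    (hord : ∀ j, r ∣ 3 ^ j - 1 → n ∣ j) {ζ : Fˣ} (hζ : orderOf ζ = r) (c : Fˣ) (y : Φ) :
    ∃ s : ℕ, (κ (dg c) * y) * κ (dg ζ) * (κ (dg c) * y)⁻¹ = κ (dg ζ) ^ s ∧
      (s ^ 2 ≡ 1 [MOD r] → y = 1) := by
  obtain ⟨s, hs⟩ := exists_pow_eq (ζ := ζ) (τ y)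
  have hs' : Units.map (τ y : F →* F) ζ = ζ ^ s := Units.ext (by
    rw [Units.val_pow_eq_pow_val]; exact hs)
  refine ⟨s, ?_, ?_⟩
  · rw [M.conj_dg, hs', ← map_pow]
    congr 1
    exact map_pow (dgHom F) ζ s
  · intro h
    have h1 : τ y (τ y (ζ : F)) = ζ := by
      rw [hs, map_pow, hs, ← pow_mul, ← pow_two, ← Units.val_pow_eq_pow_val]
      congr 1
      have h2 := pow_eq_pow_iff_modEq (x := ζ) (m := 1) (n := s ^ 2)
      rw [hζ] at h2
      have h3 := h2.2 h
      rw [pow_one] at h3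
      exact h3
    exact M.inj (by rw [eq_one_of_sq_fix hF hord hζ (M.odd_tau y) h1, map_one])

theorem diag_unique {b b' : F} {c c' : Fˣ} (h : κ (up b * dg c) = κ (up b' * dg c')) :
    c ^ 2 = c' ^ 2 := by
  have h0 : ∀ (b : F) (c : Fˣ), (up b * dg c : _root_.Matrix.SpecialLinearGroup (Fin 2) F) 0 0 = c := by
    intro b c
    rw [mul00, up00, up01, dg00, dg10]; ring
  rcases M.eq_iff.1 h with h | h
  · have h1 := congrArg (fun A : _root_.Matrix.SpecialLinearGroup (Fin 2) F => A 0 0) h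
    simp only [h0] at h1
    rw [Units.ext h1]
  · have h1 := congrArg (fun A : _root_.Matrix.SpecialLinearGroup (Fin 2) F => A 0 0) h
    simp only [neg00, h0] at h1
    apply Units.ext
    rw [Units.val_pow_eq_pow_val, Units.val_pow_eq_pow_val, h1]
    ring

theorem cyc [Finite G] [Finite F] {n : ℕ} (hF : Nat.card F = 3 ^ n) (hn : Odd n) {r : ℕ} (hr : r.Prime)
    (hrn : n < r) (hr3 : r ≠ 3) (R : Subgroup G) (hRD : R ≤ D E κ) (hR : IsPGroup r R) :
    IsCyclic R := by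
  have hn0 : n ≠ 0 := by
    rintro rfl
    have := Finite.one_lt_card (α := F)
    omega
  have hrep : ∀ g : R, ∃ (b : F) (c : Fˣ), (g : G) = κ (up b * dg c) := by
    intro g
    obtain ⟨x, y, hxy⟩ := M.fac g (mem_D.1 (hRD g.2)).1
    have hD := hRD g.2
    rw [hxy] at hD
    have h10 := M.mem_D_iff.1 hD
    have hy : y = 1 := by
      obtain ⟨k, hk⟩ := hR g
      have h1 : (κ x * y) ^ r ^ k = 1 := by rw [← hxy]; exact congrArg Subtype.val hk
      obtain ⟨x', hx'⟩ := M.pow x y (r ^ k)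
      rw [h1] at hx'
      have h2 : κ 1 * ((1 : Φ) : G) = κ x' * ((y ^ r ^ k : Φ) : G) := by
        rw [← hx', map_one, Subgroup.coe_one, one_mul]
      have h3 := (M.unique h2).2
      have h4 : orderOf y ∣ r ^ k := orderOf_dvd_of_pow_eq_one h3.symm
      have h5 : orderOf y ∣ n := by
        rw [← orderOf_injective τ M.inj]
        exact orderOf_dvd hF (τ y)
      obtain ⟨j, -, hj⟩ := (Nat.dvd_prime_pow hr).1 h4
      rcases Nat.eq_zero_or_pos j with h0 | h0
      · rw [h0, pow_zero] at hj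
        exact orderOf_eq_one_iff.1 hj
      · exfalso
        have h6 : r ∣ n := (hj ▸ dvd_pow_self r h0.ne').trans h5
        have := Nat.le_of_dvd (Nat.pos_of_ne_zero hn0) h6
        omega
    obtain ⟨b, c, hbc, -⟩ := upper_eq h10
    exact ⟨b, c, by rw [hxy, hy, Subgroup.coe_one, mul_one, hbc]⟩
  choose b c hbc using hrep
  have hmul : ∀ (b b' : F) (c c' : Fˣ), κ (up b * dg c) * κ (up b' * dg c') =
      κ (up (b + (c : F) ^ 2 * b') * dg (c * c')) := by
    intro b b' c c'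
    rw [← map_mul, up_add, ← dg_conj_up, dg_mul]
    congr 1
    group
  let f : R →* Fˣ := MonoidHom.mk' (fun g => c g ^ 2) (by
    intro g g'
    rw [← mul_pow]
    apply M.diag_unique (b := b (g * g')) (b' := b g + (c g : F) ^ 2 * b g')
    rw [← hmul, ← hbc, ← hbc, ← hbc]
    rfl)
  have hf : Function.Injective f := by
    rw [injective_iff_map_eq_one]
    intro g hg
    have h1 : c g ^ 2 = 1 := hg
    have h2 : κ (dg (c g)) = 1 := by
      apply M.sq_eq_neg_one_or (mul_self_ne hF hn)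
      rw [← map_mul, ← dg_mul, ← pow_two, h1, dg_one, map_one]
    have h3 : (g : G) = κ (up (b g)) := by rw [hbc g, map_mul, h2, mul_one]
    have h4 : g ^ 3 = 1 := by
      apply Subtype.ext
      have h5 : ((3 : ℕ) : F) = 0 := by
        have := charP_three hF
        exact CharP.cast_eq_zero F 3
      rw [Subgroup.coe_pow, h3, pow_succ, pow_two, ← map_mul, ← map_mul, ← up_add, ← up_add]
      have h6 : b g + b g + b g = 0 := by
        have : b g + b g + b g = ((3 : ℕ) : F) * b g := by push_cast; ring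
        rw [this, h5, zero_mul]
      rw [h6, up_zero, map_one]; rfl
    obtain ⟨k, hk⟩ := hR g
    have h5 : orderOf g ∣ Nat.gcd 3 (r ^ k) :=
      Nat.dvd_gcd (orderOf_dvd_of_pow_eq_one h4) (orderOf_dvd_of_pow_eq_one hk)
    have h6 : Nat.gcd 3 (r ^ k) = 1 :=
      Nat.Coprime.pow_right k ((Nat.coprime_primes Nat.prime_three hr).2 (Ne.symm hr3))
    rw [h6, Nat.dvd_one, orderOf_eq_one_iff] at h5
    exact h5
  exact isCyclic_of_injective f hf

end Mdl

theorem Mdl.ext {G : Type*} [Group G] [Finite G] {F : Type*} [Field F] [Finite F] {E Φ : Subgroup G}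
    {κ : _root_.Matrix.SpecialLinearGroup (Fin 2) F →* G} {τ : Φ →* (F ≃+* F)} (M : Mdl E Φ κ τ)
    {n : ℕ} (hF : Nat.card F = 3 ^ n) (hn : Odd n) {r : ℕ} (hr : r.Prime) (hrn : 3 * n < r)
    (hord : ∀ j, r ∣ 3 ^ j - 1 → n ∣ j) {ζ : Fˣ} (hζ : orderOf ζ = r) (h3 : 3 ∣ Nat.card Φ) :
    ∃ (F₃ : Subgroup G) (φ : G), F₃ ≤ Φ ∧ Nat.card F₃ = 3 ^ (Nat.card Φ).factorization 3 ∧ φ ∈ Φ ∧
      φ ≠ 1 ∧ φ ^ 3 = 1 ∧
      ((∀ X : Subgroup G, IsPGroup 3 X → (∀ x ∈ X, x * φ = φ * x) →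
        Nat.card X ≤ Nat.card F₃ * 3 ^ n) →
        _root_.Cfsg.Agent.Walter.NoFieldThree.Ext (U κ) (D E κ) (κ (dg ζ)) r n M.D1 F₃ φ) := by
  have h3F : Fact (Nat.Prime 3) := ⟨Nat.prime_three⟩
  obtain ⟨P⟩ : Nonempty (Sylow 3 Φ) := inferInstance
  have hPc := P.card_eq_multiplicity
  have h3P : 3 ∣ Nat.card (P : Subgroup Φ) := by
    rw [hPc]
    apply dvd_pow_self
    intro h
    have := (Nat.Prime.factorization_pos_of_dvd Nat.prime_three Nat.card_pos.ne' h3)
    omega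
  obtain ⟨φ, hφ⟩ := exists_prime_orderOf_dvd_card' (G := (P : Subgroup Φ)) 3 h3P
  have hφ3 : φ ^ 3 = 1 := by
    have h1 := pow_orderOf_eq_one φ
    rwa [hφ] at h1
  have hφ1 : φ ≠ 1 := by
    rintro rfl
    rw [orderOf_one] at hφ
    omega
  have hcard : Nat.card ((P : Subgroup Φ).map Φ.subtype) = 3 ^ (Nat.card Φ).factorization 3 := by
    rw [Subgroup.card_map_of_injective (Subgroup.subtype_injective Φ)]
    exact hPc
  have hφG3 : (((φ : Φ) : G)) ^ 3 = 1 := by
    have h1 := congrArg (fun z : (P : Subgroup Φ) => ((z : Φ) : G)) hφ3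
    simpa only [_root_.SubmonoidClass.coe_pow, _root_.OneMemClass.coe_one] using h1
  refine ⟨(P : Subgroup Φ).map Φ.subtype, ((φ : Φ) : G), Subgroup.map_subtype_le _, hcard,
    (φ : Φ).2, ?_, hφG3, fun hX => ?_⟩
  · intro h
    exact hφ1 (Subtype.ext (Subtype.ext h))
  exact
    { D1D := fun g hg => hg.1
      D3 := fun d hd => M.D3 hd
      Dc := fun d hd d' hd' => M.Dc hd hd'
      Dne := M.Dne h3
      act := by
        intro x hxD hx1
        obtain ⟨a, y, rfl⟩ := M.fac x (mem_D.1 hxD).1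
        obtain ⟨b, c, hbc, -⟩ := upper_eq (M.mem_D_iff.1 hxD)
        obtain ⟨s, hs, hs2⟩ := M.act_pow hF hord hζ c y
        refine ⟨κ (up b), ⟨b, rfl⟩, κ (dg c) * y, s, ?_, hs, ?_⟩
        · rw [hbc, map_mul, mul_assoc]
        · intro h
          have h1 := hs2 h
          apply hx1
          refine ⟨hxD, a, 1, ?_⟩
          rw [h1, one_pow]
      F3 := P.isPGroup'.map _
      FD := by
        rintro _ ⟨f, hf, rfl⟩
        exact M.Φ_le_D f.2
      Fh := by
        rintro _ ⟨f, hf, rfl⟩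
        obtain ⟨s, hs, -⟩ := M.act_pow hF hord hζ 1 f
        rw [dg_one, map_one, one_mul] at hs
        show (f : G) * κ (dg ζ) * (f : G)⁻¹ ∈ _
        rw [hs]
        exact Subgroup.pow_mem _ (mem_zpowers _) s
      φF := ⟨φ, φ.2, rfl⟩
      φ3 := hφG3
      Fφ := by
        rintro _ ⟨f, hf, rfl⟩
        exact congrArg Subtype.val (M.comm f φ)
      card := hX
      rn := hrn
      ord := hord
      cyc := fun R hRD hR => M.cyc hF hn hr (by omega) (by
        rintro rfl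
        obtain ⟨m, rfl⟩ := hn
        omega) R hRD hR }

end Cfsg.Agent.Walter.NoFieldThreeMdl
end

-- part: Walter/NoFieldThreeNum
section
/-!
A primitive prime divisor `r` of `3 ^ n - 1`, `n` odd and divisible by `3`, is greater than `3 n`.
-/

set_option autoImplicit false

namespace Cfsg.Agent.Walter.NoFieldThreeNum

theorem exists_prime {n : ℕ} (hn : Odd n) (h3 : 3 ∣ n) :
    ∃ r : ℕ, r.Prime ∧ 3 * n < r ∧ r ∣ 3 ^ n - 1 ∧ ∀ j, r ∣ 3 ^ j - 1 → n ∣ j := by
  obtain ⟨m, hm⟩ := hn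
  obtain ⟨l, hl⟩ := h3
  obtain ⟨r, hr, h1, h2, h4⟩ := Lib.Zsigmondy.exists_primitive (a := 3) (n := n) (by norm_num)
    (by omega) (by omega) (by omega)
  refine ⟨r, hr, ?_, (h1 n).2 dvd_rfl, fun j hj => (h1 j).1 hj⟩
  have hrF : Fact r.Prime := ⟨hr⟩
  have h3F : Fact (Nat.Prime 3) := ⟨Nat.prime_three⟩
  have hr2 : r ≠ 2 := by
    rintro rfl
    have h5 : n ∣ 1 := h2
    have := Nat.dvd_one.1 h5
    omega
  have hrodd := hr.odd_of_ne_two hr2
  obtain ⟨k, hk⟩ := h2
  have hk0 : k ≠ 0 := by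
    rintro rfl
    have := hr.two_le
    omega
  have hk1 : Even k := by
    rw [← Nat.not_odd_iff_even]
    rintro ⟨c, hc⟩
    obtain ⟨d, hd⟩ := hrodd
    have h5 : n * k = 2 * (m * k + c) + 1 := by rw [hm, hc]; ring
    omega
  obtain ⟨c, hc⟩ := hk1
  have hrc : r = 2 * (n * c) + 1 := by
    have h5 : n * k = 2 * (n * c) := by rw [hc]; ring
    have := hr.two_le
    omega
  rcases Nat.lt_or_ge c 2 with hc2 | hc2
  · exfalso
    have hc1 : c = 1 := by omega
    subst hc1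
    rw [mul_one] at hrc
    -- `r = 2 n + 1`
    have hr4 : r % 4 = 3 := by (clear * - hm hrc; omega)
    have hr3 : r % 3 = 1 := by (clear * - hl hrc; omega)
    have h5 : ((3 : ℕ) : ZMod r) ^ n = 1 := by
      have h6 := (h1 n).2 dvd_rfl
      rw [Lib.Zsigmondy.dvd_pow_sub_one_iff (by norm_num), orderOf_dvd_iff_pow_eq_one] at h6
      exact h6
    have h30 : ((3 : ℕ) : ZMod r) ≠ 0 := by
      intro h
      exact h4 ((ZMod.natCast_eq_zero_iff 3 r).1 h)
    have h7 : IsSquare ((3 : ℕ) : ZMod r) := by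
      rw [ZMod.euler_criterion r h30]
      have h8 : r / 2 = n := by (clear * - hrc; omega)
      rw [h8]
      exact h5
    have h8 := (ZMod.exists_sq_eq_prime_iff_of_mod_four_eq_three (p := r) (q := 3) hr4 (by norm_num)
      (by omega)).1 h7
    apply h8
    have h9 : ((r : ℕ) : ZMod 3) = 1 := by
      have : ((r : ℕ) : ZMod 3) = ((1 : ℕ) : ZMod 3) := by
        rw [ZMod.natCast_eq_natCast_iff]
        exact hr3
      simpa only [_root_.Nat.cast_one] using this
    rw [h9]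
    exact ⟨1, by ring⟩
  · have h5 : n * 2 ≤ n * c := Nat.mul_le_mul_left n hc2
    (clear * - hrc h5; omega)

end Cfsg.Agent.Walter.NoFieldThreeNum
end

-- part: Walter/NoFieldThreeInst
section
/-!
# The model side of "no field automorphisms", `p = 3`: the instance

`K ≅ PSL(2, 3 ^ n)`, `Φ` a group of field automorphisms of order divisible by `3`, `C(t) = ⟨t⟩ × K Φ`: the data of
`NoFieldThree.Hyp` and `NoFieldThree.Ext`.
-/

set_option autoImplicit false

namespace Cfsg.Agent.Walter.NoFieldThreeInst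

open Subgroup Matrix
open Cfsg.Agent.ClassicalGeometry.AutPSL.Auto (fld lift lift_pr)
open Cfsg.Agent.ClassicalGeometry.AutPSL.Root (pr pr_surjective)
open Cfsg.Agent.Walter.QdAbelian (AbTwo)
open Cfsg.Agent.Walter.NoFieldThree (Hyp Ext)
open Cfsg.Agent.Walter.NoFieldThreeMdl

theorem mem_sup {G : Type*} [Group G] {K Φ : Subgroup G}
    (hΦK : ∀ y ∈ Φ, ∀ k ∈ K, y * k * y⁻¹ ∈ K) {g : G} :
    g ∈ K ⊔ Φ ↔ ∃ k ∈ K, ∃ y ∈ Φ, g = k * y := by
  constructor
  · intro hg
    let S : Subgroup G :=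
      { carrier := {g | ∃ k ∈ K, ∃ y ∈ Φ, g = k * y}
        one_mem' := ⟨1, one_mem _, 1, one_mem _, by rw [one_mul]⟩
        mul_mem' := by
          rintro _ _ ⟨k, hk, y, hy, rfl⟩ ⟨k', hk', y', hy', rfl⟩
          exact ⟨k * (y * k' * y⁻¹), mul_mem hk (hΦK y hy k' hk'), y * y', mul_mem hy hy', by group⟩
        inv_mem' := by
          rintro _ ⟨k, hk, y, hy, rfl⟩
          refine ⟨y⁻¹ * k⁻¹ * y⁻¹⁻¹, hΦK _ (inv_mem hy) _ (inv_mem hk), y⁻¹, inv_mem hy, by group⟩ }
    have h1 : K ⊔ Φ ≤ S := sup_le (fun k hk => ⟨k, hk, 1, one_mem _, by rw [mul_one]⟩)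
      (fun y hy => ⟨1, one_mem _, y, hy, by rw [one_mul]⟩)
    exact h1 hg
  · rintro ⟨k, hk, y, hy, rfl⟩
    exact mul_mem (mem_sup_left hk) (mem_sup_right hy)

theorem inst {G : Type*} [Group G] [Finite G] {F : Type*} [Field F] [Finite F] {t : G}
    {K Φ : Subgroup G} (e : K ≃* Matrix.ProjectiveSpecialLinearGroup (Fin 2) F)
    (τ : Φ →* (F ≃+* F)) (hinj : Function.Injective τ)
    (act : ∀ (y : Φ) (k : G) (hk : k ∈ K) (h : (y : G) * k * (y : G)⁻¹ ∈ K),
      e ⟨(y : G) * k * (y : G)⁻¹, h⟩ = lift (fld (τ y)) (e ⟨k, hk⟩))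
    (hΦK : ∀ y ∈ Φ, ∀ k ∈ K, y * k * y⁻¹ ∈ K) (hdis : ∀ y ∈ Φ, y ∈ K → y = 1) {n : ℕ}
    (hcard : Nat.card F = 3 ^ n) (hn : Odd n) (hcomm : ∀ a ∈ Φ, ∀ b ∈ Φ, a * b = b * a)
    (hodd : Odd (Nat.card Φ)) (h3 : 3 ∣ Nat.card Φ) (ht : t * t = 1) (ht1 : t ≠ 1)
    (cent : ∀ g, g * t = t * g ↔ ∃ k ∈ K, ∃ y ∈ Φ, g = k * y ∨ g = t * (k * y))
    (htK : ∀ k ∈ K, ∀ y ∈ Φ, t ≠ k * y)
    (hconj : ∀ a : G, a * a = 1 → a ≠ 1 → ∃ g, g * t * g⁻¹ = a) (hab : AbTwo G) :
    ∃ (U D D1 F₃ : Subgroup G) (w h φ : G) (r : ℕ), φ ∈ Φ ∧ φ ≠ 1 ∧ φ ^ 3 = 1 ∧ F₃ ≤ Φ ∧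
      Nat.card F₃ = 3 ^ (Nat.card Φ).factorization 3 ∧ Hyp t (K ⊔ Φ) K U D w h r ∧
      ((∀ X : Subgroup G, IsPGroup 3 X → (∀ x ∈ X, x * φ = φ * x) →
        Nat.card X ≤ Nat.card F₃ * 3 ^ n) → _root_.Cfsg.Agent.Walter.NoFieldThree.Ext U D h r n D1 F₃ φ) := by
  have h3F : Fact (Nat.Prime 3) := ⟨Nat.prime_three⟩
  let κ : Matrix.SpecialLinearGroup (Fin 2) F →* G :=
    (K.subtype.comp e.symm.toMonoidHom).comp (pr : Matrix.SpecialLinearGroup (Fin 2) F →* _)
  have hκ : ∀ x, κ x = ((e.symm (pr x) : K) : G) := fun x => rfl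
  have hrange : κ.range = K := by
    ext k
    constructor
    · rintro ⟨x, rfl⟩
      exact (e.symm (pr x)).2
    · intro hk
      obtain ⟨x, hx⟩ := pr_surjective (e ⟨k, hk⟩)
      exact ⟨x, by rw [hκ, hx, e.symm_apply_apply]⟩
  have hmem : ∀ g, g ∈ K ⊔ Φ ↔ ∃ k ∈ K, ∃ y ∈ Φ, g = k * y := fun g => mem_sup hΦK
  have M : Mdl (K ⊔ Φ) Φ κ τ :=
    { ker := by
        intro x hx
        have h1 : e.symm (pr x) = 1 := Subtype.ext hx
        have h2 : pr x = 1 := by
          rw [← e.apply_symm_apply (pr x), h1, map_one]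
        exact ClassicalGeometry.PSL2Basic.mem_center_SL2_iff.1 ((QuotientGroup.eq_one_iff _).1 h2)
      neg := by
        have h2 : pr (-1 : Matrix.SpecialLinearGroup (Fin 2) F) = 1 :=
          (QuotientGroup.eq_one_iff _).2 (ClassicalGeometry.PSL2Basic.mem_center_SL2_iff.2 (Or.inr rfl))
        rw [hκ, h2, map_one]; rfl
      κE := fun x => mem_sup_left (e.symm (pr x)).2
      ΦE := le_sup_right
      fac := by
        intro g hg
        obtain ⟨k, hk, y, hy, rfl⟩ := (hmem g).1 hg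
        rw [← hrange] at hk
        obtain ⟨x, rfl⟩ := hk
        exact ⟨x, ⟨y, hy⟩, rfl⟩
      act := by
        intro y x
        have hkm : ((e.symm (pr x) : K) : G) ∈ K := (e.symm (pr x)).2
        have h1 := act y _ hkm (hΦK y y.2 _ hkm)
        rw [Subtype.coe_eta, e.apply_symm_apply, lift_pr] at h1
        rw [hκ, hκ, ← h1, e.symm_apply_apply]
      disj := fun x hx => hdis _ hx (e.symm (pr x)).2
      inj := hinj
      comm := fun a b => Subtype.ext (hcomm a a.2 b b.2)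
      odd := hodd }
  have h3n : 3 ∣ n := by
    obtain ⟨g, hg⟩ := exists_prime_orderOf_dvd_card' (G := Φ) 3 h3
    rw [← hg, ← orderOf_injective τ hinj]
    exact orderOf_dvd hcard (τ g)
  have hn1 : n ≠ 1 := by
    rintro rfl
    omega
  obtain ⟨r, hr, hrn, hr3, hord⟩ := NoFieldThreeNum.exists_prime hn h3n
  have hr2 : r ≠ 2 := by
    rintro rfl
    obtain ⟨m, rfl⟩ := hn
    omega
  have hrF : Fact r.Prime := ⟨hr⟩
  obtain ⟨ζ, hζ⟩ : ∃ ζ : Fˣ, orderOf ζ = r := by
    apply exists_prime_orderOf_dvd_card' r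
    rw [Nat.card_units, hcard]
    exact hr3
  obtain ⟨F₃, φ, hF1, hF2, hφ1, hφ2, hφ3, hext⟩ := M.ext hcard hn hr hrn hord hζ h3
  have hyp := M.hyp hcard hn hn1 hr hr2 hord hζ hab ht ht1 hconj
    (by
      intro g hg
      obtain ⟨k, hk, y, hy, rfl⟩ := (hmem g).1 hg
      exact (cent _).2 ⟨k, hk, y, hy, Or.inl rfl⟩)
    (by
      intro g hg
      obtain ⟨k, hk, y, hy, h | h⟩ := (cent g).1 hg
      · left
        rw [hmem]
        exact ⟨k, hk, y, hy, h⟩
      · right
        rw [hmem]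
        exact ⟨k, hk, y, hy, by rw [h, ← mul_assoc, ht, one_mul]⟩)
    (by
      intro hg
      obtain ⟨k, hk, y, hy, h⟩ := (hmem t).1 hg
      exact htK k hk y hy h)
  rw [hrange] at hyp
  exact ⟨_, _, _, F₃, _, _, φ, r, hφ1, hφ2, hφ3, hF1, hF2, hyp, hext⟩

end Cfsg.Agent.Walter.NoFieldThreeInst
end

-- part: Walter/NoFieldThreeEnd
section
/-!
# Simple groups with abelian Sylow 2-subgroups: no field automorphisms of order 3 in characteristic 3

The final form: in step (5), `K ≅ PSL(2, 3 ^ n)`, `3 ∣ |Φ|` is impossible.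
-/

set_option autoImplicit false

namespace Cfsg.Agent.Walter.NoFieldThreeEnd

open Subgroup Cfsg
open Cfsg.Agent.Walter.Types Cfsg.Agent.Walter.BalLocal Cfsg.Agent.Walter.Cover
open Cfsg.Agent.Walter.CentB (TypeB)
open Cfsg.Agent.Walter.FieldX Cfsg.Agent.Walter.FieldY Cfsg.Agent.Walter.FieldPSL
open Cfsg.Agent.Walter.FieldG
open Cfsg.Agent.Walter.Setup (Data)

universe u

open scoped commutatorElement

/-- a `3`-subgroup of a group of order `N m`, `3 ^ (n + 1) ∤ N` -/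
theorem card_le {G : Type*} [Group G] [Finite G] {X C : Subgroup G} (hX : IsPGroup 3 X) (hXC : X ≤ C)
    {N m n : ℕ} (hm : m ≠ 0) (hC : Nat.card C = N * m) (hN : ¬ 3 ^ (n + 1) ∣ N) :
    Nat.card X ≤ 3 ^ m.factorization 3 * 3 ^ n := by
  have h3 : Fact (Nat.Prime 3) := ⟨Nat.prime_three⟩
  obtain ⟨k, hk⟩ := IsPGroup.iff_card.1 hX
  have h1 : 3 ^ k ∣ N * m := by
    rw [← hk, ← hC]
    exact card_dvd_of_le hXC
  rw [hk, ← pow_add]
  apply Nat.pow_le_pow_right (by norm_num)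
  by_contra hlt
  push Not at hlt
  apply hN
  have h2 : 3 ^ (n + 1 + m.factorization 3) ∣ N * m := (pow_dvd_pow 3 (by omega)).trans h1
  have h4 : m = 3 ^ m.factorization 3 * (m / 3 ^ m.factorization 3) := (Nat.ordProj_mul_ordCompl_eq_self m 3).symm
  have h5 : (3 ^ (n + 1)).Coprime (m / 3 ^ m.factorization 3) :=
    Nat.Coprime.pow_left _ (Nat.coprime_ordCompl Nat.prime_three hm)
  rw [h4, pow_add] at h2
  have h6 : 3 ^ m.factorization 3 * 3 ^ (n + 1) ∣
      3 ^ m.factorization 3 * (N * (m / 3 ^ m.factorization 3)) := by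
    have e1 : N * (3 ^ m.factorization 3 * (m / 3 ^ m.factorization 3)) =
      3 ^ m.factorization 3 * (N * (m / 3 ^ m.factorization 3)) := by ring
    rw [← e1, mul_comm (3 ^ m.factorization 3) (3 ^ (n + 1))]
    rw [← h4] at h2 ⊢
    exact h2
  have h7 := (Nat.mul_dvd_mul_iff_left (by positivity)).1 h6
  exact h5.dvd_of_dvd_mul_right h7

/-- the order of a group of Ree type -/
theorem not_dvd_ree {m : ℕ} (hm : m ≠ 0) : ¬ 3 ^ (3 * m + 1) ∣ (3 ^ m) ^ 3 * ((3 ^ m) ^ 3 + 1) * (3 ^ m - 1) := by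
  obtain ⟨k, rfl⟩ := Nat.exists_eq_succ_of_ne_zero hm
  intro h
  have e1 : (3 ^ (k + 1)) ^ 3 = 3 ^ (3 * (k + 1)) := by rw [← pow_mul, mul_comm]
  rw [e1, mul_assoc, pow_succ] at h
  have h1 := (Nat.mul_dvd_mul_iff_left (by positivity)).1 h
  have h2 : 3 ∣ 3 ^ (k + 1) := dvd_pow_self 3 (by omega)
  have h3 : 3 ∣ 3 ^ (3 * (k + 1)) := dvd_pow_self 3 (by omega)
  have h4 : 0 < 3 ^ (k + 1) := by positivity
  rcases (Nat.Prime.dvd_mul Nat.prime_three).1 h1 with h5 | h5 <;> (clear * - h3 h5 h4; omega)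

theorem not_dvd_168 : ¬ 3 ^ (3 + 1) ∣ 168 := by norm_num

theorem not_dvd_1512 : ¬ 3 ^ (3 + 1) ∣ 1512 := by norm_num

/-- **No field automorphisms of order 3 in characteristic 3**, up to the order of the centralizer. -/
theorem main {G : Type u} [Group G] [Finite G] [IsSimpleGroup G] (hna : ∃ a b : G, a * b ≠ b * a)
    (hOS : OddSolvable.{u}) {S : Sylow 2 G} {t : G} (h : Data S t) {K : Subgroup (C t)}
    (hK : TypeB (S.subtype (h.le_centralizer h.mem)) K) (hW : _root_.Cfsg.Agent.Walter.Types.WType K)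
    {F : Type} [Field F] [Fintype F] (M : Model (S.subtype (h.le_centralizer h.mem)) K F) {n : ℕ}
    (hF : Nat.card F = 3 ^ n) (hn : Odd n) (h3 : 3 ∣ Nat.card (PhiG S))
    (hN : ∀ φ ∈ PhiG S, φ ≠ 1 → φ ^ 3 = 1 → ∃ N, Nat.card (centralizer ({φ} : Set G)) = N * Nat.card (PhiG S) ∧
      ¬ 3 ^ (n + 1) ∣ N) : False := by
  obtain ⟨g⟩ := NoFieldThreeTr.exists_gModel h hK hW M
  have hodd : Odd (Nat.card (PhiG S)) := Nat.not_even_iff_odd.1 fun he => PhiG_odd S he.two_dvd
  have hab : QdAbelian.AbTwo G := QdAbelian.abTwo_of_sylow S h.comm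
  have hcent : ∀ x, x * t = t * x ↔ ∃ k ∈ K.map (C t).subtype, ∃ y ∈ PhiG S, x = k * y ∨ x = t * (k * y) := by
    intro x
    refine ⟨g.cent x, ?_⟩
    have h1 : ∀ k ∈ K.map (C t).subtype, ∀ y ∈ PhiG S, (k * y) * t = t * (k * y) := by
      intro k hk y hy
      rw [mul_assoc, g.tΦ y hy, ← mul_assoc, g.tK k hk, mul_assoc]
    rintro ⟨k, hk, y, hy, rfl | rfl⟩
    · exact h1 k hk y hy
    · rw [mul_assoc, h1 k hk y hy]
  have hconj : ∀ a : G, a * a = 1 → a ≠ 1 → ∃ x, x * t * x⁻¹ = a := by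
    intro a ha ha1
    obtain ⟨x, hx⟩ := FieldZero.exists_conj h (s := a) (orderOf_eq_prime (by rw [pow_two, ha]) ha1)
    exact ⟨x, hx.symm⟩
  obtain ⟨U, D, D1, F₃, w, h', φ, r, hφ, hφ1, hφ3, hF3, hF3c, hyp, hext⟩ :=
    NoFieldThreeInst.inst g.e g.τ g.inj g.act g.norm g.dis hF hn g.comm hodd h3 g.tt g.t1 hcent g.tE hconj hab
  have X := hext (by
    intro X hX hXφ
    obtain ⟨N, hN1, hN2⟩ := hN φ hφ hφ1 hφ3
    rw [hF3c]
    refine card_le hX ?_ Nat.card_pos.ne' hN1 hN2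
    intro x hx
    exact mem_centralizer_singleton_iff.2 (hXφ x hx))
  refine NoFieldThree.main hyp X ?_ ?_
  · intro Y hY
    exact hOS Y fun h2 => (Nat.not_even_iff_odd.2 hY) (even_iff_two_dvd.2 h2)
  · rcases (inferInstance : (commutator G).Normal).eq_bot_or_eq_top with h1 | h1
    · exfalso
      obtain ⟨a, b, hne⟩ := hna
      apply hne
      have h2 : ⁅a, b⁆ ∈ commutator G := by
        rw [_root_.commutator_def]
        exact commutator_mem_commutator (mem_top a) (mem_top b)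
      rw [h1, mem_bot] at h2
      exact commutatorElement_eq_one_iff_mul_comm.1 h2
    · exact h1

end Cfsg.Agent.Walter.NoFieldThreeEnd
end

-- part: Walter/NoFieldThreeFin
section
/-!
# Simple groups with abelian Sylow 2-subgroups: no field automorphisms of order 3 in characteristic 3

`NoFieldThreeEnd.main` together with the orders of the centralizers of the elements of `Φ` (`FieldTri.main`).
-/

set_option autoImplicit false

namespace Cfsg.Agent.Walter.NoFieldThreeFin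

open Subgroup Cfsg
open Cfsg.Agent.Walter.Types Cfsg.Agent.Walter.BalLocal Cfsg.Agent.Walter.Cover
open Cfsg.Agent.Walter.TypeSylow (card_sylow_JR)
open Cfsg.Agent.Walter.CentB (TypeB)
open Cfsg.Agent.Walter.FieldX Cfsg.Agent.Walter.FieldY Cfsg.Agent.Walter.FieldPSL
open Cfsg.Agent.Walter.FieldG
open Cfsg.Agent.Walter.Setup (Data)

universe u

/-- The orders of the centralizers of the elements of order 3 of `Φ`. -/
theorem card_C {G : Type u} [Group G] [Finite G] [IsSimpleGroup G] (hna : ∃ a b : G, a * b ≠ b * a)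
    (hind : TypeSylow.Ind.{u} (Nat.card G)) (hCT : Main.CentThm.{u}) {S : Sylow 2 G} {t : G}
    (H5 : Set5 S) (ht : t ∈ (S : Subgroup G)) (ht1 : t ≠ 1) {K : Subgroup (C t)}
    (hK : TypeB (S.subtype ((H5.data t ht ht1).le_centralizer ht)) K) (hW : _root_.Cfsg.Agent.Walter.Types.WType K)
    {F : Type} [Field F] [Fintype F] (h8 : Fintype.card F % 8 = 3 ∨ Fintype.card F % 8 = 5)
    (M : Model (S.subtype ((H5.data t ht ht1).le_centralizer ht)) K F) {n : ℕ}
    (hF : Nat.card F = 3 ^ n) {y : G} (hy : y ∈ PhiG S) (hy1 : y ≠ 1) (hy3 : y ^ 3 = 1) :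
    ∃ N, Nat.card (centralizer ({y} : Set G)) = N * Nat.card (PhiG S) ∧ ¬ 3 ^ (n + 1) ∣ N := by
  have h3f : Fact (Nat.Prime 3) := ⟨Nat.prime_three⟩
  have hord : orderOf y = 3 := orderOf_eq_prime hy3 hy1
  have hcard := M.card_eq (toPhi (H5.data t ht ht1) y hy)
  rw [orderOf_toPhi, hord] at hcard
  rcases FieldTri.main H5 hind ht ht1 hy (FieldE.C_lt hna hy1) hK hW h8 M with
    ⟨hq, -, hN | ⟨K1, -, -, -, -, hN⟩⟩ | ⟨hq, K1, -, hs, hK1, hJR, hcent, hN⟩
  · rw [hq] at hcard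
    have hn : n = 3 := Nat.pow_right_injective (le_refl 2 |>.trans (by norm_num) : 2 ≤ 3) (hF.symm.trans hcard)
    subst hn
    refine ⟨168, ?_, NoFieldThreeEnd.not_dvd_168⟩
    rw [← FieldCard.card_N H5, ← hN]
  · rw [hq] at hcard
    have hn : n = 3 := Nat.pow_right_injective (by norm_num : 2 ≤ 3) (hF.symm.trans hcard)
    subst hn
    exact ⟨1512, hN, NoFieldThreeEnd.not_dvd_1512⟩
  · refine ⟨Nat.card K1, hN, ?_⟩
    have hab : ∀ P : Sylow 2 K1, ∀ a b : P, a * b = b * a := by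
      intro P a b
      have hsq := (card_sylow_JR hJR P).2
      have h1 := hsq _ (a * b).2
      have h2 := hsq _ a.2
      have h3 := hsq _ b.2
      apply Subtype.ext
      change (a : K1) * b = b * a
      have h4 : (a : K1)⁻¹ = a := (inv_eq_of_mul_eq_one_left h2 :)
      have h5 : (b : K1)⁻¹ = b := inv_eq_of_mul_eq_one_left h3
      have h6 : ((a : K1) * b)⁻¹ = a * b := inv_eq_of_mul_eq_one_left h1
      rw [← h6, mul_inv_rev, h4, h5]
    obtain ⟨v, hv⟩ : ∃ v : K1, orderOf v = 2 := by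
      have : Fact (Nat.Prime 2) := ⟨Nat.prime_two⟩
      apply exists_prime_orderOf_dvd_card'
      obtain ⟨T⟩ : Nonempty (Sylow 2 K1) := inferInstance
      have h1 : Nat.card (T : Subgroup K1) ∣ Nat.card K1 := (T : Subgroup K1).card_subgroup_dvd_card
      rw [(card_sylow_JR hJR T).1] at h1
      omega
    classical
    let : Fintype (Fix (M.τ (toPhi (H5.data t ht ht1) y hy))) := Fintype.ofFinite _
    have hq' : 3 ≤ Fintype.card (Fix (M.τ (toPhi (H5.data t ht ht1) y hy))) := by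
      rw [← Nat.card_eq_fintype_card]; omega
    rcases hCT K1 hab (Fix (M.τ (toPhi (H5.data t ht ht1) y hy))) hq' v hv (hcent v hv) with
      ⟨m, hm, hm1, hm2⟩ | ⟨h4, -⟩
    · rw [← Nat.card_eq_fintype_card] at hm1
      rw [hm1, hF, ← pow_mul] at hcard
      have hn : n = (2 * m + 1) * 3 := Nat.pow_right_injective (by norm_num : 2 ≤ 3) hcard
      rw [hm2, hn, mul_comm (2 * m + 1) 3]
      exact NoFieldThreeEnd.not_dvd_ree (by omega)
    · exfalso
      rw [← Nat.card_eq_fintype_card] at h4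
      have h6 : Nat.card (Fix (M.τ (toPhi (H5.data t ht ht1) y hy))) ∣ 3 ^ n := by
        rw [← hF, hcard]
        exact dvd_pow_self _ (by norm_num)
      have h7 := (Nat.dvd_prime_pow Nat.prime_three).1 h6
      obtain ⟨j, -, hj⟩ := h7
      rcases Nat.eq_zero_or_pos j with rfl | hj0
      · omega
      · have h9 : 3 ∣ 3 ^ j := dvd_pow_self 3 hj0.ne'
        omega

/-- **No field automorphisms of order 3 in characteristic 3.** -/
theorem main {G : Type u} [Group G] [Finite G] [IsSimpleGroup G] (hna : ∃ a b : G, a * b ≠ b * a)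
    (hOS : OddSolvable.{u}) (hind : TypeSylow.Ind.{u} (Nat.card G)) (hCT : Main.CentThm.{u})
    {S : Sylow 2 G} {t : G} (H5 : Set5 S) (ht : t ∈ (S : Subgroup G)) (ht1 : t ≠ 1) {K : Subgroup (C t)}
    (hK : TypeB (S.subtype ((H5.data t ht ht1).le_centralizer ht)) K) (hW : _root_.Cfsg.Agent.Walter.Types.WType K)
    {F : Type} [Field F] [Fintype F] (h8 : Fintype.card F % 8 = 3 ∨ Fintype.card F % 8 = 5)
    (M : Model (S.subtype ((H5.data t ht ht1).le_centralizer ht)) K F) {n : ℕ}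
    (hF : Nat.card F = 3 ^ n) (h3 : 3 ∣ Nat.card (PhiG S)) : False := by
  have hn : Odd n := by
    rw [← Nat.not_even_iff_odd]
    rintro ⟨k, rfl⟩
    have h9 : Fintype.card F = 9 ^ k := by
      rw [← Nat.card_eq_fintype_card, hF, ← two_mul, pow_mul]
      norm_num
    have h10 : 9 ^ k % 8 = 1 := by
      rw [Nat.pow_mod]
      norm_num
    omega
  exact NoFieldThreeEnd.main hna hOS (H5.data t ht ht1) hK hW M hF hn h3 fun φ hφ hφ1 hφ3 =>
    card_C hna hind hCT H5 ht ht1 hK hW h8 M hF hφ hφ1 hφ3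

/-- the same with `3 ∣ |F|` -/
theorem main' {G : Type u} [Group G] [Finite G] [IsSimpleGroup G] (hna : ∃ a b : G, a * b ≠ b * a)
    (hOS : OddSolvable.{u}) (hind : TypeSylow.Ind.{u} (Nat.card G)) (hCT : Main.CentThm.{u})
    {S : Sylow 2 G} {t : G} (H5 : Set5 S) (ht : t ∈ (S : Subgroup G)) (ht1 : t ≠ 1) {K : Subgroup (C t)}
    (hK : TypeB (S.subtype ((H5.data t ht ht1).le_centralizer ht)) K) (hW : _root_.Cfsg.Agent.Walter.Types.WType K)
    {F : Type} [Field F] [Fintype F] (h8 : Fintype.card F % 8 = 3 ∨ Fintype.card F % 8 = 5)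
    (M : Model (S.subtype ((H5.data t ht ht1).le_centralizer ht)) K F)
    (hF : 3 ∣ Nat.card F) (h3 : 3 ∣ Nat.card (PhiG S)) : False := by
  obtain ⟨p, k, hp, hk, hpk⟩ := (isPrimePow_nat_iff _).1 (FiniteField.isPrimePow_card F)
  rw [← Nat.card_eq_fintype_card] at hpk
  have hp3 : 3 = p := by
    rw [← hpk] at hF
    exact (Nat.prime_dvd_prime_iff_eq Nat.prime_three hp).1 (Nat.prime_three.dvd_of_dvd_pow hF)
  subst hp3
  exact main hna hOS hind hCT H5 ht ht1 hK hW h8 M hpk.symm h3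

end Cfsg.Agent.Walter.NoFieldThreeFin
end

-- part: Walter/FieldMain
section
/-!
# No field automorphisms: `Φ = 1`

The case distinction over a prime `p` dividing `|Φ|`.
-/

set_option autoImplicit false
set_option linter.unusedSectionVars false
set_option linter.unusedVariables false

namespace Cfsg.Agent.Walter.FieldMain

open Subgroup Cfsg
open Cfsg.Agent.SignalizersComponents Cfsg.Agent.SignalizersComponents.Components
open Cfsg.Agent.Walter.Types Cfsg.Agent.Walter.BalLocal Cfsg.Agent.Walter.OddCoreIn Cfsg.Agent.Walter.Cover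
open Cfsg.Agent.Walter.CentB (TypeB)
open Cfsg.Agent.Walter.FieldX Cfsg.Agent.Walter.FieldY Cfsg.Agent.Walter.FieldPSL Cfsg.Agent.Walter.FieldG
open Cfsg.Agent.Walter.FieldCore Cfsg.Agent.Walter.FieldCard Cfsg.Agent.Walter.FieldQuot Cfsg.Agent.Walter.FieldTri
open Cfsg.Agent.Walter.Setup (Data)
open Cfsg.Agent.Walter.ReeTorus (Torus)

universe u

/-- the order of a simple group of Janko–Ree type -/
theorem order_of_isJR (hC : Cfsg.Agent.Walter.Main.CentThm.{u}) {H : Type u} [Group H] [Finite H]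
    (hs : IsSimpleGroup H) (hJR : IsJR H) {F : Type} [Field F] [Fintype F] (h5 : 5 ≤ Fintype.card F)
    (hc : ∀ v : H, orderOf v = 2 → Nonempty (centralizer ({v} : Set H) ≃*
      Multiplicative (ZMod 2) × Matrix.ProjectiveSpecialLinearGroup (Fin 2) F)) :
    (∃ m : ℕ, 1 ≤ m ∧ Fintype.card F = 3 ^ (2 * m + 1) ∧
      Nat.card H = (3 ^ (2 * m + 1)) ^ 3 * ((3 ^ (2 * m + 1)) ^ 3 + 1) * (3 ^ (2 * m + 1) - 1)) ∨
    (Fintype.card F = 5 ∧ Nat.card H = 175560) := by
  have hf : Fact (Nat.Prime 2) := ⟨Nat.prime_two⟩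
  obtain ⟨⟨S₀, hS₀, hS₀2⟩, -⟩ := hJR
  have hab : ∀ P : Sylow 2 H, ∀ a b : P, a * b = b * a :=
    Cfsg.Agent.Walter.Main.all_comm (S := S₀) (AutFacts.comm_of_sq S₀ hS₀2)
  obtain ⟨v, hv, hv1⟩ : ∃ v ∈ (S₀ : Subgroup H), v ≠ 1 := by
    refine (bot_or_exists_ne_one (S₀ : Subgroup H)).resolve_left ?_
    intro h1
    rw [h1, card_bot] at hS₀
    norm_num at hS₀
  have hv2 : orderOf v = 2 := orderOf_eq_prime (by rw [pow_two]; exact hS₀2 v hv) hv1
  rcases hC H hab F (by omega) v hv2 (hc v hv2) with h | ⟨h, hJ⟩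
  · exact Or.inl h
  · exact Or.inr ⟨by omega, hJ.2⟩

variable {G : Type u} [Group G] [Finite G] {S : Sylow 2 G}

/-- the fixed field of order `5` and `p = 5`: `Φ` has no elements of order `25` -/
theorem eq_one_of_five [IsSimpleGroup G] (hC : Cfsg.Agent.Walter.Main.CentThm.{u}) (hna : ∃ a b : G, a * b ≠ b * a)
    (hind : TypeSylow.Ind.{u} (Nat.card G)) (H5 : Set5 S) {t : G} (ht : t ∈ (S : Subgroup G)) (ht1 : t ≠ 1)
    {K : Subgroup (C t)} (hK : TypeB (S.subtype ((H5.data t ht ht1).le_centralizer ht)) K) (hW : _root_.Cfsg.Agent.Walter.Types.WType K)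
    {F : Type} [Field F] [Fintype F] (h8 : Fintype.card F % 8 = 3 ∨ Fintype.card F % 8 = 5)
    (M : Model (S.subtype ((H5.data t ht ht1).le_centralizer ht)) K F) {y : G} (hy : y ∈ PhiG S) {n : ℕ}
    (hyo : orderOf y = 5 ^ n) (hn : n ≠ 0)
    (hq : Nat.card (Fix (M.τ (toPhi (H5.data t ht ht1) y hy))) = 5) : n = 1 := by
  by_contra hn1
  set z : G := y ^ 5 ^ (n - 1) with hz
  have hzP : z ∈ PhiG S := pow_mem hy _
  have hzo : orderOf z = 5 := by
    rw [hz, orderOf_pow_of_dvd (pow_ne_zero _ (by norm_num)) (by rw [hyo]; exact pow_dvd_pow _ (Nat.sub_le _ _)), hyo,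
      Nat.pow_div (Nat.sub_le _ _) (by norm_num), show n - (n - 1) = 1 by omega, pow_one]
  have hz1 : z ≠ 1 := by
    intro h
    rw [h, orderOf_one] at hzo
    norm_num at hzo
  have e1 := M.card_eq (toPhi (H5.data t ht ht1) y hy)
  have e2 := M.card_eq (toPhi (H5.data t ht ht1) z hzP)
  rw [orderOf_toPhi] at e1 e2
  rw [hq, hyo] at e1
  rw [hzo] at e2
  have e3 : Nat.card (Fix (M.τ (toPhi (H5.data t ht ht1) z hzP))) = 5 ^ 5 ^ (n - 1) := by
    have h1 : (5 ^ 5 ^ (n - 1)) ^ 5 = Nat.card F := by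
      rw [e1, ← pow_mul, ← pow_succ, show n - 1 + 1 = n by omega]
    rw [e2] at h1
    exact (Nat.pow_left_injective (n := 5) (by norm_num) h1).symm
  have h25 : 5 ^ 5 ≤ 5 ^ 5 ^ (n - 1) := by
    refine Nat.pow_le_pow_right (by norm_num) ?_
    calc 5 = 5 ^ 1 := (pow_one 5).symm
      _ ≤ 5 ^ (n - 1) := Nat.pow_le_pow_right (by norm_num) (by omega)
  rcases FieldTri.main H5 hind ht ht1 hzP (FieldE.C_lt hna hz1) hK hW h8 M with ⟨h3, -⟩ | ⟨h5, K1, -, hK1s, -, hJR, hc, -⟩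
  · omega
  · have hfin : Fintype (Fix (M.τ (toPhi (H5.data t ht ht1) z hzP))) := Fintype.ofFinite _
    rw [Nat.card_eq_fintype_card] at h5 e3
    rcases order_of_isJR hC hK1s hJR h5 hc with ⟨m, -, hm, -⟩ | ⟨hm, -⟩
    · have h6 : 5 ∣ 3 ^ (2 * m + 1) := by
        rw [← hm, e3]
        exact dvd_pow_self 5 (pow_ne_zero _ (by norm_num))
      have h7 := (Nat.prime_dvd_prime_iff_eq (by norm_num) Nat.prime_three).1
        ((by norm_num : Nat.Prime 5).dvd_of_dvd_pow h6)
      omega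
    · omega

/-- **The main case distinction.** -/
theorem false_of_dvd (hNF : FieldTorus.NoFieldLocalThm.{u}) (hOS : OddSolvable.{u})
    (hC : Cfsg.Agent.Walter.Main.CentThm.{u}) (hR : Cfsg.Agent.ClassificationK.WalterIso.ReeThm.{u})
    [IsSimpleGroup G] (hna : ∃ a b : G, a * b ≠ b * a) (hind : TypeSylow.Ind.{u} (Nat.card G)) (H5 : Set5 S)
    {p : ℕ} (hp : p.Prime) (hpd : p ∣ Nat.card (PhiG S)) : False := by
  have hpf : Fact p.Prime := ⟨hp⟩
  have hp2 : p ≠ 2 := by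
    rintro rfl
    exact PhiG_odd S hpd
  obtain ⟨y, hy, hy1, hyp, hyd, hyi, -⟩ := FieldE.exists_gen H5 hpd
  have hG := FieldTorus.commutator_eq_top hna
  obtain ⟨t, ht, ht1⟩ := H5.ne
  obtain ⟨K, hK, hW⟩ := H5.typeB t ht ht1
  obtain ⟨F, i1, i2, h8, h5, ⟨M⟩⟩ := exists_model hK hW
  by_cases h33 : p = 3 ∧ 3 ∣ Nat.card F
  · obtain ⟨rfl, h3F⟩ := h33
    exact NoFieldThreeFin.main' hna hOS hind hC H5 ht ht1 hK hW h8 M h3F hpd
  -- the order of `y`
  obtain ⟨n, hyo, hn⟩ : ∃ n, orderOf y = p ^ n ∧ n ≠ 0 := by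
    obtain ⟨b, hb⟩ := hyp
    obtain ⟨e, -, he⟩ := (Nat.dvd_prime_pow hp).1 (orderOf_dvd_of_pow_eq_one hb)
    refine ⟨e, he, ?_⟩
    rintro rfl
    rw [pow_zero, orderOf_eq_one_iff] at he
    exact hy1 he
  have hPhi0 : Nat.card (PhiG S) ≠ 0 := Nat.card_pos.ne'
  have hval : padicValNat p (Nat.card (PhiG S)) = n := by
    have h1 : Nat.card (PhiG S) = Nat.card (PhiG S) / orderOf y * orderOf y := (Nat.div_mul_cancel hyd).symm
    have h2 : Nat.card (PhiG S) / orderOf y ≠ 0 := by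
      intro h0
      rw [h0, zero_mul] at h1
      exact hPhi0 h1
    rw [h1, padicValNat.mul h2 (orderOf_pos y).ne', padicValNat.eq_zero_of_not_dvd hyi, hyo,
      padicValNat.prime_pow, zero_add]
  have hcardF := M.card_eq (toPhi (H5.data t ht ht1) y hy)
  rw [orderOf_toPhi] at hcardF
  rcases FieldTri.main H5 hind ht ht1 hy (FieldE.C_lt hna hy1) hK hW h8 M with
    ⟨hq3, hPhi, hCy⟩ | ⟨hq5, K1, hK1n, hK1s, hK1na, hJR, hc, hcard⟩
  · -- the fixed field of order three
    have hC' : C y = normalizer ((S : Subgroup G) : Set G) ∨ Nat.card (C y) = 1512 * Nat.card (PhiG S) :=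
      hCy.imp_right fun ⟨K1, _, _, _, _, h⟩ => h
    have hp3 : p ≠ 3 := by
      rintro rfl
      apply h33
      refine ⟨rfl, ?_⟩
      rw [hcardF, hq3]
      exact dvd_pow_self 3 (orderOf_pos y).ne'
    by_cases hp7 : p = 7
    · subst hp7
      have hpK : ¬ 7 ∣ Nat.card K := by
        refine FieldNum.not_dvd_K h8 M (y := toPhi (H5.data t ht ht1) y hy) (n := n)
          (by rw [orderOf_toPhi, hyo]) ?_
        rw [hq3]; norm_num
      have hcy : Nat.card (C y) = Nat.card (⊤ : Subgroup (Q y)) * Nat.card (PhiG S) := by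
        rw [Subgroup.card_top, ← card_Q H5 hy, hPhi, Nat.card_zpowers]
      refine FieldTorus.main hNF hna hind H5 ht ht1 hK hW h8 M hp2 hy hy1 hyp hyi hpK (K1 := ⊤) inferInstance hcy ?_
      intro T
      let e : Q y ≃* (⊤ : Subgroup (Q y)) := Subgroup.topEquiv.symm
      let R : Sylow 7 (Q y) := T.mapSurjective (f := e.symm.toMonoidHom) e.symm.surjective
      have hR' : (R : Subgroup (Q y)) = (T : Subgroup _).map e.symm.toMonoidHom := Sylow.coe_mapSurjective _ T
      refine (FieldSeven.torus_seven H5 hy hPhi hC' R).map e ?_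
      rw [hR', Subgroup.map_map]
      have h1 : e.toMonoidHom.comp e.symm.toMonoidHom = MonoidHom.id _ := by
        ext x
        simp only [_root_.MulEquiv.toMonoidHom_eq_coe, _root_.MulEquiv.coe_monoidHom_comp_coe_monoidHom_symm, _root_.MonoidHom.id_apply]
      rw [h1, Subgroup.map_id]
    · exact FieldSmall.burnside_three hG H5 hp2 hp3 hp7 hy hy1 hyp hPhi hC'
  · -- the fixed field of order at least five
    have hfin : Fintype (Fix (M.τ (toPhi (H5.data t ht ht1) y hy))) := Fintype.ofFinite _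
    have hq5' : 5 ≤ Fintype.card (Fix (M.τ (toPhi (H5.data t ht ht1) y hy))) := by
      rw [← Nat.card_eq_fintype_card]; exact hq5
    have hN := order_of_isJR hC hK1s hJR hq5' hc
    have hmod := M.card_Fix_mod h8 (toPhi (H5.data t ht ht1) y hy)
    have hodd : Odd (Fintype.card (Fix (M.τ (toPhi (H5.data t ht ht1) y hy)))) := by
      rw [← Nat.card_eq_fintype_card, Nat.odd_iff]; omega
    by_cases hT : p ∣ Nat.card K1 ∧ ¬ p ∣ Fintype.card (Fix (M.τ (toPhi (H5.data t ht ht1) y hy))) *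
        (Fintype.card (Fix (M.τ (toPhi (H5.data t ht ht1) y hy))) ^ 2 - 1)
    · obtain ⟨hpK1, hpq⟩ := hT
      have hpK : ¬ p ∣ Nat.card K := by
        refine FieldNum.not_dvd_K h8 M (y := toPhi (H5.data t ht ht1) y hy) (n := n)
          (by rw [orderOf_toPhi, hyo]) ?_
        rw [Nat.card_eq_fintype_card]; exact hpq
      obtain ⟨v, hv⟩ : ∃ v : K1, orderOf v = 2 := by
        have hf : Fact (Nat.Prime 2) := ⟨Nat.prime_two⟩
        obtain ⟨⟨S₀, hS₀, hS₀2⟩, -⟩ := hJR
        obtain ⟨v, hv, hv1⟩ : ∃ v ∈ (S₀ : Subgroup K1), v ≠ 1 := by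
          refine (bot_or_exists_ne_one (S₀ : Subgroup K1)).resolve_left ?_
          intro h1
          rw [h1, card_bot] at hS₀
          norm_num at hS₀
        exact ⟨v, orderOf_eq_prime (by rw [pow_two]; exact hS₀2 v hv) hv1⟩
      obtain ⟨e⟩ := hc v hv
      have hcc := TorusJR.card_cent hodd e
      refine FieldTorus.main_JR hNF hC hR hna hind H5 ht ht1 hK hW h8 M hp2 hy hy1 hyp hyi hpK hK1n hK1s hK1na hJR
        hcard hpK1 hv ?_
      rw [hcc]
      intro h1
      apply hpq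
      have h3 : 1 ≤ Fintype.card (Fix (M.τ (toPhi (H5.data t ht ht1) y hy))) := Fintype.card_pos
      have h4 : Fintype.card (Fix (M.τ (toPhi (H5.data t ht ht1) y hy))) ^ 2 - 1 =
          (Fintype.card (Fix (M.τ (toPhi (H5.data t ht ht1) y hy))) - 1) *
          (Fintype.card (Fix (M.τ (toPhi (H5.data t ht ht1) y hy))) + 1) := by
        have h5 : 1 ≤ Fintype.card (Fix (M.τ (toPhi (H5.data t ht ht1) y hy))) ^ 2 := Nat.one_le_pow _ _ h3
        zify [h3, h5]
        ring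
      rw [h4, ← mul_assoc]
      exact h1
    · -- the transfer argument
      have hyp' := FieldHyp.hyp H5 ht ht1 hK hW h8 M hy hp hyo hn hval
      have hcard' : Nat.card (centralizer ({y} : Set G)) = Nat.card (PhiG S) * Nat.card K1 := by
        rw [mul_comm]; exact hcard
      refine hyp'.main hp hp2 hval hcard' hN ?_ ?_ ?_ (by rw [hG]; trivial)
      · rintro ⟨h1, h2⟩
        apply h33
        refine ⟨h1, ?_⟩
        rw [hcardF, Nat.card_eq_fintype_card]
        exact dvd_pow h2 (orderOf_pos y).ne'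
      · intro hqp
        rcases hN with ⟨m, hm1, hm, -⟩ | ⟨hm, -⟩
        · exfalso
          rw [hm] at hqp
          rw [← hqp] at hp
          have h1 := hp.eq_one_of_pow
          omega
        · rw [hm] at hqp
          subst hqp
          refine eq_one_of_five hC hna hind H5 ht ht1 hK hW h8 M hy hyo hn ?_
          rw [Nat.card_eq_fintype_card]; exact hm
      · intro h1
        by_contra h2
        exact hT ⟨h1, h2⟩

/-- **No field automorphisms.** -/
theorem noField (hNF : FieldTorus.NoFieldLocalThm.{u}) (hOS : OddSolvable.{u})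
    (hC : Cfsg.Agent.Walter.Main.CentThm.{u}) (hR : Cfsg.Agent.ClassificationK.WalterIso.ReeThm.{u}) :
    LastCase.NoFieldThm.{u} := by
  intro G _ _ _ hna S hind H5
  by_contra hne
  have h1 : Nat.card (PhiG S) ≠ 1 := by
    intro h
    exact hne (Subgroup.card_eq_one.1 h)
  obtain ⟨p, hp, hpd⟩ := Nat.exists_prime_and_dvd h1
  exact false_of_dvd hNF hOS hC hR hna hind H5 hp hpd

end Cfsg.Agent.Walter.FieldMain
end

private theorem dce_69b394abcaed : _root_.True := by
  try have : _root_.True := by simp only [_root_.Cfsg.Agent.Walter.FieldG.toPhi.congr_simp]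
  try have : _root_.True := by simp only [_root_.Cfsg.Agent.Walter.NoFieldThreeMdl.D.eq_1]
  exact _root_.True.intro
end

-- part: Walter/StepAll
section
prune_inst 0x212000000000020000008512100022040400009000230401c52103420200cb2005022f0009201103480022000001004000000060001000000000000000010000802a500203010104260009801080000000000000000000000000000000000000000000000
set_option linter.all false
open scoped Cfsg.Agent.FastGrp

-- part: Walter/BenderAll
section
/-!
# Bender's theorem in the forms used for abelian Sylow 2-subgroups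
-/

set_option autoImplicit false

namespace Cfsg.Agent.Walter.BenderAll

open Subgroup Cfsg
open Cfsg.Agent.Walter.Types

universe u

/-- The list of Bender's theorem, up to isomorphism (the text of `StrongEmb.Strong.result`). -/
def Concl (G : Type*) [Group G] : Prop :=
  (∃ (F : Type) (_ : Field F) (_ : Fintype F), (∃ n : ℕ, 2 ≤ n ∧ Fintype.card F = 2 ^ n) ∧
      Nonempty (G ≃* Matrix.ProjectiveSpecialLinearGroup (Fin 2) F)) ∨
    Cfsg.Lie.IsoSuzuki G ∨
    (∃ (F : Type) (_ : Field F) (_ : Fintype F) (n : ℕ), 2 ≤ n ∧ Fintype.card F = (2 ^ n) ^ 2 ∧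
      Nonempty (G ≃* Cfsg.PSU 3 F (2 ^ n)))

/-- Bender's theorem for simple groups, up to isomorphism, in the universe `u`. -/
def BenderAll : Prop :=
  ∀ (L : Type u) [Group L] [Finite L] [IsSimpleGroup L], (∃ a b : L, a * b ≠ b * a) →
    ∀ H : Subgroup L, IsStronglyEmbedded H → Concl L

/-- fields with `2 ^ n` elements have characteristic 2 -/
theorem charP_two {F : Type*} [Field F] [Fintype F] {n : ℕ} (hF : Fintype.card F = 2 ^ n) :
    CharP F 2 := by
  obtain ⟨p, hp⟩ := CharP.exists F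
  have hp' : p.Prime := (CharP.char_is_prime_or_zero F p).resolve_right
    (fun h0 => by subst h0; exact CharP.char_ne_zero_of_finite F 0 rfl)
  obtain ⟨k, hk1, hk2⟩ := FiniteField.card F p
  have : p = 2 := by
    have h1 : p ∣ 2 ^ n := by
      rw [← hF, hk2]
      exact dvd_pow_self p k.pos.ne'
    exact (Nat.prime_dvd_prime_iff_eq hp' Nat.prime_two).mp (hp'.dvd_of_dvd_pow h1)
  rwa [this] at hp

theorem four_le {n : ℕ} (hn : 2 ≤ n) : 4 ≤ 2 ^ n := by
  calc 4 = 2 ^ 2 := by norm_num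
    _ ≤ 2 ^ n := Nat.pow_le_pow_right (by norm_num) hn

theorem isSuzuki {G : Type*} [Group G] [IsSimpleGroup G] (h : Cfsg.Lie.IsoSuzuki G) :
    Cfsg.IsSuzuki G := by
  obtain ⟨F, hF1, hF2, m, hm, hF, ⟨e⟩⟩ := h
  refine ⟨inferInstance, m, hm, ?_⟩
  rw [Nat.card_congr e.toEquiv, (Cfsg.Agent.S1163.result hm hF).1]
  ring

theorem BenderAll.benderThm (hB : BenderAll.{u}) : BalLocal.BenderThm.{u} := by
  intro L _ _ _ hna M hM
  rcases hB L hna M hM with ⟨F, i1, i2, ⟨n, hn, hF⟩, he⟩ | h | ⟨F, i1, i2, n, hn, hF, he⟩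
  · exact Or.inl ⟨F, i1, i2, charP_two hF, by rw [hF]; exact four_le hn, he⟩
  · exact Or.inr (Or.inl (isSuzuki h))
  · exact Or.inr (Or.inr ⟨F, i1, i2, 2 ^ n, hF, Nat.even_pow.mpr ⟨even_two, by omega⟩,
      four_le hn, he⟩)

/-- A group in the list of Bender's theorem with abelian Sylow 2-subgroups is `PSL(2, 2^n)`. -/
theorem isEvenType_of_concl {L : Type*} [Group L] [Finite L] (h : Concl L)
    (S : Sylow 2 L) (hS : ∀ a ∈ (S : Subgroup L), ∀ b ∈ (S : Subgroup L), a * b = b * a) :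
    IsEvenType L := by
  have hc : IsMulCommutative (S : Subgroup L) := ⟨⟨fun a b => Subtype.ext (hS a a.2 b b.2)⟩⟩
  rcases h with ⟨F, i1, i2, ⟨n, hn, hF⟩, he⟩ | ⟨F, i1, i2, m, hm, hF, ⟨e⟩⟩ |
    ⟨F, i1, i2, n, hn, hF, ⟨e⟩⟩
  · exact ⟨F, i1, i2, n, hn, hF, he⟩
  · exact absurd hc (BenderType.Classify.ty_sz_of_equiv hm hF e S).not_comm
  · exact absurd hc (BenderType.Classify.ty_psu_of_equiv (by omega) hF e S).not_comm

theorem BenderAll.seThm (hB : BenderAll.{u}) : StepMain.SEThm.{u} :=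
  fun L _ _ _ hna S hS H hH => isEvenType_of_concl (hB L hna H hH) S hS

end Cfsg.Agent.Walter.BenderAll
end

-- part: Walter/RankTwoStep
section
/-!
# The rank two case in Walter's theorem

`rankTwoThm`: `StepMain.RankTwoThm` from the statements S0516 and S0483 (four-group case).
-/

set_option autoImplicit false

namespace Cfsg.Agent.Walter.RankTwoStep

open Subgroup Cfsg
open Cfsg.Agent.Walter.Types

universe u

/-- S0516 in the universe `u`. -/
def RankTwoSylow : Prop :=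
  ∀ (G : Type u) [Group G] [Finite G] [IsSimpleGroup G], ¬ IsMulCommutative G → PRankLE 2 2 G →
    ∀ (S : Sylow 2 G) (F : Type) [Field F] [Fintype F], Fintype.card F = 16 →
      ∀ P : Sylow 2 (Cfsg.PSU 3 F 4),
    (∃ n : ℕ, 2 ≤ n ∧ Nonempty ((S : Subgroup G) ≃* DihedralGroup n)) ∨
      Cfsg.IsQuasiDihedral (S : Subgroup G) ∨
      Cfsg.IsWreathed (S : Subgroup G) ∨ Nonempty ((S : Subgroup G) ≃* (P : Subgroup (Cfsg.PSU 3 F 4)))

/-- The theorem of Gorenstein and Walter (S0483) for simple groups with four-groups as Sylow 2-subgroups. -/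
def FourThm : Prop :=
  ∀ (X : Type u) [Group X] [Finite X] [IsSimpleGroup X], (∃ a b : X, a * b ≠ b * a) →
    ∀ S : Sylow 2 X, Nonempty ((S : Subgroup X) ≃* DihedralGroup 2) →
    (∃ (F : Type) (_ : Field F) (_ : Fintype F), Odd (Fintype.card F) ∧ 3 < Fintype.card F ∧
        Nonempty (X ⧸ Cfsg.oddCore X ≃* Matrix.ProjectiveSpecialLinearGroup (Fin 2) F)) ∨
      Nonempty (X ⧸ Cfsg.oddCore X ≃* alternatingGroup (Fin 7))

/-- `IsOddType` from the conclusion of S0483. -/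
theorem isOddType {G : Type*} [Group G] [Finite G] (hO : oddCore G = ⊥) (S : Sylow 2 G)
    (hS : Nonempty ((S : Subgroup G) ≃* DihedralGroup 2))
    (h : (∃ (F : Type) (_ : Field F) (_ : Fintype F), Odd (Fintype.card F) ∧ 3 < Fintype.card F ∧
        Nonempty (G ⧸ Cfsg.oddCore G ≃* Matrix.ProjectiveSpecialLinearGroup (Fin 2) F)) ∨
      Nonempty (G ⧸ Cfsg.oddCore G ≃* alternatingGroup (Fin 7))) : IsOddType G := by
  have h2 : Fact (Nat.Prime 2) := ⟨Nat.prime_two⟩
  let e0 : G ≃* G ⧸ oddCore G :=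
    (QuotientGroup.quotientBot (G := G)).symm.trans (QuotientGroup.quotientMulEquivOfEq hO.symm)
  have hScard : Nat.card (S : Subgroup G) = 4 := by
    obtain ⟨e⟩ := hS
    rw [Nat.card_congr e.toEquiv, DihedralGroup.nat_card]
  have h8 : ¬ 8 ∣ Nat.card G := by
    intro h8
    have h5 := S.card_eq_multiplicity
    have h6 : 3 ≤ (Nat.card G).factorization 2 := by
      rw [← Nat.Prime.pow_dvd_iff_le_factorization Nat.prime_two Nat.card_pos.ne']
      exact h8
    rw [hScard] at h5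
    have h7 : 2 ^ 3 ≤ 2 ^ (Nat.card G).factorization 2 := Nat.pow_le_pow_right (by norm_num) h6
    omega
  rcases h with ⟨F, iF, iFt, hodd, h3, ⟨e⟩⟩ | ⟨⟨e⟩⟩
  · have hc : Nat.card G = Fintype.card F * (Fintype.card F ^ 2 - 1) / 2 := by
      have := ClassicalGeometry.PSL2Basic.card_PSL2_odd F hodd
      rw [Nat.card_congr (e0.trans e).toEquiv]
      omega
    have h35 := RankTwo.mod_eight hodd (hc ▸ h8)
    exact ⟨F, iF, iFt, h35, by omega, ⟨e0.trans e⟩⟩
  · exfalso
    apply h8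
    rw [Nat.card_congr (e0.trans e).toEquiv]
    exact RankTwo.dvd_card_alternating

theorem rankTwoThm (hR : RankTwoSylow.{u}) (hF : FourThm.{u}) : StepMain.RankTwoThm.{u} := by
  intro G _ _ _ hna S hS hrk
  have i3 : Fintype (GaloisField 2 4) := Fintype.ofFinite _
  have hc : Fintype.card (GaloisField 2 4) = 16 := by
    rw [← Nat.card_eq_fintype_card, GaloisField.card 2 4 (by norm_num)]; norm_num
  have hna' : ¬ IsMulCommutative G := by
    intro h
    obtain ⟨a, b, hab⟩ := hna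
    exact hab (h.is_comm.comm a b)
  have h1 := RankTwo.equiv_dihedral_two S hS hc default (hR G hna' hrk S _ hc default)
  have heven : Even (Nat.card G) := by
    obtain ⟨e⟩ := h1
    rw [even_iff_two_dvd]
    have h2 : Nat.card (S : Subgroup G) = 4 := by rw [Nat.card_congr e.toEquiv, DihedralGroup.nat_card]
    exact Dvd.dvd.trans (by rw [h2]; norm_num) (card_subgroup_dvd_card (S : Subgroup G))
  exact isOddType (Irreducible.oddCore_eq_bot heven) S h1 (hF G hna S h1)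

end Cfsg.Agent.Walter.RankTwoStep
end

-- part: Walter/Final
section
/-!
# Simple groups with abelian Sylow 2-subgroups: the induction step, all inputs discharged

Only `LastCase.NoFieldThm` (the nonexistence of field automorphisms) is left as a hypothesis.
-/

set_option autoImplicit false

namespace Cfsg.Agent.Walter.Final

open Cfsg Cfsg.Agent.Walter

universe u

theorem oddSolvable : BalLocal.OddSolvable.{u} := fun _ _ _ h =>
  Cfsg.Agent.S0205.result (Nat.not_even_iff_odd.1 fun he => h he.two_dvd)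

theorem centThm : Main.CentThm.{u} := fun _ _ _ _ hab _ _ _ hq t ht hC =>
  Cfsg.Agent.S0343.result hab hq t ht hC

theorem reeThm : ClassificationK.WalterIso.ReeThm.{u} :=
  fun _ _ _ _ P h1 _ hn U hUB hUn hUnil hsplit hdisj hind hU hHc hH hfpf _ _ _ hK hinv hsyl =>
    Cfsg.Agent.S1149.result P h1 hn U hUB hUn hUnil hsplit hdisj hind hU hHc hH hfpf _ hK hinv hsyl

theorem benderAll : BenderAll.BenderAll.{u} := fun _ _ _ _ hna H hH =>
  Cfsg.Agent.StrongEmb.Strong.result hna H hH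

theorem benderThm : BalLocal.BenderThm.{u} := BenderAll.BenderAll.benderThm benderAll

theorem fusionThm : StepMain.FusionThm.{u} := fun _ _ _ S A B hAB hA hB =>
  Cfsg.Agent.TwoFusion.ClosedCommutator.commutator_le S A B hAB hA hB

theorem fourThm : RankTwoStep.FourThm.{u} := by
  intro X _ _ _ hna S hS
  have hperf : Group.IsPerfect X := by
    refine ⟨?_⟩
    rcases (inferInstance : (commutator X).Normal).eq_bot_or_eq_top with h | h
    · exfalso
      obtain ⟨a, b, hab⟩ := hna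
      apply hab
      have h1 : a * b * a⁻¹ * b⁻¹ ∈ commutator X :=
        Subgroup.commutator_mem_commutator (Subgroup.mem_top _) (Subgroup.mem_top _)
      rw [h, Subgroup.mem_bot] at h1
      exact mul_inv_eq_iff_eq_mul.1 (mul_inv_eq_one.1 h1)
    · exact h
  exact Cfsg.Agent.S0483.result S 2 le_rfl hS

theorem rankTwoSylow : RankTwoStep.RankTwoSylow.{u} := fun _ _ _ _ hG h2 S _ _ _ hF P =>
  Cfsg.Agent.S0516.result hG h2 S hF P

theorem rankTwoThm : StepMain.RankTwoThm.{u} := RankTwoStep.rankTwoThm rankTwoSylow fourThm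

/-- **The induction step**, from the nonexistence of field automorphisms. -/
theorem step_of (hNF : LastCase.NoFieldThm.{u}) : Main.Step.{u} :=
  StepMain.step oddSolvable fusionThm benderThm (BenderAll.BenderAll.seThm benderAll) rankTwoThm
    (LastCase.lastThm oddSolvable benderThm hNF)

end Cfsg.Agent.Walter.Final
end

-- part: Walter/NoFieldLocalCent
section
/-!
# `h` is central modulo `O_p(N)`
-/

set_option autoImplicit false

namespace Cfsg.Agent.Walter.NoFieldLocal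

open Subgroup Cfsg

section Struct

variable {N : Type*} [Group N] [Finite N] {p r α : ℕ} [hpf : Fact p.Prime] [hrf : Fact r.Prime]
  {φ h : N} {T O : Subgroup N}

theorem central_mod (L : LocData p r α φ h T O) (hs : Group.IsSolvable N) {Q : Subgroup N} [hQn : Q.Normal]
    (hQp : IsPGroup p Q) (hC : centralizer (Q : Set N) ≤ Q)
    (hmax : ∀ K : Subgroup N, K.Normal → IsPGroup p K → K ≤ Q) (g : N) : g * h * g⁻¹ * h⁻¹ ∈ Q := by
  obtain ⟨M, γ, D⟩ := L.exists_mdata hQn hQp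
  have hγ1 : ¬ γ ≡ 1 [MOD p] := fun h => L.α1 (D.γα.symm.trans h)
  have hkerp := isPGroup_ker_frAct Q hQp hC
  have hker : (frAct Q).ker ≤ Q := hmax _ inferInstance hkerp
  have hhφi : ∀ i : ℤ, h * φ ^ i * h⁻¹ = φ ^ i := by
    intro i
    have h1 : Commute h φ := L.hφ
    rw [(h1.zpow_right i).eq, mul_inv_cancel_right]
  -- a generator of `Q ∩ ⟨φ⟩`
  obtain ⟨f, hf⟩ : ∃ f : N, Q ⊓ zpowers φ = zpowers f := by
    have h1 : IsCyclic (Q ⊓ zpowers φ : Subgroup N) := by
      have h2 : IsCyclic (zpowers φ) := inferInstance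
      exact isCyclic_of_injective (Subgroup.inclusion (inf_le_right : Q ⊓ zpowers φ ≤ zpowers φ))
        (Subgroup.inclusion_injective _)
    obtain ⟨f, hf⟩ := (Subgroup.isCyclic_iff_exists_zpowers_eq_top _).1 h1
    exact ⟨f, hf.symm⟩
  have hfQφ : f ∈ Q ⊓ zpowers φ := by rw [hf]; exact mem_zpowers f
  have hfQ : f ∈ Q := (mem_inf.1 hfQφ).1
  have hfφ : f ∈ zpowers φ := (mem_inf.1 hfQφ).2
  have hhf : ∀ j : ℤ, h * f ^ j * h⁻¹ = f ^ j := by
    obtain ⟨i, rfl⟩ := hfφ
    intro j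
    change h * (φ ^ i) ^ j * h⁻¹ = (φ ^ i) ^ j
    rw [← zpow_mul, hhφi]
  have hgen : ∀ q ∈ Q, ∃ m ∈ M, ∃ j : ℤ, q = m * f ^ j := by
    intro q hq
    obtain ⟨m, hm, i, hi⟩ := D.gen q hq
    have h1 : φ ^ i ∈ Q ⊓ zpowers φ := by
      refine mem_inf.2 ⟨?_, zpow_mem (mem_zpowers φ) i⟩
      have h2 : φ ^ i = m⁻¹ * q := by rw [hi]; group
      rw [h2]
      exact mul_mem (inv_mem (D.le hm)) hq
    rw [hf] at h1
    obtain ⟨j, hj⟩ := h1
    have hj' : f ^ j = φ ^ i := hj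
    exact ⟨m, hm, j, by rw [hj']; exact hi⟩
  let iV : CommGroup (Q ⧸ frattini Q) :=
    { (inferInstance : Group (Q ⧸ frattini Q)) with mul_comm := frQuot_comm Q hQp }
  set v1 : Q ⧸ frattini Q := QuotientGroup.mk (⟨f, hfQ⟩ : Q) with hv1
  have hexp : ∀ v : Q ⧸ frattini Q, v ^ p = 1 := frQuot_pow Q hQp
  -- the action of `h`
  have hact : ∀ q : Q, ∃ μ : Q ⧸ frattini Q, ∃ j : ℤ, (∃ m : N, m ∈ M ∧ (q : N) = m * f ^ j) ∧
      (QuotientGroup.mk q : Q ⧸ frattini Q) = μ * v1 ^ j ∧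
      frAct Q h (QuotientGroup.mk q) = μ ^ α * v1 ^ j := by
    intro q
    obtain ⟨m, hm, j, hq⟩ := hgen q q.2
    refine ⟨QuotientGroup.mk (⟨m, D.le hm⟩ : Q), j, ⟨m, hm, hq⟩, ?_, ?_⟩
    · have h1 : q = ⟨m, D.le hm⟩ * (⟨f, hfQ⟩ : Q) ^ j := Subtype.ext (by
        rw [hq]; push_cast; rfl)
      conv_lhs => rw [h1]
      rfl
    · rw [frAct_mk]
      have h1 : (⟨h * q * h⁻¹, hQn.conj_mem q q.2 h⟩ : Q) = (⟨m, D.le hm⟩ : Q) ^ γ * (⟨f, hfQ⟩ : Q) ^ j := by
        apply Subtype.ext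
        push_cast
        rw [← D.pow m hm, hq]
        calc h * (m * f ^ j) * h⁻¹ = (h * m * h⁻¹) * (h * f ^ j * h⁻¹) := by group
          _ = _ := by rw [hhf]
      rw [h1]
      have h2 : (QuotientGroup.mk (⟨m, D.le hm⟩ : Q) : Q ⧸ frattini Q) ^ γ =
          (QuotientGroup.mk (⟨m, D.le hm⟩ : Q) : Q ⧸ frattini Q) ^ α :=
        pow_eq_pow_of_modEq (hexp _) D.γα
      rw [← h2]
      rfl
  have hsc : ∀ v : Q ⧸ frattini Q, ∃ i : ℤ, frAct Q h v = v ^ α * v1 ^ i := by
    intro v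
    induction v using QuotientGroup.induction_on with
    | H q =>
      obtain ⟨μ, j, -, h1, h2⟩ := hact q
      refine ⟨j - j * α, ?_⟩
      rw [h2, h1, mul_pow, mul_assoc, ← zpow_natCast (v1 ^ j), ← zpow_mul, ← zpow_add]
      congr 2
      ring
  have key : ∀ a b : N, frAct Q a = frAct Q b → a * b⁻¹ ∈ Q := by
    intro a b hab
    refine hker ?_
    rw [MonoidHom.mem_ker, map_mul, map_inv, hab, mul_inv_cancel]
  by_cases hv11 : v1 = 1
  · -- `h` is scalar
    refine key (g * h * g⁻¹) h ?_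
    ext v
    have h1 : ∀ v : Q ⧸ frattini Q, frAct Q h v = v ^ α := by
      intro v
      obtain ⟨i, hi⟩ := hsc v
      rw [hi, hv11, one_zpow, mul_one]
    rw [act_conj_apply, h1, h1, map_pow, act_inv_apply]
  · -- the reflection step
    set act := QuotientGroup.kerLift (frAct Q) with hactdef
    have hactmk : ∀ n : N, act (QuotientGroup.mk n) = frAct Q n := fun n => QuotientGroup.kerLift_mk _ n
    have H : ReflHyp act p α (QuotientGroup.mk h : N ⧸ (frAct Q).ker) v1 := by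
      refine ⟨hexp, ?_, L.α1, ?_, ?_⟩
      · rw [hactmk, hv1, frAct_mk]
        congr 1
        apply Subtype.ext
        have := hhf 1
        rw [zpow_one] at this
        exact this
      · intro v
        rw [hactmk]
        exact hsc v
      · intro n hn
        induction n using QuotientGroup.induction_on with
        | H n =>
          rw [hactmk, hactmk] at hn
          have hw : frAct Q n v1 = QuotientGroup.mk (⟨n * f * n⁻¹, hQn.conj_mem f hfQ n⟩ : Q) := by
            rw [hv1, frAct_mk]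
          rw [hw] at hn
          obtain ⟨μ, j, ⟨m, hm, hmj⟩, h1, h2⟩ := hact ⟨n * f * n⁻¹, hQn.conj_mem f hfQ n⟩
          change n * f * n⁻¹ = m * f ^ j at hmj
          rw [h2, h1, mul_pow] at hn
          have h3 : v1 ^ j = (v1 ^ j) ^ α := mul_left_cancel hn
          -- `p ∣ j`
          have h4 : v1 ^ j = 1 := by
            refine eq_one_of_pow_eq (p := p) (k := 1) (a := α) (b := 1) (by rw [pow_one]; exact hexp _) L.α1 ?_
            rw [pow_one]; exact h3.symm
          have h5 : (p : ℤ) ∣ j := by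
            have h6 : orderOf v1 = p := orderOf_eq_prime (hexp v1) hv11
            rw [← h6]
            exact orderOf_dvd_iff_zpow_eq_one.2 h4
          obtain ⟨k, hk⟩ := h5
          -- the order of `f`
          obtain ⟨c, hc⟩ : ∃ c : ℕ, f ^ p ^ c = 1 := by
            obtain ⟨c, hc⟩ := hQp ⟨f, hfQ⟩
            exact ⟨c, congrArg Subtype.val hc⟩
          classical
          obtain ⟨c, hc, hmin⟩ := Nat.findX (⟨c, hc⟩ : ∃ c : ℕ, f ^ p ^ c = 1)
          have hc0 : c ≠ 0 := by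
            rintro rfl
            rw [pow_zero, pow_one] at hc
            apply hv11
            rw [hv1]
            have h7 : (⟨f, hfQ⟩ : Q) = 1 := Subtype.ext hc
            rw [h7]; rfl
          obtain ⟨c', rfl⟩ := Nat.exists_eq_succ_of_ne_zero hc0
          set x1 := f ^ p ^ c' with hx1
          have hx11 : x1 ≠ 1 := fun h8 => hmin c' (Nat.lt_succ_self _) h8
          have hx1φ : x1 ∈ zpowers φ := pow_mem hfφ _
          have hfN : f ^ j ∈ normalizer (M : Set N) := D.norm (zpow_mem hfQ j)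
          have hm' : (f ^ j)⁻¹ * m * f ^ j ∈ M := (mem_normalizer_iff''.1 hfN m).1 hm
          obtain ⟨b, hb, hbp⟩ := exists_mul_pow hfN hm' (p ^ c')
          have h8 : n * x1 * n⁻¹ ∈ M := by
            have h9 : n * x1 * n⁻¹ = (f ^ j) ^ p ^ c' * b := by
              rw [hx1, ← conj_pow, hmj, ← hbp]
              congr 1
              group
            have h10 : (f ^ j) ^ p ^ c' = 1 := by
              rw [hk, ← zpow_natCast, ← zpow_mul]
              have h11 : (p : ℤ) * k * ((p ^ c' : ℕ) : ℤ) = ((p ^ (c' + 1) : ℕ) : ℤ) * k := by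
                push_cast; ring
              rw [h11, zpow_mul, zpow_natCast, hc, one_zpow]
            rw [h9, h10, one_mul]
            exact hb
          have h9 := D.pow _ h8
          rw [conj_pow] at h9
          have h10 : (n⁻¹ * h * n) * x1 * (n⁻¹ * h * n)⁻¹ = x1 ^ γ := by
            calc (n⁻¹ * h * n) * x1 * (n⁻¹ * h * n)⁻¹ = n⁻¹ * (h * (n * x1 * n⁻¹) * h⁻¹) * n := by group
              _ = n⁻¹ * (n * x1 ^ γ * n⁻¹) * n := by rw [h9]
              _ = x1 ^ γ := by group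
          have h11 := L.H2 x1 hx1φ hx11 (n⁻¹ * h * n) (by rw [h10]; exact pow_mem (mem_zpowers x1) γ)
          rw [h11, mul_inv_cancel_right] at h10
          apply hx11
          refine eq_one_of_pow_eq' L.φp hx1φ hγ1 ?_
          rw [pow_one]; exact h10.symm
    have hcore : ∀ K : Subgroup (N ⧸ (frAct Q).ker), K.Normal → IsPGroup p K → K = ⊥ := by
      intro K hK hKp
      have h1 : IsPGroup p (K.comap (QuotientGroup.mk' (frAct Q).ker)) := by
        refine hKp.comap_of_ker_isPGroup _ ?_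
        rw [QuotientGroup.ker_mk']
        exact hkerp
      have h2 : K.comap (QuotientGroup.mk' (frAct Q).ker) ≤ (frAct Q).ker :=
        (hmax _ (hK.comap _) h1).trans (le_ker_frAct Q hQp)
      rw [eq_bot_iff]
      intro x hx
      obtain ⟨y, rfl⟩ := QuotientGroup.mk'_surjective _ x
      exact (QuotientGroup.eq_one_iff y).2 (h2 hx)
    have hOs : Group.IsSolvable (O.map (QuotientGroup.mk' (frAct Q).ker)) := by
      have h1 : Group.IsSolvable (N ⧸ (frAct Q).ker) := inferInstance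
      infer_instance
    have hcen := H.central (QuotientGroup.kerLift_injective _) hcore (O.map (QuotientGroup.mk' (frAct Q).ker))
      (L.On.map _ (QuotientGroup.mk'_surjective _))
      (L.Oo.of_dvd_nat (PLocal.PConstrained.card_map_dvd _ _)) hOs (mem_map_of_mem _ L.hO)
      (Nat.Coprime.coprime_dvd_left (orderOf_map_dvd (QuotientGroup.mk' (frAct Q).ker) h) L.hp)
      (QuotientGroup.mk g)
    refine hker ((QuotientGroup.eq_one_iff _).1 ?_)
    have h1 : (QuotientGroup.mk (g * h * g⁻¹ * h⁻¹) : N ⧸ (frAct Q).ker) =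
        QuotientGroup.mk g * QuotientGroup.mk h * (QuotientGroup.mk g)⁻¹ * (QuotientGroup.mk h)⁻¹ := rfl
    rw [h1, hcen]
    group

end Struct

end Cfsg.Agent.Walter.NoFieldLocal
end

-- part: Walter/NoFieldLocalEnd
section
/-!
# The end in a solvable group: a nontrivial abelian `p`-quotient seen by `φ`
-/

set_option autoImplicit false

namespace Cfsg.Agent.Walter.NoFieldLocal

open Subgroup Cfsg
open scoped commutatorElement

/-- `N` has a normal subgroup with abelian `p`-quotient not containing `φ` -/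
def PQuot (p : ℕ) {N : Type*} [Group N] (φ : N) : Prop :=
  ∃ K : Subgroup N, K.Normal ∧ φ ∉ K ∧ commutator N ≤ K ∧ ∀ x : N, ∃ k : ℕ, x ^ p ^ k ∈ K

theorem PQuot.comap {p : ℕ} {N N' : Type*} [Group N] [Group N'] (f : N →* N') {φ : N}
    (h : PQuot p (f φ)) : PQuot p φ := by
  obtain ⟨K, hK, hφ, hc, hp⟩ := h
  refine ⟨K.comap f, hK.comap f, hφ, ?_, fun x => ?_⟩
  · rw [commutator_def, Subgroup.commutator_le]
    intro a _ b _
    rw [mem_comap, map_commutatorElement]
    exact hc (commutator_mem_commutator (mem_top _) (mem_top _))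
  · obtain ⟨k, hk⟩ := hp (f x)
    exact ⟨k, by rw [mem_comap, map_pow]; exact hk⟩

section End

variable {N : Type*} [Group N] [Finite N] {p r α : ℕ} [hpf : Fact p.Prime] [hrf : Fact r.Prime]
  {φ h : N} {T O : Subgroup N}

theorem end_core (L : LocData p r α φ h T O) (hs : Group.IsSolvable N) (hcore : pPrimeCore p N = ⊥) :
    PQuot p φ := by
  set Q := pCore p N with hQ
  have hQn : Q.Normal := Lib.Cores.pCore_normal p
  have hQp : IsPGroup p Q := Lib.Cores.pCore_isPGroup p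
  have hC : centralizer (Q : Set N) ≤ Q :=
    Lib.PSolvable.centralizer_pCore_le_of_pSolvable p (Lib.PSolvable.IsPSolvable_of_solvable p) hcore
  have hmax : ∀ K : Subgroup N, K.Normal → IsPGroup p K → K ≤ Q := fun K hK hKp => Lib.Cores.le_pCore hK hKp
  have hcen := central_mod L hs hQp hC hmax
  obtain ⟨M, γ, D⟩ := L.exists_mdata hQn hQp
  have hγ1 : ¬ γ ≡ 1 [MOD p] := fun h => L.α1 (D.γα.symm.trans h)
  have hφi : ∀ i : ℤ, Commute h (φ ^ i) := fun i => Commute.zpow_right L.hφ i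
  -- `T ≤ Q`
  have hTQ : T ≤ Q := by
    intro t ht
    obtain ⟨k, hk⟩ := L.Tp ⟨t, ht⟩
    have hk' : t ^ p ^ k = 1 := congrArg Subtype.val hk
    have h1 : t * (t ^ α)⁻¹ ∈ Q := by
      have h2 := hcen t
      rwa [show t * h * t⁻¹ * h⁻¹ = t * (h * t * h⁻¹)⁻¹ by group, L.hT t ht] at h2
    have h2 : QuotientGroup.mk' Q t = 1 := by
      refine eq_one_of_pow_eq (p := p) (k := k) (a := α) (b := 1) ?_ L.α1 ?_
      · rw [← map_pow, hk', map_one]
      · have h3 : QuotientGroup.mk' Q (t * (t ^ α)⁻¹) = 1 := (QuotientGroup.eq_one_iff _).2 h1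
        rw [map_mul, map_inv, mul_inv_eq_one, map_pow] at h3
        rw [pow_one]; exact h3.symm
    exact (QuotientGroup.eq_one_iff t).1 h2
  -- `N = Q C(h)`
  have hcop : ¬ r ∣ Nat.card Q := by
    intro hd
    obtain ⟨n, hn⟩ := hQp.exists_card_eq
    rw [hn] at hd
    exact L.rp ((Nat.prime_dvd_prime_iff_eq hrf.out hpf.out).1 (hrf.out.dvd_of_dvd_pow hd))
  have hhr : IsPGroup r (zpowers h) := by
    obtain ⟨a, ha⟩ := L.hr
    exact IsPGroup.of_card (n := a) (by rw [Nat.card_zpowers, ha])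
  have hQC : ∀ g : N, ∃ c : N, c ∈ centralizer {h} ∧ g⁻¹ * c ∈ Q := by
    intro g
    obtain ⟨c, hc, hgc⟩ := Lib.CoprimeCommutator.exists_fixed_in_coset r (zpowers h) Q hhr
      (by rw [normalizer_eq_top_iff.2 hQn]; exact le_top) hcop g (by
        rintro _ ⟨i, rfl⟩
        change g⁻¹ * (h ^ i * g * (h ^ i)⁻¹) ∈ Q
        rw [← QuotientGroup.eq_one_iff]
        have h1 : Commute (QuotientGroup.mk' Q h) (QuotientGroup.mk' Q g) := by
          have h2 : QuotientGroup.mk' Q (g * h * g⁻¹ * h⁻¹) = 1 := (QuotientGroup.eq_one_iff _).2 (hcen g)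
          rw [map_mul, map_mul, map_mul, map_inv, map_inv, mul_inv_eq_one, mul_inv_eq_iff_eq_mul] at h2
          exact h2.symm
        have h3 := (h1.zpow_left i).eq
        change QuotientGroup.mk' Q (g⁻¹ * (h ^ i * g * (h ^ i)⁻¹)) = 1
        rw [map_mul, map_mul, map_mul, map_inv, map_inv, map_zpow, h3]
        group)
    refine ⟨c, ?_, hgc⟩
    rw [mem_centralizer_singleton_iff]
    exact (mem_centralizer_iff.1 hc h (mem_zpowers h)).symm
  set C : Subgroup N := centralizer {h} with hCdef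
  have hφC : φ ∈ C := mem_centralizer_singleton_iff.2 L.hφ.symm
  have hMC : ∀ g : N, ∃ m ∈ M, ∃ c ∈ C, g = m * c := by
    intro g
    obtain ⟨c, hc, hgc⟩ := hQC g⁻¹
    rw [inv_inv] at hgc
    obtain ⟨m, hm, i, hi⟩ := D.gen _ hgc
    refine ⟨m, hm, φ ^ i * c⁻¹, mul_mem (zpow_mem hφC i) (inv_mem hc), ?_⟩
    calc g = g * c * c⁻¹ := by group
      _ = m * (φ ^ i * c⁻¹) := by rw [hi]; group
  have hMn : M.Normal := by
    rw [← normalizer_eq_top_iff, eq_top_iff]
    intro g _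
    obtain ⟨m, hm, c, hc, rfl⟩ := hMC g
    refine mul_mem (le_normalizer hm) (normalizer_of_conj_le fun m' hm' => ?_)
    refine D.char _ (hQn.conj_mem m' (D.le hm') c) ?_
    have h1 : c * h = h * c := mem_centralizer_singleton_iff.1 hc
    rw [conj_pow, ← D.pow m' hm']
    have h2 : h * c = c * h := h1.symm
    have h3 : c⁻¹ * h⁻¹ = h⁻¹ * c⁻¹ := by
      rw [← mul_inv_rev, ← mul_inv_rev, h2]
    calc h * (c * m' * c⁻¹) * h⁻¹ = (h * c) * m' * (c⁻¹ * h⁻¹) := by group
      _ = (c * h) * m' * (h⁻¹ * c⁻¹) := by rw [h2, h3]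
      _ = c * (h * m' * h⁻¹) * c⁻¹ := by group
  have hMC1 : ∀ m ∈ M, m ∈ C → m = 1 := by
    intro m hm hmC
    refine eq_one_of_pow_eq' hQp (D.le hm) hγ1 ?_
    rw [pow_one, ← D.pow m hm, ← mem_centralizer_singleton_iff.1 hmC, mul_inv_cancel_right]
  -- the Sylow `p`-subgroup of `C`
  set φ' : C := ⟨φ, hφC⟩ with hφ'
  have hφ'p : IsPGroup p (zpowers φ') := by
    have h1 : IsPGroup p ((zpowers φ).subgroupOf C) := L.φp.comap_subtype
    refine h1.to_le ?_
    rw [zpowers_le]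
    exact mem_zpowers φ
  obtain ⟨P0, hP0⟩ := hφ'p.exists_le_sylow
  have hφP0 : φ' ∈ (P0 : Subgroup C) := hP0 (mem_zpowers φ')
  have hP0φ : ∀ y ∈ (P0 : Subgroup C), (y : N) ∈ zpowers φ := by
    intro y hy
    set R : Subgroup N := Q ⊔ (P0 : Subgroup C).map C.subtype with hR
    have hRp : IsPGroup p R := hQp.to_sup_of_normal_left (P0.isPGroup'.map _)
    have hYR : zpowers φ ⊔ T ≤ R := by
      refine sup_le ?_ (hTQ.trans le_sup_left)
      rw [zpowers_le]
      exact mem_sup_right ⟨φ', hφP0, rfl⟩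
    refine L.fix_mem hRp hYR (mem_sup_right ⟨y, hy, rfl⟩) ?_
    exact (mem_centralizer_singleton_iff.1 y.2).symm
  have hP0c : normalizer ((P0 : Subgroup C) : Set C) ≤ centralizer ((P0 : Subgroup C) : Set C) := by
    intro y hy
    have h1 : (y * φ' * y⁻¹ : C) ∈ (P0 : Subgroup C) := (mem_normalizer_iff.1 hy φ').1 hφP0
    have h2 : (y : N) * φ = φ * y := L.H2 φ (mem_zpowers φ) L.φ1 y (hP0φ _ h1)
    rw [mem_centralizer_iff]
    intro z hz
    obtain ⟨i, hi⟩ := hP0φ z hz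
    have hi' : φ ^ i = (z : N) := hi
    apply Subtype.ext
    change (z : N) * y = y * z
    rw [← hi']
    have h3 : Commute (y : N) φ := h2
    exact ((h3.zpow_right i).eq).symm
  set f := MonoidHom.transferSylow P0 hP0c with hf
  have hfφ : f φ' ≠ 1 := by
    intro h1
    have h2 := (MonoidHom.ker_transferSylow_isComplement' P0 hP0c).disjoint.le_bot
      (show φ' ∈ (MonoidHom.transferSylow P0 hP0c).ker ⊓ (P0 : Subgroup C) from ⟨h1, hφP0⟩)
    exact L.φ1 (congrArg Subtype.val (mem_bot.1 h2))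
  -- the isomorphism `C ≃ N / M`
  set e0 : C →* N ⧸ M := (QuotientGroup.mk' M).comp C.subtype with he0
  have he0b : Function.Bijective e0 := by
    constructor
    · rw [injective_iff_map_eq_one]
      intro c hc
      have h1 : (c : N) ∈ M := (QuotientGroup.eq_one_iff _).1 hc
      exact Subtype.ext (hMC1 _ h1 c.2)
    · intro x
      obtain ⟨g, rfl⟩ := QuotientGroup.mk'_surjective M x
      obtain ⟨m, hm, c, hc, rfl⟩ := hMC g
      refine ⟨⟨c, hc⟩, ?_⟩
      change QuotientGroup.mk' M c = QuotientGroup.mk' M (m * c)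
      rw [map_mul, (QuotientGroup.eq_one_iff m).2 hm |> fun h => (show QuotientGroup.mk' M m = 1 from h), one_mul]
  let e : C ≃* N ⧸ M := MulEquiv.ofBijective e0 he0b
  let F : N →* (P0 : Subgroup C) := (f.comp e.symm.toMonoidHom).comp (QuotientGroup.mk' M)
  have hFφ : F φ ≠ 1 := by
    have h1 : e.symm (QuotientGroup.mk' M φ) = φ' := by
      rw [MulEquiv.symm_apply_eq]
      rfl
    have h2 : F φ = f φ' := by
      change f (e.symm (QuotientGroup.mk' M φ)) = f φ'
      rw [h1]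
    rw [h2]
    exact hfφ
  refine ⟨F.ker, inferInstance, hFφ, ?_, fun x => ?_⟩
  · rw [commutator_def, Subgroup.commutator_le]
    intro a _ b _
    rw [MonoidHom.mem_ker, map_commutatorElement, commutatorElement_eq_one_iff_mul_comm]
    apply Subtype.ext
    apply Subtype.ext
    obtain ⟨i, hi⟩ := hP0φ _ (F a).2
    obtain ⟨j, hj⟩ := hP0φ _ (F b).2
    change (((F a : C) : N)) * ((F b : C) : N) = ((F b : C) : N) * ((F a : C) : N)
    rw [← hi, ← hj]
    exact ((Commute.refl φ).zpow_zpow i j).eq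
  · obtain ⟨k, hk⟩ := P0.isPGroup' (F x)
    exact ⟨k, by rw [MonoidHom.mem_ker, map_pow]; exact hk⟩

end End

end Cfsg.Agent.Walter.NoFieldLocal
end

-- part: Walter/NoFieldLocalSolv
section
/-!
# The solvable case without the hypothesis `O_{p'}(N) = 1`
-/

set_option autoImplicit false

namespace Cfsg.Agent.Walter.NoFieldLocal

open Subgroup Cfsg
open scoped commutatorElement

section Quot

variable {N : Type*} [Group N] [Finite N] {p r α : ℕ} [hpf : Fact p.Prime] [hrf : Fact r.Prime]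
  {φ h : N} {T O : Subgroup N}

theorem LocData.quot (L : LocData p r α φ h T O) {K : Subgroup N} [hK : K.Normal]
    (hKp : (Nat.card K).Coprime p) :
    LocData p r α (QuotientGroup.mk' K φ) (QuotientGroup.mk' K h) (T.map (QuotientGroup.mk' K))
      (O.map (QuotientGroup.mk' K)) := by
  set π := QuotientGroup.mk' K with hπ
  have hπs : Function.Surjective π := QuotientGroup.mk'_surjective K
  have hker : π.ker = K := QuotientGroup.ker_mk' K
  have hπK : ∀ x : N, π x = 1 ↔ x ∈ K := fun x => by rw [← MonoidHom.mem_ker, hker]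
  have hinf : ∀ {P : Subgroup N}, IsPGroup p P → ∀ x ∈ P, x ∈ K → x = 1 := by
    intro P hP x hx hxK
    have h1 := PLocal.PConstrained.inf_eq_bot_of_isPGroup_of_coprime hP hKp
    exact mem_bot.1 (h1 ▸ mem_inf.2 ⟨hx, hxK⟩)
  have hY : zpowers (π φ) ⊔ T.map π = (zpowers φ ⊔ T).map π := by
    rw [Subgroup.map_sup, MonoidHom.map_zpowers]
  refine
    { φp := by rw [← MonoidHom.map_zpowers]; exact L.φp.map π
      φ1 := fun h1 => L.φ1 (hinf L.φp φ (mem_zpowers φ) ((hπK φ).1 h1))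
      Tp := L.Tp.map π
      T1 := ?_
      Tab := ?_
      Tφ := ?_
      syl := ?_
      hφ := by rw [← map_mul, L.hφ, map_mul]
      hT := ?_
      hr := ?_
      rp := L.rp
      α0 := L.α0
      α2 := L.α2
      H2 := ?_
      On := L.On.map π hπs
      Oo := L.Oo.of_dvd_nat (PLocal.PConstrained.card_map_dvd _ _)
      hO := mem_map_of_mem π L.hO }
  · intro h1
    apply L.T1
    rw [eq_bot_iff]
    intro t ht
    have h2 : π t ∈ T.map π := mem_map_of_mem π ht
    rw [h1, mem_bot, hπK] at h2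
    exact mem_bot.2 (hinf L.Tp t ht h2)
  · rintro _ ⟨a, ha, rfl⟩ _ ⟨b, hb, rfl⟩
    rw [← map_mul, L.Tab a ha b hb, map_mul]
  · rintro _ ⟨a, ha, rfl⟩
    rw [← map_mul, L.Tφ a ha, map_mul]
  · intro R hR hYR
    rw [hY] at hYR ⊢
    set S : Subgroup N := R.comap π with hS
    have hYS : zpowers φ ⊔ T ≤ S := fun y hy => hYR (mem_map_of_mem π hy)
    have hYp : IsPGroup p ((zpowers φ ⊔ T : Subgroup N).subgroupOf S) := L.Yp.comap_subtype
    obtain ⟨P0, hP0⟩ := hYp.exists_le_sylow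
    let ψ : S →* R := π.subgroupComap R
    have hψ : Function.Surjective ψ := by
      intro x
      obtain ⟨g, hg⟩ := hπs x
      exact ⟨⟨g, by rw [hS, mem_comap, hg]; exact x.2⟩, Subtype.ext hg⟩
    have hP0top : ((P0 : Subgroup S).map ψ) = ⊤ := by
      have h2 : IsPGroup p (⊤ : Subgroup R) := hR.of_equiv Subgroup.topEquiv.symm
      exact ((P0.mapSurjective hψ : Sylow p R).3 h2 le_top).symm
    rintro x hx
    obtain ⟨hxR, hxC⟩ := mem_inf.1 hx
    have h1 : (⟨x, hxR⟩ : R) ∈ (P0 : Subgroup S).map ψ := by rw [hP0top]; trivial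
    obtain ⟨y, hy, hyx⟩ := h1
    have hyx' : π (y : N) = x := congrArg Subtype.val hyx
    set P : Subgroup N := (P0 : Subgroup S).map S.subtype with hP
    have hPp : IsPGroup p P := P0.isPGroup'.map _
    have hYP : zpowers φ ⊔ T ≤ P := by
      intro z hz
      exact ⟨⟨z, hYS hz⟩, hP0 hz, rfl⟩
    have hyP : (y : N) ∈ P := ⟨y, hy, rfl⟩
    have hφP : φ ∈ P := hYP (mem_sup_left (mem_zpowers φ))
    have h2 : (y : N) * φ * (y : N)⁻¹ * φ⁻¹ = 1 := by
      refine hinf hPp _ (mul_mem (mul_mem (mul_mem hyP hφP) (inv_mem hyP)) (inv_mem hφP)) ?_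
      rw [← hπK, map_mul, map_mul, map_mul, map_inv, map_inv, hyx', mem_centralizer_singleton_iff.1 hxC]
      group
    have h3 : (y : N) * φ = φ * y := mul_inv_eq_iff_eq_mul.1 (mul_inv_eq_one.1 h2)
    rw [← hyx']
    exact mem_map_of_mem π (L.syl P hPp hYP (mem_inf.2 ⟨hyP, mem_centralizer_singleton_iff.2 h3⟩))
  · rintro _ ⟨a, ha, rfl⟩
    rw [← map_inv, ← map_mul, ← map_mul, L.hT a ha, map_pow]
  · obtain ⟨a, ha⟩ := L.hr
    obtain ⟨b, _, hb⟩ := (Nat.dvd_prime_pow hrf.out).1 (ha ▸ orderOf_map_dvd π h)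
    exact ⟨b, hb⟩
  · intro y hy hy1 g hg
    rw [← MonoidHom.map_zpowers] at hy
    obtain ⟨y, hy, rfl⟩ := hy
    obtain ⟨g, rfl⟩ := hπs g
    have hy1' : y ≠ 1 := fun h => hy1 (by rw [h, map_one])
    have hyp : IsPGroup p (zpowers y) := L.φp.to_le (zpowers_le.2 hy)
    obtain ⟨n, hn, hng⟩ := PLocal.PConstrained.exists_mul_mem_normalizer π (by rw [hker]; exact hKp) hyp g (by
      rintro _ ⟨i, rfl⟩
      change π (g * y ^ i * g⁻¹) ∈ (zpowers y).map π
      rw [MonoidHom.map_zpowers, ← conj_zpow, map_zpow]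
      refine zpow_mem ?_ i
      rw [map_mul, map_mul, map_inv]
      exact hg)
    have h1 := L.H2 y hy hy1' (n * g) ((mem_normalizer_iff.1 hng y).1 (mem_zpowers y))
    have h2 : π (n * g) = π g := by rw [map_mul, MonoidHom.mem_ker.1 hn, one_mul]
    rw [← h2, ← map_mul, h1, map_mul]

theorem end_solvable (L : LocData p r α φ h T O) (hs : Group.IsSolvable N) : PQuot p φ := by
  have hK : (pPrimeCore p N).Normal := Lib.Cores.pPrimeCore_normal p
  have hKp : (Nat.card (pPrimeCore p N)).Coprime p := Lib.Cores.pPrimeCore_coprime p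
  have hsq : Group.IsSolvable (N ⧸ pPrimeCore p N) := inferInstance
  exact PQuot.comap (QuotientGroup.mk' (pPrimeCore p N))
    (end_core (L.quot hKp) hsq (Lib.Cores.pPrimeCore_quotient_pPrimeCore p))

end Quot

end Cfsg.Agent.Walter.NoFieldLocal
end

-- part: Walter/NoFieldLocalGlue
section
/-!
# The final step of `no_field_local`

`N = N(ZJ(P))` controls `p`-fusion and hence `p`-transfer.
-/

set_option autoImplicit false
set_option linter.unusedSectionVars false
set_option linter.unusedVariables false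

namespace Cfsg.Agent.Walter.NoFieldLocalGlue

open Subgroup Cfsg
open Cfsg.Agent.Walter.NoFieldLocal Cfsg.Agent.PLocal.ZJElem Cfsg.Agent.Walter.QdAbelian

universe u

section Control

variable {G : Type u} [Group G] [Finite G] {p : ℕ} [hpf : Fact p.Prime]

theorem abTwo (hS : ∀ a : G, (∃ k, a ^ 2 ^ k = 1) → a * a = 1) : AbTwo G := by
  intro T hT a ha b hb
  have h2 : ∀ c ∈ T, c * c = 1 := by
    intro c hc
    obtain ⟨k, hk⟩ := hT ⟨c, hc⟩
    exact hS c ⟨k, congrArg Subtype.val hk⟩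
  have hab := h2 (a * b) (mul_mem ha hb)
  have ha' : a⁻¹ = a := inv_eq_of_mul_eq_one_left (h2 a ha)
  have hb' : b⁻¹ = b := inv_eq_of_mul_eq_one_left (h2 b hb)
  have hc' : (a * b)⁻¹ = a * b := inv_eq_of_mul_eq_one_left hab
  rw [← hc', _root_.mul_inv_rev, ha', hb']

/-- no `SL(2,p)` section -/
theorem sl_free (hp2 : p ≠ 2) (hab : AbTwo G) : ¬ ∃ (H K : Subgroup G) (hK : (K.subgroupOf H).Normal),
    Nonempty ((H ⧸ K.subgroupOf H) ≃* Matrix.SpecialLinearGroup (Fin 2) (ZMod p)) := by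
  rintro ⟨H, K, hK, ⟨e⟩⟩
  refine not_abTwo_sl hp2 (hab.of_involves ⟨H, e.toMonoidHom.comp (QuotientGroup.mk' (K.subgroupOf H)), ?_⟩)
  exact e.surjective.comp (QuotientGroup.mk'_surjective _)

/-- subgroups containing `N(ZJ(P))` control `p`-fusion -/
theorem fus (hp2 : p ≠ 2) (hab : AbTwo G) (P : Sylow p G) {H : Subgroup G}
    (hH : normalizer (centerThompsonOf p (P : Subgroup G) : Set G) ≤ H) :
    ∀ g ∈ H, (∃ k : ℕ, orderOf g = p ^ k) → ∀ a : G, a * g * a⁻¹ ∈ H → ∃ h ∈ H, h * g * h⁻¹ = a * g * a⁻¹ := by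
  intro g hg hgp a hag
  have hPH : (P : Subgroup G) ≤ H :=
    (Subgroup.le_normalizer.trans (normalizer_le_normalizer_centerThompsonOf p (P : Subgroup G))).trans hH
  have key : ∀ z ∈ H, (∃ k : ℕ, orderOf z = p ^ k) → ∃ u ∈ H, u * z * u⁻¹ ∈ (P : Subgroup G) := by
    rintro z hz ⟨k, hk⟩
    have h1 : IsPGroup p (zpowers (⟨z, hz⟩ : H)) :=
      IsPGroup.of_card (n := k) (by rw [Nat.card_zpowers, Subgroup.orderOf_mk, hk])
    obtain ⟨R, hR⟩ := h1.exists_le_sylow
    obtain ⟨u, hu⟩ := MulAction.exists_smul_eq H R (P.subtype hPH)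
    refine ⟨u, u.2, ?_⟩
    have h2 : u * ⟨z, hz⟩ * u⁻¹ ∈ ((P.subtype hPH : Sylow p H) : Subgroup H) := by
      rw [← hu, Sylow.coe_subgroup_smul]
      exact ⟨⟨z, hz⟩, hR (mem_zpowers _), rfl⟩
    rw [Sylow.coe_subtype] at h2
    exact mem_subgroupOf.1 h2
  obtain ⟨w, hw, hwg⟩ := key g hg hgp
  obtain ⟨v, hv, hvg⟩ := key (a * g * a⁻¹) hag (by
    obtain ⟨k, hk⟩ := hgp
    refine ⟨k, ?_⟩
    rw [← hk]
    exact orderOf_injective (MulAut.conj a).toMonoidHom (MulAut.conj a).injective g)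
  obtain ⟨n, hn, hna⟩ := S0118.result hp2 (sl_free hp2 hab) P {w * g * w⁻¹}
    (Set.singleton_subset_iff.2 hwg) (v * a * w⁻¹)⁻¹ (by
      rintro _ ⟨z, hz, rfl⟩
      rw [Set.mem_singleton_iff] at hz
      subst hz
      have e : (v * a * w⁻¹)⁻¹⁻¹ * (w * g * w⁻¹) * (v * a * w⁻¹)⁻¹ = v * (a * g * a⁻¹) * v⁻¹ := by group
      change (v * a * w⁻¹)⁻¹⁻¹ * (w * g * w⁻¹) * (v * a * w⁻¹)⁻¹ ∈ (P : Subgroup G)
      rw [e]
      exact hvg)
  have h1 := hna _ (Set.mem_singleton _)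
  refine ⟨v⁻¹ * n⁻¹ * w, mul_mem (mul_mem (inv_mem hv) (inv_mem (hH hn))) hw, ?_⟩
  calc v⁻¹ * n⁻¹ * w * g * (v⁻¹ * n⁻¹ * w)⁻¹ = v⁻¹ * (n⁻¹ * (w * g * w⁻¹) * n) * v := by group
    _ = v⁻¹ * ((v * a * w⁻¹)⁻¹⁻¹ * (w * g * w⁻¹) * (v * a * w⁻¹)⁻¹) * v := by rw [h1]
    _ = a * g * a⁻¹ := by group

/-- a proper `p`-quotient of `H ≥ N(ZJ(P))` gives a proper `p`-quotient of `G` -/
theorem commutator_ne_top (hp2 : p ≠ 2) (hab : AbTwo G) (P : Sylow p G) {H : Subgroup G}
    (hH : normalizer (centerThompsonOf p (P : Subgroup G) : Set G) ≤ H) {K : Subgroup H} (hK : K.Normal)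
    (hKc : commutator H ≤ K) (hKp : ∀ x : H, ∃ k : ℕ, x ^ p ^ k ∈ K) (hne : K ≠ ⊤) : commutator G ≠ ⊤ := by
  intro htop
  have hPH : (P : Subgroup G) ≤ H :=
    (Subgroup.le_normalizer.trans (normalizer_le_normalizer_centerThompsonOf p (P : Subgroup G))).trans hH
  have hidx : Nat.Coprime p H.index := by
    refine (Nat.Prime.coprime_iff_not_dvd hpf.out).2 fun h => ?_
    exact P.not_dvd_index (h.trans (index_dvd_of_le hPH))
  have h1 := S1242.result H hidx (fus hp2 hab P hH)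
  rw [htop, sup_top_eq, top_inf_eq] at h1
  have hres : pResidual p H ≤ K := by
    rw [pResidual, closure_le]
    intro g hg
    have hg' : Nat.Coprime (orderOf g) p := hg
    obtain ⟨k, hk⟩ := hKp g
    have h2 : Nat.Coprime (orderOf g) (p ^ k) := Nat.Coprime.pow_right k hg'
    obtain ⟨m, hm⟩ := exists_pow_eq_self_of_coprime h2.symm
    rw [SetLike.mem_coe, ← hm]
    exact pow_mem hk m
  have h2 : H ≤ K.map H.subtype := h1.le.trans (Subgroup.map_mono (sup_le hres hKc))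
  apply hne
  rw [eq_top_iff]
  intro x _
  obtain ⟨y, hy, hyx⟩ := h2 x.2
  have h3 : y = x := Subtype.ext hyx
  rw [← h3]
  exact hy

/-- the element `h` may be taken in `N(ZJ(P))` -/
theorem exists_h (hp2 : p ≠ 2) (hab : AbTwo G) (P : Sylow p G) {Y : Subgroup G} (hYP : Y ≤ P) {r a : ℕ}
    (hr : r.Prime) {h : G} (hh : orderOf h = r ^ a) (hY : ∀ y ∈ Y, h * y * h⁻¹ ∈ Y) :
    ∃ h' ∈ normalizer (centerThompsonOf p (P : Subgroup G) : Set G), (∃ b : ℕ, orderOf h' = r ^ b) ∧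
      ∀ y ∈ Y, h' * y * h'⁻¹ = h * y * h⁻¹ := by
  obtain ⟨n, hn, hna⟩ := S0118.result hp2 (sl_free hp2 hab) P (Y : Set G) hYP h⁻¹ (by
    rintro _ ⟨z, hz, rfl⟩
    have := hY z hz
    change h⁻¹⁻¹ * z * h⁻¹ ∈ (P : Subgroup G)
    rw [inv_inv]
    exact hYP this)
  set m := n⁻¹ with hm
  have hmY : ∀ y ∈ Y, m * y * m⁻¹ = h * y * h⁻¹ := by
    intro y hy
    have := hna y hy
    rw [inv_inv] at this
    rw [hm, inv_inv]
    exact this
  have hmj : ∀ (j : ℕ), ∀ y ∈ Y, m ^ j * y * (m ^ j)⁻¹ = h ^ j * y * (h ^ j)⁻¹ ∧ h ^ j * y * (h ^ j)⁻¹ ∈ Y := by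
    intro j
    induction j with
    | zero => intro y hy; simp [hy]
    | succ j ih =>
      intro y hy
      obtain ⟨h1, h2⟩ := ih y hy
      constructor
      · calc m ^ (j + 1) * y * (m ^ (j + 1))⁻¹ = m * (m ^ j * y * (m ^ j)⁻¹) * m⁻¹ := by rw [pow_succ']; group
          _ = m * (h ^ j * y * (h ^ j)⁻¹) * m⁻¹ := by rw [h1]
          _ = h * (h ^ j * y * (h ^ j)⁻¹) * h⁻¹ := hmY _ h2
          _ = h ^ (j + 1) * y * (h ^ (j + 1))⁻¹ := by rw [pow_succ']; group
      · have e : h ^ (j + 1) * y * (h ^ (j + 1))⁻¹ = h * (h ^ j * y * (h ^ j)⁻¹) * h⁻¹ := by rw [pow_succ']; group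
        rw [e]
        exact hY _ h2
  obtain ⟨b, m', hm', hord⟩ := Nat.exists_eq_pow_mul_and_not_dvd (orderOf_pos m).ne' r hr.ne_one
  have hcop : Nat.Coprime (r ^ (a + b)) m' := Nat.Coprime.pow_left _ ((Nat.Prime.coprime_iff_not_dvd hr).2 hm')
  obtain ⟨s, hs1, hs2⟩ := Nat.chineseRemainder hcop 1 0
  refine ⟨m ^ s, pow_mem (inv_mem hn) s, ?_, ?_⟩
  · have h1 : orderOf (m ^ s) ∣ r ^ b := by
      apply orderOf_dvd_of_pow_eq_one
      rw [← pow_mul]
      have h2 : m' ∣ s := (Nat.modEq_zero_iff_dvd).1 hs2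
      have h3 : orderOf m ∣ s * r ^ b := by
        rw [hord, mul_comm]
        exact mul_dvd_mul h2 dvd_rfl
      exact orderOf_dvd_iff_pow_eq_one.1 h3
    obtain ⟨c, -, hc⟩ := (Nat.dvd_prime_pow hr).1 h1
    exact ⟨c, hc⟩
  · intro y hy
    rw [(hmj s y hy).1]
    have h1 : h ^ s = h := by
      have h2 : s ≡ 1 [MOD orderOf h] := by
        rw [hh]
        exact hs1.of_dvd (pow_dvd_pow r (by omega))
      have h3 := pow_eq_pow_iff_modEq.2 h2
      rwa [pow_one] at h3
    rw [h1]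

end Control

section Four

variable {G : Type u} [Group G] [Finite G] {p : ℕ} [hpf : Fact p.Prime]

/-- in a cyclic group the elements of order `p` generate the same subgroup -/
theorem mem_zpowers_of_cyclic {A : Type*} [Group A] [Finite A] [hc : IsCyclic A] {p : ℕ} (hp : 0 < p) {x y : A}
    (hx : orderOf x = p) (hy : y ^ p = 1) : y ∈ zpowers x := by
  classical
  have hfin : Fintype A := Fintype.ofFinite A
  have h1 := IsCyclic.card_pow_eq_one_le (α := A) hp
  have h2 : (Finset.univ.filter (fun a : A => a ∈ zpowers x)) ⊆ Finset.univ.filter (fun a : A => a ^ p = 1) := by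
    intro a ha
    rw [Finset.mem_filter] at ha ⊢
    refine ⟨ha.1, ?_⟩
    obtain ⟨n, rfl⟩ := mem_zpowers_iff.1 ha.2
    rw [← zpow_natCast, ← zpow_mul, mul_comm, zpow_mul, zpow_natCast, ← hx, pow_orderOf_eq_one, one_zpow]
  have h3 : (Finset.univ.filter (fun a : A => a ∈ zpowers x)).card = p := by
    have h4 : Nat.card (zpowers x) = p := by rw [Nat.card_zpowers, hx]
    rw [← h4, Nat.card_eq_fintype_card, Fintype.card_subtype]
  have h5 := Finset.eq_of_subset_of_card_le h2 (by rw [h3]; exact h1)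
  have h6 : y ∈ Finset.univ.filter (fun a : A => a ^ p = 1) := by
    rw [Finset.mem_filter]
    exact ⟨Finset.mem_univ _, hy⟩
  rw [← h5, Finset.mem_filter] at h6
  exact h6.2

/-- the hypotheses (H2), (H4) -/
structure Loc (p : ℕ) (φ x : G) : Prop where
  x_mem : x ∈ zpowers φ
  x_ord : orderOf x = p
  H2 : ∀ y ∈ zpowers φ, y ≠ 1 → ∀ g : G, g * y * g⁻¹ ∈ zpowers y → g * y = y * g
  H4 : ∀ v : G, orderOf v = 2 → ∀ y, y * v = v * y → orderOf y = p → ∃ g : G, g * y * g⁻¹ ∈ zpowers x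

theorem Loc.commute {φ x : G} (L : Loc p φ x) {v z s : G} (hv : orderOf v = 2) (hvz : z * v = v * z)
    (hz : orderOf z = p) (hs : s * z * s⁻¹ ∈ zpowers z) : s * z = z * s := by
  obtain ⟨g, hg⟩ := L.H4 v hv z hvz hz
  have hy : g * z * g⁻¹ ∈ zpowers φ := (zpowers_le.2 L.x_mem) hg
  have hy1 : g * z * g⁻¹ ≠ 1 := by
    intro h1
    have h2 : z = 1 := by
      have h3 : g * z = g := mul_inv_eq_one.1 h1
      exact mul_eq_left.1 h3
    rw [h2, orderOf_one] at hz
    exact hpf.out.one_lt.ne hz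
  have h1 := L.H2 _ hy hy1 (g * s * g⁻¹) (by
    obtain ⟨n, hn⟩ := mem_zpowers_iff.1 hs
    refine mem_zpowers_iff.2 ⟨n, ?_⟩
    rw [conj_zpow, hn]
    group)
  have h2 : g * (s * z) * g⁻¹ = g * (z * s) * g⁻¹ := by
    calc g * (s * z) * g⁻¹ = (g * s * g⁻¹) * (g * z * g⁻¹) := by group
      _ = (g * z * g⁻¹) * (g * s * g⁻¹) := h1
      _ = g * (z * s) * g⁻¹ := by group
  exact mul_left_cancel (mul_right_cancel h2)

theorem Loc.fixed {φ x : G} (L : Loc p φ x) (hp2 : p ≠ 2) {A : Subgroup G} (hA : IsPGroup p A) {u s a : G}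
    (hu : orderOf u = 2) (hs : s * s = 1) (hsu : s * u = u * s) (hsA : s ∈ normalizer (A : Set G)) (ha : a ∈ A)
    (hau : a * u = u * a) : s * a = a * s := by
  by_contra hcon
  set e := s * a * s⁻¹ * a⁻¹ with he
  have he1 : e ≠ 1 := by
    intro h1
    apply hcon
    have h2 : s * a * s⁻¹ = a := mul_inv_eq_one.1 h1
    exact mul_inv_eq_iff_eq_mul.1 h2
  have heA : e ∈ A := mul_mem ((mem_normalizer_iff.1 hsA a).1 ha) (inv_mem ha)
  have hs' : s⁻¹ = s := inv_eq_of_mul_eq_one_left hs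
  have hinv : s * e * s⁻¹ = e⁻¹ := by
    rw [he, hs']
    calc s * (s * a * s * a⁻¹) * s = (s * s) * a * (s * a⁻¹ * s) := by group
      _ = a * (s * a⁻¹ * s) := by rw [hs, one_mul]
      _ = (s * a * s * a⁻¹)⁻¹ := by
        rw [mul_inv_rev, mul_inv_rev, mul_inv_rev, hs', inv_inv]; group
  have heu : Commute e u := by
    have h1 : Commute s u := hsu
    have h2 : Commute a u := hau
    exact ((h1.mul_left h2).mul_left h1.inv_left).mul_left h2.inv_left
  have hcard : p ∣ Nat.card (zpowers e) := by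
    rw [Nat.card_zpowers]
    obtain ⟨k, hk⟩ := hA ⟨e, heA⟩
    have hk' : e ^ p ^ k = 1 := congrArg Subtype.val hk
    obtain ⟨l, -, hl⟩ := (Nat.dvd_prime_pow hpf.out).1 (orderOf_dvd_of_pow_eq_one hk')
    rw [hl]
    refine dvd_pow_self p ?_
    rintro rfl
    rw [pow_zero] at hl
    exact he1 (orderOf_eq_one_iff.1 hl)
  obtain ⟨z', hz'⟩ := exists_prime_orderOf_dvd_card' p hcard
  set z : G := (z' : G) with hzdef
  have hz : orderOf z = p := by rw [hzdef, Subgroup.orderOf_coe]; exact hz'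
  obtain ⟨n, hn⟩ := mem_zpowers_iff.1 z'.2
  have hn' : e ^ n = z := hn
  have hzinv : s * z * s⁻¹ = z⁻¹ := by
    rw [← hn', ← conj_zpow, hinv, inv_zpow]
  have hzu : z * u = u * z := by
    rw [← hn']
    exact (heu.zpow_left n).eq
  have h1 := L.commute hu hzu hz (s := s) (by rw [hzinv]; exact inv_mem (mem_zpowers z))
  have h2 : z = z⁻¹ := by
    rw [← hzinv, h1, mul_inv_cancel_right]
  have h3 : z ^ 2 = 1 := by
    rw [pow_two]
    nth_rewrite 2 [h2]
    exact mul_inv_cancel z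
  have h4 := orderOf_dvd_of_pow_eq_one h3
  rw [hz] at h4
  exact hp2 ((Nat.prime_dvd_prime_iff_eq hpf.out Nat.prime_two).1 h4)

/-- a four-group normalizing an abelian `p`-group centralizes it -/
theorem Loc.four {φ x : G} (L : Loc p φ x) (hp2 : p ≠ 2) {A : Subgroup G} (hA : IsPGroup p A)
    (hAc : ∀ a ∈ A, ∀ b ∈ A, a * b = b * a) {v w : G} (hv : v * v = 1) (hw : w * w = 1) (hvw : v * w = w * v)
    (hv1 : v ≠ 1) (hw1 : w ≠ 1) (hne : v ≠ w) (hvA : v ∈ normalizer (A : Set G))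
    (hwA : w ∈ normalizer (A : Set G)) : ∀ a ∈ A, v * a = a * v ∧ w * a = a * w := by
  have ov : orderOf v = 2 := orderOf_eq_prime (by rw [pow_two]; exact hv) hv1
  have ow : orderOf w = 2 := orderOf_eq_prime (by rw [pow_two]; exact hw) hw1
  have hv' : v⁻¹ = v := inv_eq_of_mul_eq_one_left hv
  have hw' : w⁻¹ = w := inv_eq_of_mul_eq_one_left hw
  have ovw : orderOf (v * w) = 2 := by
    refine orderOf_eq_prime ?_ ?_
    · rw [pow_two]
      calc v * w * (v * w) = v * (w * v) * w := by group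
        _ = v * (v * w) * w := by rw [hvw]
        _ = (v * v) * (w * w) := by group
        _ = 1 := by rw [hv, hw, one_mul]
    · intro h1
      apply hne
      have h2 : v = w⁻¹ := mul_eq_one_iff_eq_inv.1 h1
      rw [h2, hw']
  have step : ∀ u : G, orderOf u = 2 → v * u = u * v → w * u = u * w → ∀ a ∈ A, a * u = u * a →
      v * a = a * v ∧ w * a = a * w := fun u hu h1 h2 a ha hau =>
    ⟨L.fixed hp2 hA hu hv h1 hvA ha hau, L.fixed hp2 hA hu hw h2 hwA ha hau⟩
  have hmul : ∀ a b : G, (v * a = a * v ∧ w * a = a * w) → (v * b = b * v ∧ w * b = b * w) →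
      (v * (a * b) = a * b * v ∧ w * (a * b) = a * b * w) := fun a b h1 h2 =>
    ⟨((show Commute v a from h1.1).mul_right h2.1).eq, ((show Commute w a from h1.2).mul_right h2.2).eq⟩
  have hsq : ∀ a ∈ A, (v * (a * a) = a * a * v ∧ w * (a * a) = a * a * w) → (v * a = a * v ∧ w * a = a * w) := by
    intro a ha h1
    have hcop : Nat.Coprime (orderOf a) 2 := by
      obtain ⟨k, hk⟩ := hA ⟨a, ha⟩
      have hk' : a ^ p ^ k = 1 := congrArg Subtype.val hk
      refine Nat.Coprime.coprime_dvd_left (orderOf_dvd_of_pow_eq_one hk') (Nat.Coprime.pow_left k ?_)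
      exact (Nat.coprime_primes hpf.out Nat.prime_two).2 hp2
    obtain ⟨m, hm⟩ := exists_pow_eq_self_of_coprime hcop.symm
    rw [pow_two] at hm
    constructor
    · have h2 := (show Commute v (a * a) from h1.1).pow_right m
      rw [hm] at h2
      exact h2.eq
    · have h2 := (show Commute w (a * a) from h1.2).pow_right m
      rw [hm] at h2
      exact h2.eq
  have hcv : ∀ a ∈ A, v * a * v⁻¹ ∈ A := fun a ha => (mem_normalizer_iff.1 hvA a).1 ha
  have hcw : ∀ a ∈ A, w * a * w⁻¹ ∈ A := fun a ha => (mem_normalizer_iff.1 hwA a).1 ha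
  -- the part inverted by `v`
  have hi : ∀ i ∈ A, v * i * v⁻¹ = i⁻¹ → (v * i = i * v ∧ w * i = i * w) := by
    intro i hiA hiv
    apply hsq i hiA
    have hwi := hcw i hiA
    have e1 : i * i = (i * (w * i * w⁻¹)) * (i * (w * i * w⁻¹)⁻¹) := by
      calc i * i = i * (i * ((w * i * w⁻¹) * (w * i * w⁻¹)⁻¹)) := by rw [mul_inv_cancel, mul_one]
        _ = i * ((i * (w * i * w⁻¹)) * (w * i * w⁻¹)⁻¹) := by group
        _ = i * (((w * i * w⁻¹) * i) * (w * i * w⁻¹)⁻¹) := by rw [hAc _ hiA _ hwi]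
        _ = (i * (w * i * w⁻¹)) * (i * (w * i * w⁻¹)⁻¹) := by group
    rw [e1]
    apply hmul
    · -- fixed by `w`
      refine step w ow hvw rfl _ (mul_mem hiA hwi) ?_
      have h1 : w * (i * (w * i * w⁻¹)) * w⁻¹ = i * (w * i * w⁻¹) := by
        calc w * (i * (w * i * w⁻¹)) * w⁻¹ = (w * i * w⁻¹) * ((w * w) * i * (w * w)⁻¹) := by group
          _ = (w * i * w⁻¹) * i := by rw [hw]; group
          _ = i * (w * i * w⁻¹) := (hAc _ hiA _ hwi).symm
      exact (mul_inv_eq_iff_eq_mul.1 h1).symm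
    · -- fixed by `v w`
      refine step (v * w) ovw ?_ ?_ _ (mul_mem hiA (inv_mem hwi)) ?_
      · calc v * (v * w) = v * (w * v) := by rw [hvw]
          _ = v * w * v := by group
      · calc w * (v * w) = (w * v) * w := by group
          _ = v * w * w := by rw [hvw]
      · have hwv : w * v = v * w := hvw.symm
        have h1 : v * (w * i * w⁻¹) * v⁻¹ = (w * i * w⁻¹)⁻¹ := by
          calc v * (w * i * w⁻¹) * v⁻¹ = (v * w) * i * (v * w)⁻¹ := by group
            _ = (w * v) * i * (w * v)⁻¹ := by rw [hvw]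
            _ = w * (v * i * v⁻¹) * w⁻¹ := by group
            _ = w * i⁻¹ * w⁻¹ := by rw [hiv]
            _ = (w * i * w⁻¹)⁻¹ := by group
        have h2 : (v * w) * (i * (w * i * w⁻¹)⁻¹) * (v * w)⁻¹ = i * (w * i * w⁻¹)⁻¹ := by
          calc (v * w) * (i * (w * i * w⁻¹)⁻¹) * (v * w)⁻¹
              = (v * (w * i * w⁻¹) * v⁻¹) * (v * ((w * w) * i * (w * w)⁻¹) * v⁻¹)⁻¹ := by group
            _ = (w * i * w⁻¹)⁻¹ * (v * i * v⁻¹)⁻¹ := by rw [h1, hw]; group
            _ = (w * i * w⁻¹)⁻¹ * i := by rw [hiv, inv_inv]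
            _ = i * (w * i * w⁻¹)⁻¹ := (hAc _ hiA _ (inv_mem hwi)).symm
        exact (mul_inv_eq_iff_eq_mul.1 h2).symm
  intro a ha
  apply hsq a ha
  have hva := hcv a ha
  have e1 : a * a = (a * (v * a * v⁻¹)) * (a * (v * a * v⁻¹)⁻¹) := by
    calc a * a = a * (a * ((v * a * v⁻¹) * (v * a * v⁻¹)⁻¹)) := by rw [mul_inv_cancel, mul_one]
      _ = a * ((a * (v * a * v⁻¹)) * (v * a * v⁻¹)⁻¹) := by group
      _ = a * (((v * a * v⁻¹) * a) * (v * a * v⁻¹)⁻¹) := by rw [hAc _ ha _ hva]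
      _ = (a * (v * a * v⁻¹)) * (a * (v * a * v⁻¹)⁻¹) := by group
  rw [e1]
  apply hmul
  · refine step v ov rfl hvw.symm _ (mul_mem ha hva) ?_
    have h1 : v * (a * (v * a * v⁻¹)) * v⁻¹ = a * (v * a * v⁻¹) := by
      calc v * (a * (v * a * v⁻¹)) * v⁻¹ = (v * a * v⁻¹) * ((v * v) * a * (v * v)⁻¹) := by group
        _ = (v * a * v⁻¹) * a := by rw [hv]; group
        _ = a * (v * a * v⁻¹) := (hAc _ ha _ hva).symm
    exact (mul_inv_eq_iff_eq_mul.1 h1).symm
  · apply hi _ (mul_mem ha (inv_mem hva))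
    calc v * (a * (v * a * v⁻¹)⁻¹) * v⁻¹ = (v * a * v⁻¹) * ((v * v) * a * (v * v)⁻¹)⁻¹ := by group
      _ = (v * a * v⁻¹) * a⁻¹ := by rw [hv]; group
      _ = (a * (v * a * v⁻¹)⁻¹)⁻¹ := by group

/-- the case of a four-group in `N(ZJ(P))` -/
theorem Loc.case_four {φ x : G} (L : Loc p φ x) (hp2 : p ≠ 2) (hab : AbTwo G) (P : Sylow p G)
    (hP1 : (P : Subgroup G) ≠ ⊥)
    (H4c : ∀ v : G, orderOf v = 2 → ∀ R : Subgroup G, IsPGroup p R → R ≤ centralizer ({v} : Set G) → IsCyclic R)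
    (H5 : ∃ K : Subgroup (centralizer ({x} : Set G)), K.Normal ∧ K.index = p)
    {v w : G} (hv : v * v = 1) (hw : w * w = 1) (hvw : v * w = w * v) (hv1 : v ≠ 1) (hw1 : w ≠ 1) (hne : v ≠ w)
    (hvA : v ∈ normalizer (centerThompsonOf p (P : Subgroup G) : Set G))
    (hwA : w ∈ normalizer (centerThompsonOf p (P : Subgroup G) : Set G)) : commutator G ≠ ⊤ := by
  set A := centerThompsonOf p (P : Subgroup G) with hAdef
  have hAp : IsPGroup p A := P.isPGroup'.to_le (centerThompsonOf_le p _)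
  have hAc : ∀ a ∈ A, ∀ b ∈ A, a * b = b * a := fun a ha b hb => centerThompsonOf_comm ha hb
  have hA1 : A ≠ ⊥ := S0118.centerThompsonOf_ne_bot P.isPGroup' hP1
  have hfour := L.four hp2 hAp hAc hv hw hvw hv1 hw1 hne hvA hwA
  have ov : orderOf v = 2 := orderOf_eq_prime (by rw [pow_two]; exact hv) hv1
  have hAv : A ≤ centralizer ({v} : Set G) := by
    intro a ha
    exact mem_centralizer_singleton_iff.2 (hfour a ha).1.symm
  have hcyc : IsCyclic A := H4c v ov A hAp hAv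
  have hpA : p ∣ Nat.card A := by
    obtain ⟨n, hn⟩ := IsPGroup.iff_card.1 hAp
    rw [hn]
    refine dvd_pow_self p ?_
    rintro rfl
    rw [pow_zero] at hn
    exact hA1 (Subgroup.card_eq_one.1 hn)
  obtain ⟨z', hz'⟩ := exists_prime_orderOf_dvd_card' p hpA
  set z : G := (z' : G) with hzdef
  have hz : orderOf z = p := by rw [hzdef, Subgroup.orderOf_coe]; exact hz'
  have hzA : z ∈ A := z'.2
  have hzv : z * v = v * z := (hfour z hzA).1.symm
  have hN : normalizer (A : Set G) ≤ centralizer ({z} : Set G) := by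
    intro n hn
    refine mem_centralizer_singleton_iff.2 (L.commute ov hzv hz ?_)
    have h1 : n * z * n⁻¹ ∈ A := (mem_normalizer_iff.1 hn z).1 hzA
    have h2 : (⟨n * z * n⁻¹, h1⟩ : A) ∈ zpowers z' := by
      refine mem_zpowers_of_cyclic hpf.out.pos hz' ?_
      apply Subtype.ext
      change (n * z * n⁻¹) ^ p = 1
      rw [conj_pow, ← hz, pow_orderOf_eq_one, mul_one, mul_inv_cancel]
    obtain ⟨k, hk⟩ := mem_zpowers_iff.1 h2
    exact mem_zpowers_iff.2 ⟨k, congrArg Subtype.val hk⟩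
  obtain ⟨g, hg⟩ := L.H4 v ov z hzv hz
  have hgo : orderOf (g * z * g⁻¹) = p := by
    rw [← hz]
    exact orderOf_injective (MulAut.conj g).toMonoidHom (MulAut.conj g).injective z
  have hzx : zpowers (g * z * g⁻¹) = zpowers x := by
    refine Subgroup.eq_of_le_of_card_ge (zpowers_le.2 hg) ?_
    rw [Nat.card_zpowers, Nat.card_zpowers, hgo, L.x_ord]
  have hCeq : centralizer ({g * z * g⁻¹} : Set G) = centralizer ({x} : Set G) := by
    have e1 : ∀ a : G, centralizer ((zpowers a : Subgroup G) : Set G) = centralizer {a} := by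
      intro a
      rw [zpowers_eq_closure, centralizer_closure]
    rw [← e1, ← e1, hzx]
  obtain ⟨K0, hK0n, hK0⟩ := H5
  let c : centralizer ({z} : Set G) →* centralizer ({x} : Set G) :=
    { toFun := fun y => ⟨g * y * g⁻¹, by
        rw [← hCeq, mem_centralizer_singleton_iff]
        have h1 := mem_centralizer_singleton_iff.1 y.2
        calc g * y * g⁻¹ * (g * z * g⁻¹) = g * ((y : G) * z) * g⁻¹ := by group
          _ = g * (z * y) * g⁻¹ := by rw [h1]
          _ = g * z * g⁻¹ * (g * y * g⁻¹) := by group⟩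
      map_one' := by
        apply Subtype.ext
        change g * ((1 : centralizer ({z} : Set G)) : G) * g⁻¹ = 1
        rw [Subgroup.coe_one, mul_one, mul_inv_cancel]
      map_mul' := by
        intro a b
        apply Subtype.ext
        change g * ((a * b : centralizer ({z} : Set G)) : G) * g⁻¹ = g * a * g⁻¹ * (g * b * g⁻¹)
        rw [Subgroup.coe_mul]
        group }
  have hcs : Function.Surjective c := by
    rintro ⟨y, hy⟩
    rw [← hCeq, mem_centralizer_singleton_iff] at hy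
    refine ⟨⟨g⁻¹ * y * g, mem_centralizer_singleton_iff.2 ?_⟩, ?_⟩
    · calc g⁻¹ * y * g * z = g⁻¹ * (y * (g * z * g⁻¹)) * g := by group
        _ = g⁻¹ * ((g * z * g⁻¹) * y) * g := by rw [hy]
        _ = z * (g⁻¹ * y * g) := by group
    · apply Subtype.ext
      change g * (g⁻¹ * y * g) * g⁻¹ = y
      group
  have hidx : (K0.comap c).index = p := by rw [index_comap_of_surjective _ hcs, hK0]
  have hKn : (K0.comap c).Normal := hK0n.comap c
  refine commutator_ne_top hp2 hab P (H := centralizer ({z} : Set G)) hN hKn ?_ ?_ ?_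
  · have h1 : IsCyclic (centralizer ({z} : Set G) ⧸ K0.comap c) :=
      isCyclic_of_prime_card (p := p) (by rw [← index_eq_card, hidx])
    rw [← Subgroup.Normal.quotient_commutative_iff_commutator_le]
    exact ⟨⟨fun a b => (IsCyclic.commGroup (α := centralizer ({z} : Set G) ⧸ K0.comap c)).mul_comm a b⟩⟩
  · intro y
    refine ⟨1, ?_⟩
    rw [pow_one]
    have h1 := pow_index_mem (K0.comap c) y
    rwa [hidx] at h1
  · intro h1
    rw [h1, index_top] at hidx
    exact hpf.out.one_lt.ne hidx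

end Four

section Final

variable {G : Type u} [Group G] [Finite G] {p : ℕ} [hpf : Fact p.Prime]

/-- a group whose Sylow 2-subgroups have order at most 2 has a normal subgroup of odd order containing all the
elements of odd order -/
theorem exists_odd {N : Type u} [Group N] [Finite N] (hOS : BalLocal.OddSolvable.{u})
    (hS : ∀ a : N, (∃ k, a ^ 2 ^ k = 1) → a * a = 1)
    (hno : ∀ v w : N, v * v = 1 → w * w = 1 → v * w = w * v → v ≠ 1 → w ≠ 1 → v = w) :
    Group.IsSolvable N ∧ ∃ O : Subgroup N, O.Normal ∧ Odd (Nat.card O) ∧ ∀ h : N, Odd (orderOf h) → h ∈ O := by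
  have hf : Fact (Nat.Prime 2) := ⟨Nat.prime_two⟩
  obtain ⟨Q⟩ : Nonempty (Sylow 2 N) := inferInstance
  have hQsq : ∀ a ∈ (Q : Subgroup N), a * a = 1 := by
    intro a ha
    obtain ⟨k, hk⟩ := Q.isPGroup' ⟨a, ha⟩
    exact hS a ⟨k, congrArg Subtype.val hk⟩
  have hQab : ∀ a ∈ (Q : Subgroup N), ∀ b ∈ (Q : Subgroup N), a * b = b * a := by
    intro a ha b hb
    have hab := hQsq (a * b) (mul_mem ha hb)
    have ha' : a⁻¹ = a := inv_eq_of_mul_eq_one_left (hQsq a ha)
    have hb' : b⁻¹ = b := inv_eq_of_mul_eq_one_left (hQsq b hb)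
    have hc' : (a * b)⁻¹ = a * b := inv_eq_of_mul_eq_one_left hab
    rw [← hc', _root_.mul_inv_rev, ha', hb']
  -- at most one involution
  have hQ : ∀ a ∈ (Q : Subgroup N), ∀ b ∈ (Q : Subgroup N), a ≠ 1 → b ≠ 1 → a = b := fun a ha b hb ha1 hb1 =>
    hno a b (hQsq a ha) (hQsq b hb) (hQab a ha b hb) ha1 hb1
  have hNC : normalizer ((Q : Subgroup N) : Set N) ≤ centralizer ((Q : Subgroup N) : Set N) := by
    intro n hn
    rw [mem_centralizer_iff]
    intro a ha
    by_cases ha1 : a = 1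
    · rw [ha1, one_mul, mul_one]
    · have h1 : n * a * n⁻¹ ∈ (Q : Subgroup N) := (mem_normalizer_iff.1 hn a).1 ha
      have h2 : n * a * n⁻¹ = a := by
        refine hQ _ h1 _ ha ?_ ha1
        intro h3
        apply ha1
        have h4 : n * a = n := mul_inv_eq_one.1 h3
        exact mul_eq_left.1 h4
      exact (mul_inv_eq_iff_eq_mul.1 h2).symm
  set f := MonoidHom.transferSylow Q hNC with hfdef
  have hcompl := MonoidHom.ker_transferSylow_isComplement' Q hNC
  have hcard : Nat.card f.ker * Nat.card (Q : Subgroup N) = Nat.card N := hcompl.card_mul_card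
  have hodd : ¬ 2 ∣ Nat.card f.ker := by
    have h1 := (Q : Subgroup N).card_mul_index
    have h2 : Nat.card f.ker = (Q : Subgroup N).index := by
      have h3 : Nat.card (Q : Subgroup N) * Nat.card f.ker = Nat.card (Q : Subgroup N) * (Q : Subgroup N).index := by
        rw [h1, mul_comm]; exact hcard
      exact Nat.eq_of_mul_eq_mul_left Nat.card_pos h3
    rw [h2]
    exact Q.not_dvd_index
  have hOddc : Odd (Nat.card f.ker) := Nat.not_even_iff_odd.1 fun h => hodd h.two_dvd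
  refine ⟨?_, f.ker, inferInstance, hOddc, ?_⟩
  · have h1 : Group.IsSolvable f.ker := hOS f.ker hodd
    have h2 : Group.IsSolvable (Q : Subgroup N) := by
      refine Group.isSolvable_of_comm ?_
      intro a b
      exact Subtype.ext (hQab a a.2 b b.2)
    exact Group.isSolvable_of_ker_le_range f.ker.subtype f (by rw [range_subtype])
  · intro h hh
    rw [MonoidHom.mem_ker]
    have h1 : (f h) ^ orderOf h = 1 := by rw [← map_pow, pow_orderOf_eq_one, map_one]
    have h2 : f h * f h = 1 := Subtype.ext (hQsq _ (f h).2)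
    obtain ⟨j, hj⟩ := hh
    rw [hj, pow_add, pow_mul, pow_two, h2, one_pow, one_mul, pow_one] at h1
    exact h1

/-- reduction to an `r`-element -/
theorem exists_r {h : G} {T : Subgroup G} {α : ℕ} (hT : IsPGroup p T) (hT1 : T ≠ ⊥)
    (hhT : ∀ a ∈ T, h * a * h⁻¹ = a ^ α) (hho : Odd (orderOf h)) (hhp : (orderOf h).Coprime p)
    (hα : ¬ α ^ 2 ≡ 1 [MOD p]) :
    ∃ (r s a : ℕ), r.Prime ∧ r ≠ p ∧ r ≠ 2 ∧ orderOf (h ^ s) = r ^ a ∧ (∀ t ∈ T, h ^ s * t * (h ^ s)⁻¹ = t ^ α ^ s) ∧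
      ¬ (α ^ s) ^ 2 ≡ 1 [MOD p] ∧ ¬ p ∣ α ^ s := by
  have hpow : ∀ s : ℕ, ∀ t ∈ T, h ^ s * t * (h ^ s)⁻¹ = t ^ α ^ s := by
    intro s
    induction s with
    | zero => intro t _; simp
    | succ s ih =>
      intro t ht
      calc h ^ (s + 1) * t * (h ^ (s + 1))⁻¹ = h * (h ^ s * t * (h ^ s)⁻¹) * h⁻¹ := by rw [pow_succ']; group
        _ = h * t ^ α ^ s * h⁻¹ := by rw [ih t ht]
        _ = (h * t * h⁻¹) ^ α ^ s := (conj_pow).symm
        _ = t ^ α ^ (s + 1) := by rw [hhT t ht, ← pow_mul, ← pow_succ']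
  -- an element of order `p` of `T`
  have hpT : p ∣ Nat.card T := by
    obtain ⟨n, hn⟩ := IsPGroup.iff_card.1 hT
    rw [hn]
    refine dvd_pow_self p ?_
    rintro rfl
    rw [pow_zero] at hn
    exact hT1 (Subgroup.card_eq_one.1 hn)
  obtain ⟨t', ht'⟩ := exists_prime_orderOf_dvd_card' p hpT
  set t : G := (t' : G) with htdef
  have ht : orderOf t = p := by rw [htdef, Subgroup.orderOf_coe]; exact ht'
  have htT : t ∈ T := t'.2
  have hn : α ^ orderOf h ≡ 1 [MOD p] := by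
    have h1 := hpow (orderOf h) t htT
    rw [pow_orderOf_eq_one, one_mul, inv_one, mul_one] at h1
    have h2 : t ^ 1 = t ^ α ^ orderOf h := by rw [pow_one]; exact h1
    have h3 := pow_eq_pow_iff_modEq.1 h2
    rw [ht] at h3
    exact h3.symm
  -- the order of `α` modulo `p`
  have key : ∀ k : ℕ, α ^ k ≡ 1 [MOD p] ↔ orderOf (α : ZMod p) ∣ k := by
    intro k
    rw [orderOf_dvd_iff_pow_eq_one, ← ZMod.natCast_eq_natCast_iff]
    push_cast
    rfl
  set m := orderOf (α : ZMod p) with hm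
  have hmn : m ∣ orderOf h := (key _).1 hn
  have hm2 : ¬ m ∣ 2 := fun h1 => hα ((key 2).2 h1)
  have hm1 : m ≠ 1 := fun h1 => hm2 (by rw [h1]; exact one_dvd 2)
  set r := m.minFac with hrdef
  have hr : r.Prime := Nat.minFac_prime hm1
  have hrm : r ∣ m := Nat.minFac_dvd m
  have hrn : r ∣ orderOf h := hrm.trans hmn
  have hr2 : r ≠ 2 := by
    intro h1
    rw [h1] at hrn
    exact (Nat.not_even_iff_odd.2 hho) (even_iff_two_dvd.2 hrn)
  have hrp : r ≠ p := by
    intro h1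
    rw [h1] at hrn
    have h2 : p ∣ Nat.gcd (orderOf h) p := Nat.dvd_gcd hrn dvd_rfl
    rw [hhp] at h2
    exact hpf.out.one_lt.ne' (Nat.dvd_one.1 h2)
  obtain ⟨a, s, hs, hord⟩ := Nat.exists_eq_pow_mul_and_not_dvd (orderOf_pos h).ne' r hr.ne_one
  have hs0 : s ≠ 0 := by
    rintro rfl
    exact hs (dvd_zero r)
  refine ⟨r, s, a, hr, hrp, hr2, ?_, hpow s, ?_, ?_⟩
  · rw [orderOf_pow_of_dvd hs0 (by rw [hord]; exact dvd_mul_left s _), hord,
      Nat.mul_div_cancel _ (Nat.pos_of_ne_zero hs0)]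
  · intro h1
    rw [← pow_mul, key] at h1
    have h2 : r ∣ s * 2 := hrm.trans h1
    rcases (Nat.Prime.dvd_mul hr).1 h2 with h3 | h3
    · exact hs h3
    · exact hr2 ((Nat.prime_dvd_prime_iff_eq hr Nat.prime_two).1 h3)
  · intro h1
    have h2 : p ∣ α := hpf.out.dvd_of_dvd_pow h1
    have h3 : p ∣ α ^ orderOf h := dvd_pow h2 (orderOf_pos h).ne'
    have h4 := (Nat.modEq_zero_iff_dvd).2 h3
    have h5 : 1 ≡ 0 [MOD p] := hn.symm.trans h4
    exact hpf.out.one_lt.ne' (Nat.dvd_one.1 ((Nat.modEq_zero_iff_dvd).1 h5))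

/-- **Theorem.** -/
theorem no_field_local (hOS : BalLocal.OddSolvable.{u}) (hp2 : p ≠ 2)
    (hS : ∀ a : G, (∃ k, a ^ 2 ^ k = 1) → a * a = 1) {φ x h : G} {T : Subgroup G} {α : ℕ}
    (hφ : ∃ b, φ ^ p ^ b = 1) (hx : x ∈ zpowers φ) (hxo : orderOf x = p) (hT : IsPGroup p T) (hT1 : T ≠ ⊥)
    (hTab : ∀ a ∈ T, ∀ b ∈ T, a * b = b * a) (hTφ : ∀ a ∈ T, a * φ = φ * a)
    (hSyl : ∀ R : Subgroup G, IsPGroup p R → zpowers φ ⊔ T ≤ R → R ≤ centralizer ({φ} : Set G) →
      R ≤ zpowers φ ⊔ T)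
    (hhφ : h * φ = φ * h) (hhT : ∀ a ∈ T, h * a * h⁻¹ = a ^ α) (hho : Odd (orderOf h))
    (hhp : (orderOf h).Coprime p) (hα : ¬ α ^ 2 ≡ 1 [MOD p])
    (H2 : ∀ y ∈ zpowers φ, y ≠ 1 → ∀ g : G, g * y * g⁻¹ ∈ zpowers y → g * y = y * g)
    (H4c : ∀ v : G, orderOf v = 2 → ∀ R : Subgroup G, IsPGroup p R → R ≤ centralizer ({v} : Set G) → IsCyclic R)
    (H4 : ∀ v : G, orderOf v = 2 → ∀ y, y * v = v * y → orderOf y = p → ∃ g : G, g * y * g⁻¹ ∈ zpowers x)
    (H5 : ∃ K : Subgroup (centralizer ({x} : Set G)), K.Normal ∧ K.index = p) : commutator G ≠ ⊤ := by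
  have hab := abTwo hS
  have L : Loc p φ x := ⟨hx, hxo, H2, H4⟩
  -- `Y = ⟨φ⟩ T` is a `p`-group
  have hφp : IsPGroup p (zpowers φ) := by
    obtain ⟨b, hb⟩ := hφ
    obtain ⟨k, -, hk⟩ := (Nat.dvd_prime_pow hpf.out).1 (orderOf_dvd_of_pow_eq_one hb)
    exact IsPGroup.of_card (n := k) (by rw [Nat.card_zpowers, hk])
  have hφT : zpowers φ ≤ normalizer (T : Set G) := by
    rw [zpowers_le]
    refine centralizer_le_normalizer _ ?_
    rw [mem_centralizer_iff]
    exact fun a ha => hTφ a ha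
  have hYp : IsPGroup p (zpowers φ ⊔ T : Subgroup G) := IsPGroup.to_sup_of_normal_right' hφp hT hφT
  have hYmem : ∀ y ∈ (zpowers φ ⊔ T : Subgroup G), ∃ i : ℤ, ∃ t ∈ T, y = φ ^ i * t := fun y hy =>
    mem_sup_zpowers hTφ hy
  obtain ⟨P, hYP⟩ := hYp.exists_le_sylow
  have hP1 : (P : Subgroup G) ≠ ⊥ := by
    intro h1
    rw [h1, le_bot_iff] at hYP
    apply hT1
    rw [eq_bot_iff, ← hYP]
    exact le_sup_right
  set N := normalizer (centerThompsonOf p (P : Subgroup G) : Set G) with hNdef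
  by_cases hfour : ∃ v ∈ N, ∃ w ∈ N, v * v = 1 ∧ w * w = 1 ∧ v * w = w * v ∧ v ≠ 1 ∧ w ≠ 1 ∧ v ≠ w
  · obtain ⟨v, hvN, w, hwN, hv, hw, hvw, hv1, hw1, hne⟩ := hfour
    exact L.case_four hp2 hab P hP1 H4c H5 hv hw hvw hv1 hw1 hne hvN hwN
  -- the solvable case
  have hPN : (P : Subgroup G) ≤ N :=
    Subgroup.le_normalizer.trans (normalizer_le_normalizer_centerThompsonOf p (P : Subgroup G))
  obtain ⟨hNs, O, hOn, hOo, hO⟩ := exists_odd (N := N) hOS (by
    rintro a ⟨k, hk⟩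
    exact Subtype.ext (hS a ⟨k, congrArg Subtype.val hk⟩)) (by
    intro v w hv hw hvw hv1 hw1
    by_contra hne
    exact hfour ⟨v, v.2, w, w.2, congrArg Subtype.val hv, congrArg Subtype.val hw, congrArg Subtype.val hvw,
      fun h1 => hv1 (Subtype.ext h1), fun h1 => hw1 (Subtype.ext h1), fun h1 => hne (Subtype.ext h1)⟩)
  obtain ⟨r, s, a, hr, hrp, hr2, hord, hsT, hα2, hα0⟩ := exists_r hT hT1 hhT hho hhp hα
  have hsφ : h ^ s * φ = φ * h ^ s := ((show Commute h φ from hhφ).pow_left s).eq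
  have hsφi : ∀ i : ℤ, h ^ s * φ ^ i * (h ^ s)⁻¹ = φ ^ i := by
    intro i
    rw [((show Commute (h ^ s) φ from hsφ).zpow_right i).eq, mul_inv_cancel_right]
  obtain ⟨h', hh'N, ⟨b, hb⟩, hh'⟩ := exists_h hp2 hab P hYP hr hord (by
    intro y hy
    obtain ⟨i, t, ht, rfl⟩ := hYmem y hy
    have e : h ^ s * (φ ^ i * t) * (h ^ s)⁻¹ = (h ^ s * φ ^ i * (h ^ s)⁻¹) * (h ^ s * t * (h ^ s)⁻¹) := by group
    rw [e, hsφi, hsT t ht]
    exact mul_mem (mem_sup_left (zpow_mem (mem_zpowers φ) i)) (mem_sup_right (pow_mem ht _)))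
  have hφY : φ ∈ (zpowers φ ⊔ T : Subgroup G) := mem_sup_left (mem_zpowers φ)
  have hφN : φ ∈ N := hPN (hYP hφY)
  have hTN : T ≤ N := le_sup_right.trans (hYP.trans hPN)
  have h'φ : h' * φ = φ * h' := by
    have h1 := hh' φ hφY
    have h2 := hsφi 1
    rw [zpow_one] at h2
    rw [h2] at h1
    exact mul_inv_eq_iff_eq_mul.1 h1
  have h'T : ∀ t ∈ T, h' * t * h'⁻¹ = t ^ α ^ s := by
    intro t ht
    rw [hh' t (mem_sup_right ht), hsT t ht]
  have LD : LocData p r (α ^ s) (⟨φ, hφN⟩ : N) ⟨h', hh'N⟩ (T.subgroupOf N) O :=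
    { φp := by
        obtain ⟨k, hk⟩ := IsPGroup.iff_card.1 hφp
        refine IsPGroup.of_card (n := k) ?_
        rw [← hk, Nat.card_zpowers, Nat.card_zpowers, Subgroup.orderOf_mk]
      φ1 := by
        intro h1
        have h2 : φ = 1 := congrArg Subtype.val h1
        rw [h2, zpowers_one_eq_bot, mem_bot] at hx
        rw [hx, orderOf_one] at hxo
        exact hpf.out.one_lt.ne hxo
      Tp := hT.comap_of_injective N.subtype N.subtype_injective
      T1 := by
        intro h1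
        rw [subgroupOf_eq_bot, disjoint_iff, inf_eq_left.2 hTN] at h1
        exact hT1 h1
      Tab := fun a ha b hb => Subtype.ext (hTab _ (mem_subgroupOf.1 ha) _ (mem_subgroupOf.1 hb))
      Tφ := fun a ha => Subtype.ext (hTφ _ (mem_subgroupOf.1 ha))
      syl := by
        intro R hR hYR y hy
        obtain ⟨hyR, hyφ⟩ := mem_inf.1 hy
        have h1 : (R.map N.subtype ⊓ centralizer ({φ} : Set G)) ≤ zpowers φ ⊔ T := by
          refine hSyl _ ((hR.map N.subtype).to_inf_left) ?_ inf_le_right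
          refine le_inf ?_ ?_
          · refine sup_le ?_ ?_
            · rw [zpowers_le]
              exact ⟨⟨φ, hφN⟩, hYR (mem_sup_left (mem_zpowers _)), rfl⟩
            · intro t ht
              exact ⟨⟨t, hTN ht⟩, hYR (mem_sup_right (mem_subgroupOf.2 ht)), rfl⟩
          · refine sup_le ?_ ?_
            · rw [zpowers_le]
              exact mem_centralizer_singleton_iff.2 rfl
            · intro t ht
              exact mem_centralizer_singleton_iff.2 (hTφ t ht)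
        have h2 : (y : G) ∈ zpowers φ ⊔ T := h1 (mem_inf.2 ⟨⟨y, hyR, rfl⟩,
          mem_centralizer_singleton_iff.2 (congrArg Subtype.val (mem_centralizer_singleton_iff.1 hyφ))⟩)
        obtain ⟨i, t, ht, hyt⟩ := hYmem _ h2
        have h3 : y = (⟨φ, hφN⟩ : N) ^ i * ⟨t, hTN ht⟩ := Subtype.ext hyt
        rw [h3]
        exact mul_mem (mem_sup_left (zpow_mem (mem_zpowers _) i)) (mem_sup_right (mem_subgroupOf.2 ht))
      hφ := Subtype.ext h'φ
      hT := fun a ha => Subtype.ext (h'T _ (mem_subgroupOf.1 ha))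
      hr := ⟨b, by rw [Subgroup.orderOf_mk]; exact hb⟩
      rp := hrp
      α0 := hα0
      α2 := hα2
      H2 := by
        intro y hy hy1 g hg
        apply Subtype.ext
        refine H2 y ?_ (fun h1 => hy1 (Subtype.ext h1)) g ?_
        · obtain ⟨i, hi⟩ := mem_zpowers_iff.1 hy
          exact mem_zpowers_iff.2 ⟨i, congrArg Subtype.val hi⟩
        · obtain ⟨i, hi⟩ := mem_zpowers_iff.1 hg
          exact mem_zpowers_iff.2 ⟨i, congrArg Subtype.val hi⟩
      On := hOn
      Oo := hOo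
      hO := by
        apply hO
        rw [Subgroup.orderOf_mk, hb]
        exact (hr.odd_of_ne_two hr2).pow }
  have hrf : Fact r.Prime := ⟨hr⟩
  obtain ⟨K, hKn, hφK, hKc, hKp⟩ := end_solvable LD hNs
  exact commutator_ne_top hp2 hab P (H := N) le_rfl hKn hKc hKp (fun h1 => hφK (by rw [h1]; trivial))

end Final

end Cfsg.Agent.Walter.NoFieldLocalGlue
end

-- part: Walter/NoFieldLocalFin
section
/-!
# The local theorem in the form used for the torus branch
-/

set_option autoImplicit false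

namespace Cfsg.Agent.Walter.NoFieldLocalFin

open Subgroup Cfsg

universe u

theorem thm (hOS : BalLocal.OddSolvable.{u}) : FieldTorus.NoFieldLocalThm.{u} := by
  intro G _ _ p _ hp2 hS φ x h T α hφ hx hxo hT hT1 hTab hTφ hSyl hhφ hhT hho hhp hα H2 H4c H4 H5
  exact NoFieldLocalGlue.no_field_local hOS hp2 hS hφ hx hxo hT hT1 hTab hTφ hSyl hhφ hhT hho hhp hα H2 H4c H4 H5

end Cfsg.Agent.Walter.NoFieldLocalFin
end

-- part: Walter/StepAll
section
/-!
# Simple groups with abelian Sylow 2-subgroups: the induction step, without hypotheses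
-/

set_option autoImplicit false

namespace Cfsg.Agent.Walter.StepAll

universe u

/-- There are no field automorphisms. -/
theorem noField : LastCase.NoFieldThm.{u} :=
  FieldMain.noField (NoFieldLocalFin.thm Final.oddSolvable) Final.oddSolvable Final.centThm Final.reeThm

/-- **The induction step.** -/
theorem step : Main.Step.{u} := Final.step_of noField

end Cfsg.Agent.Walter.StepAll
end
end
end
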