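import Cfsg.Agent.Walter.NoFieldTransfer
import Cfsg.Agent.Walter.Cover_m3
import Cfsg.Agent.Walter.PSLFacts
import Cfsg.Agent.ClassicalGeometry.PSLTorus
import Cfsg.Agent.ClassicalGeometry.PSL2Basic
import Cfsg.Agent.Lib.PSL2Torus
import Cfsg.Agent.Lib.AutSL2
import Cfsg.Agent.FastGrp
import Cfsg.Agent.Prune
set_option linter.all false
prune_inst 0x7ffcfcf8afb8addfffff7e7fffdddffdb9fcdfffbcdffb7bffe8e9ffcfdf230259e5fb8d3fe058fe1ed6c2bc10a87803fd7eeeffea6bdc7ffffd5ff45ffbee1fa5e7bd0871d68c3e0fbc6fffe3f17f8e7f3fffffffffffffffffffffffffffbefffdffffffff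
open scoped Cfsg.Agent.FastGrp

-- part: Walter/MetaTransfer
section
/-!
# Transfer to a Sylow subgroup and the Sylow lemma

* `exists_hom`: `P` is a Sylow `p`-subgroup of `G`, `g ∈ P` has order `p ^ n`, `lam : P →* A` is trivial on the
  elements of order less than `p ^ n` and takes the value `lam g ≠ 1` at all `G`-conjugates of `g` in `P`. Then `G` has
  a nontrivial homomorphism into `A`.
* `not_dvd_index`: a `p`-subgroup `P` of `C(t)` (`t` an involution, Sylow 2-subgroups abelian) of index prime to `p` in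
  `C(t)` is a Sylow subgroup of `G` if the `p`-elements of `C(P)` lie in `P` and the `p`-elements normalising a
  2-subgroup `T ∋ t` of `C(P)` centralise `t`.
-/

set_option autoImplicit false

namespace Cfsg.Agent.Walter.MetaTransfer

open Subgroup
open scoped Pointwise

section transfer

variable {G A : Type*} [Group G] [Finite G] [CommGroup A]

/-- transfer into a Sylow `p`-subgroup -/
theorem transfer_ne_one {p : ℕ} (hp : p.Prime) {P : Subgroup G} (hind : ¬ p ∣ P.index)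
    (lam : P →* A) {g : G} (hg : g ∈ P) {n : ℕ} (hn : n ≠ 0) (hgn : orderOf g = p ^ n)
    (hsmall : ∀ y : P, (y : G) ^ (p ^ (n - 1)) = 1 → lam y = 1)
    (hconj : ∀ (x : G) (h : x⁻¹ * g * x ∈ P), lam ⟨x⁻¹ * g * x, h⟩ = lam ⟨g, hg⟩)
    (hA : lam ⟨g, hg⟩ ^ p = 1) (hne : lam ⟨g, hg⟩ ≠ 1) : lam.transfer g ≠ 1 := by
  have hpow : ∀ (k : ℕ) (x : G), x⁻¹ * g ^ k * x = (x⁻¹ * g * x) ^ k := by
    intro k x
    have := (MulAut.conj x⁻¹).toMonoidHom.map_pow g k
    simpa only [MulAut.conj_apply, _root_.map_inv, _root_.MulEquiv.toMonoidHom_eq_coe, _root_.MonoidHom.coe_coe, _root_.MulAut.inv_apply, _root_.MulAut.conj_symm_apply] using this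
  have key : ∀ (k : ℕ) (x : G) (h : x⁻¹ * g ^ k * x ∈ P),
      lam ⟨x⁻¹ * g ^ k * x, h⟩ = lam ⟨g, hg⟩ ^ k := by
    intro k x h
    have hord : orderOf (x⁻¹ * g * x) = p ^ n := by
      rw [← hgn]
      have := (MulAut.conj x⁻¹).orderOf_eq g
      simpa only [MulAut.conj_apply, _root_.map_inv, _root_.MulAut.inv_apply, _root_.MulAut.conj_symm_apply] using this
    by_cases hk : p ∣ k
    · obtain ⟨m, rfl⟩ := hk
      rw [show lam ⟨g, hg⟩ ^ (p * m) = 1 by rw [pow_mul, hA, one_pow]]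
      apply hsmall
      change (x⁻¹ * g ^ (p * m) * x) ^ (p ^ (n - 1)) = 1
      rw [hpow, ← pow_mul]
      have h1 : p * m * p ^ (n - 1) = p ^ n * m := by
        obtain ⟨l, rfl⟩ := Nat.exists_eq_succ_of_ne_zero hn
        simp only [Nat.succ_sub_one, Nat.succ_eq_add_one]
        ring
      rw [h1, pow_mul, ← hord, pow_orderOf_eq_one, one_pow]
    · have hcop : Nat.Coprime k (p ^ n) :=
        Nat.Coprime.pow_right n ((Nat.Prime.coprime_iff_not_dvd hp).2 hk).symm
      have hmem : x⁻¹ * g * x ∈ P := by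
        rw [hpow] at h
        obtain ⟨m, hm⟩ := exists_pow_eq_self_of_coprime (x := x⁻¹ * g * x) (n := k) (by rw [hord]; exact hcop)
        rw [← hm]
        exact pow_mem h m
      have h2 : (⟨x⁻¹ * g ^ k * x, h⟩ : P) = ⟨x⁻¹ * g * x, hmem⟩ ^ k := by
        apply Subtype.ext
        rw [SubmonoidClass.coe_pow]
        exact hpow k x
      rw [h2, map_pow, hconj x hmem]
  rw [NoFieldTransfer.transfer_eq_pow lam key]
  intro h
  apply hne
  have h1 : orderOf (lam ⟨g, hg⟩) ∣ Nat.gcd p P.index :=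
    Nat.dvd_gcd (orderOf_dvd_of_pow_eq_one hA) (orderOf_dvd_of_pow_eq_one h)
  rw [(Nat.Prime.coprime_iff_not_dvd hp).2 hind, Nat.dvd_one] at h1
  exact orderOf_eq_one_iff.1 h1

end transfer

section sylow

variable {G : Type*} [Group G]

/-- A `p`-subgroup `P` which contains all `p`-elements of its normalizer is a Sylow `p`-subgroup. -/
theorem not_dvd_index_of_normalizer [Finite G] {p : ℕ} (hp : p.Prime) {P : Subgroup G} (hP : IsPGroup p P)
    (h : ∀ Q : Subgroup G, IsPGroup p Q → P ≤ Q → Q ≤ normalizer (P : Set G) → Q = P) :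
    ¬ p ∣ P.index := by
  have : Fact p.Prime := ⟨hp⟩
  obtain ⟨Q, hQ⟩ := hP.exists_le_sylow
  have h1 : (Q : Subgroup G) = P := by
    by_contra hne
    have hlt : P < Q := lt_of_le_of_ne hQ (Ne.symm hne)
    have : Group.IsNilpotent (Q : Subgroup G) := Q.2.isNilpotent
    have h2 := (Group.normalizerCondition_of_isNilpotent (G := (Q : Subgroup G))) (P.subgroupOf Q) (by
      rw [lt_top_iff_ne_top, Ne, subgroupOf_eq_top]
      exact fun h3 => hne (le_antisymm h3 hQ))
    have h3 : normalizer ((P.subgroupOf (Q : Subgroup G)) : Set (Q : Subgroup G)) =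
        (normalizer (P : Set G)).subgroupOf Q := by
      rw [subgroupOf_normalizer_eq hQ]
    rw [h3] at h2
    have h4 := h (normalizer (P : Set G) ⊓ Q) (Q.2.to_le inf_le_right)
      (le_inf le_normalizer hQ) inf_le_left
    apply h2.2
    intro x hx
    rw [mem_subgroupOf] at hx ⊢
    rw [← h4]
    exact ⟨hx, x.2⟩
  rw [← h1]
  exact Q.not_dvd_index

/-- powers of `c * q` modulo a subgroup normalised by `q` -/
theorem exists_pow_mul {C : Subgroup G} {c q : G} (hc : c ∈ C) (hq : ∀ x ∈ C, q * x * q⁻¹ ∈ C) (n : ℕ) :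
    ∃ c' ∈ C, (c * q) ^ n = c' * q ^ n := by
  induction n with
  | zero => exact ⟨1, C.one_mem, by simp⟩
  | succ n ih =>
    obtain ⟨c', hc', h⟩ := ih
    refine ⟨c * (q * c' * q⁻¹), C.mul_mem hc (hq c' hc'), ?_⟩
    rw [pow_succ', h, pow_succ']
    group

/-- the `p`-part of `y` agrees with `y` modulo `C` if `y ^ (p ^ a) ∈ C` -/
theorem exists_pPart [Finite G] {p : ℕ} (hp : p.Prime) {C : Subgroup G} {y : G} {a : ℕ} (hy : y ^ (p ^ a) ∈ C) :
    ∃ m : ℕ, (∃ k : ℕ, (y ^ m) ^ (p ^ k) = 1) ∧ y * (y ^ m)⁻¹ ∈ C := by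
  obtain ⟨s, n', hn', hs⟩ := Nat.exists_eq_pow_mul_and_not_dvd (orderOf_pos y).ne' p hp.ne_one
  have hcop : Nat.Coprime (p ^ a) n' := Nat.Coprime.pow_left a ((Nat.Prime.coprime_iff_not_dvd hp).2 hn')
  obtain ⟨m, hm1, hm2⟩ := Nat.chineseRemainder hcop 1 0
  refine ⟨m, ⟨s, ?_⟩, ?_⟩
  · obtain ⟨l, hl⟩ := (Nat.modEq_zero_iff_dvd.1 hm2)
    rw [← pow_mul, hl, show n' * l * p ^ s = orderOf y * l by rw [hs]; ring, pow_mul,
      pow_orderOf_eq_one, one_pow]
  · have h1 : y * (y ^ m)⁻¹ = y ^ ((1 : ℤ) - m) := by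
      rw [zpow_sub, zpow_one, zpow_natCast]
    have h2 : ((p ^ a : ℕ) : ℤ) ∣ (1 : ℤ) - m := by
      have := (Nat.modEq_iff_dvd.1 hm1)
      simpa only [_root_.Nat.cast_pow, _root_.Nat.cast_one] using this
    obtain ⟨l, hl⟩ := h2
    rw [h1, hl, zpow_mul, zpow_natCast]
    exact zpow_mem hy l

/-- **Sylow lemma.** -/
theorem not_dvd_index [Finite G] {p : ℕ} (hp : p.Prime) {t : G} (ht : ∃ k : ℕ, t ^ (2 ^ k) = 1) {P : Subgroup G}
    (hP : IsPGroup p P) (hPt : P ≤ centralizer ({t} : Set G))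
    (hmax : ∀ Q : Subgroup G, IsPGroup p Q → P ≤ Q → Q ≤ centralizer ({t} : Set G) → Q = P)
    (hC : ∀ y ∈ centralizer (P : Set G), (∃ k : ℕ, y ^ (p ^ k) = 1) → y ∈ P)
    (hT : ∀ T : Subgroup G, IsPGroup 2 T → T ≤ centralizer (P : Set G) → t ∈ T →
      ∀ y ∈ normalizer (T : Set G), (∃ k : ℕ, y ^ (p ^ k) = 1) → y * t = t * y) :
    ¬ p ∣ P.index := by
  have h2 : Fact (Nat.Prime 2) := ⟨Nat.prime_two⟩
  have hpf : Fact p.Prime := ⟨hp⟩
  refine not_dvd_index_of_normalizer hp hP ?_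
  intro Q hQ hPQ hQN
  refine le_antisymm ?_ hPQ
  intro q hq
  set C := centralizer (P : Set G) with hCdef
  -- a Sylow 2-subgroup of `C` containing `t`
  have htC : t ∈ C := by
    rw [hCdef, mem_centralizer_iff]
    intro x hx
    have := hPt hx
    rw [mem_centralizer_singleton_iff] at this
    exact this
  have hZ : IsPGroup 2 (zpowers (⟨t, htC⟩ : C)) := by
    rintro ⟨x, hx⟩
    obtain ⟨i, rfl⟩ := mem_zpowers_iff.1 hx
    obtain ⟨k, hk⟩ := ht
    refine ⟨k, ?_⟩
    apply Subtype.ext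
    apply Subtype.ext
    simp only [SubmonoidClass.coe_pow, SubgroupClass.coe_zpow, OneMemClass.coe_one]
    rw [← zpow_natCast, ← zpow_mul, mul_comm, zpow_mul, zpow_natCast, hk, one_zpow]
  obtain ⟨T0, hT0⟩ := hZ.exists_le_sylow
  set T : Subgroup G := (T0 : Subgroup C).map C.subtype with hTdef
  have hTp : IsPGroup 2 T := T0.2.map _
  have hTC : T ≤ C := map_subtype_le _
  have htT : t ∈ T := ⟨⟨t, htC⟩, hT0 (mem_zpowers _), rfl⟩
  -- `q` normalises `P` and `C`
  have hqN : ∀ x ∈ normalizer (P : Set G), ∀ y ∈ C, x * y * x⁻¹ ∈ C := by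
    intro x hx y hy
    rw [hCdef, mem_centralizer_iff] at hy ⊢
    intro h hh
    have h1 : x⁻¹ * h * x ∈ P := by
      have := (mem_normalizer_iff.1 (inv_mem hx) h).1 hh
      simpa using this
    have h3 := hy _ h1
    have h4 : x * (x⁻¹ * h * x * y) * x⁻¹ = x * (y * (x⁻¹ * h * x)) * x⁻¹ := by rw [h3]
    have h5 : x * (x⁻¹ * h * x * y) * x⁻¹ = h * (x * y * x⁻¹) := by group
    have h6 : x * (y * (x⁻¹ * h * x)) * x⁻¹ = x * y * x⁻¹ * h := by group
    rw [h5, h6] at h4
    exact h4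
  -- Frattini
  obtain ⟨c, hcC, hcq⟩ : ∃ c ∈ C, c * q ∈ normalizer (T : Set G) := by
    -- conjugation by `q` as an automorphism of `C`
    have hqC := hqN q (hQN hq)
    have hqC' : ∀ y ∈ C, q⁻¹ * y * q ∈ C := by
      have := hqN q⁻¹ (inv_mem (hQN hq))
      simpa only [_root_.inv_inv] using this
    let θ : MulAut C :=
      { toFun := fun x => ⟨q * x * q⁻¹, hqC x x.2⟩
        invFun := fun x => ⟨q⁻¹ * x * q, hqC' x x.2⟩
        left_inv := fun x => Subtype.ext (by simp [mul_assoc])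
        right_inv := fun x => Subtype.ext (by simp [mul_assoc])
        map_mul' := fun x y => Subtype.ext (by simp only [mul_assoc, _root_.Subgroup.coe_mul, _root_.MulMemClass.mk_mul_mk, _root_.inv_mul_cancel_left]) }
    obtain ⟨c, hc⟩ := MulAction.exists_smul_eq C (θ • T0) T0
    refine ⟨c, c.2, ?_⟩
    have key : ∀ x : G, x ∈ T → (c * q : G) * x * (c * q : G)⁻¹ ∈ T := by
      rintro _ ⟨x, hx, rfl⟩
      refine ⟨c * θ x * c⁻¹, ?_, ?_⟩
      · rw [← hc]
        refine ⟨θ x, ⟨x, hx, rfl⟩, rfl⟩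
      · change (c : G) * (q * x * q⁻¹) * (c : G)⁻¹ = (c * q : G) * x * (c * q : G)⁻¹
        group
    exact mem_normalizer_fintype key
  -- the `p`-part of `c q`
  obtain ⟨a, ha⟩ : ∃ a : ℕ, q ^ (p ^ a) = 1 := by
    obtain ⟨a, ha⟩ := hQ ⟨q, hq⟩
    exact ⟨a, by simpa only [_root_.SubmonoidClass.mk_pow, _root_.OneMemClass.coe_one] using congrArg Subtype.val ha⟩
  obtain ⟨c', hc', hcc⟩ := exists_pow_mul hcC (hqN q (hQN hq)) (p ^ a)
  rw [ha, mul_one] at hcc
  obtain ⟨m, hm1, hm2⟩ := exists_pPart hp (C := C) (y := c * q) (a := a) (by rw [hcc]; exact hc')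
  set y := (c * q) ^ m with hy
  have hyT : y ∈ normalizer (T : Set G) := pow_mem hcq m
  have hyt := hT T hTp hTC htT y hyT hm1
  -- `y` normalises `P`
  have hCN : C ≤ normalizer (P : Set G) := centralizer_le_normalizer _
  have hyN : y ∈ normalizer (P : Set G) := pow_mem (mul_mem (hCN hcC) (hQN hq)) m
  have hyP : y ∈ P := by
    have h1 : IsPGroup p (zpowers y) := by
      rintro ⟨x, hx⟩
      obtain ⟨i, rfl⟩ := mem_zpowers_iff.1 hx
      obtain ⟨k, hk⟩ := hm1
      refine ⟨k, ?_⟩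
      apply Subtype.ext
      simp only [SubmonoidClass.coe_pow, OneMemClass.coe_one]
      rw [← zpow_natCast, ← zpow_mul, mul_comm, zpow_mul, zpow_natCast, hk, one_zpow]
    have h3 := hmax (P ⊔ zpowers y) (IsPGroup.to_sup_of_normal_left' hP h1 (by
      rw [zpowers_le]; exact hyN)) le_sup_left (sup_le hPt (by
      rw [zpowers_le, mem_centralizer_singleton_iff]; exact hyt))
    rw [← h3]
    exact mem_sup_right (mem_zpowers y)
  -- conclude
  have h1 : q * y⁻¹ ∈ C := by
    have h3 : q * y⁻¹ = c⁻¹ * (c * q * y⁻¹) := by group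
    rw [h3]
    exact mul_mem (inv_mem hcC) hm2
  have h3 : q * y⁻¹ ∈ P := by
    apply hC _ h1
    have h4 : q * y⁻¹ ∈ Q := mul_mem hq (inv_mem (hPQ hyP))
    obtain ⟨k, hk⟩ := hQ ⟨_, h4⟩
    exact ⟨k, by simpa using congrArg Subtype.val hk⟩
  have h4 : q = q * y⁻¹ * y := by group
  rw [h4]
  exact mul_mem h3 hyP

end sylow

end Cfsg.Agent.Walter.MetaTransfer
end

-- part: Walter/MetaCyclic
section
/-!
# Split metacyclic Sylow subgroups

`not_mem_commutator_of_cyclic`: `P = N⟨x⟩` is a Sylow `p`-subgroup of `G`, `p` odd, `N` is cyclic of order `p ^ (k + e)`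
and normal in `P`, `x` has order `p ^ e` and `C_N(x)` has order `p ^ k`. If `|C_G(x)|_p = p ^ (k + e)` and `x` is not
conjugate to another element of `⟨x⟩` then `x ∉ G'`.

`not_mem_commutator_of_wreath`: the same for `N` elementary abelian of order `p ^ p`, `x` of order `p`, `|C_N(x)| = p`.
-/

set_option autoImplicit false

namespace Cfsg.Agent.Walter.MetaCyclic

open Subgroup Finset

section general

variable {G : Type*} [Group G]

/-- transfer into `P / N` -/
theorem not_mem_commutator [Finite G] {p : ℕ} (hp : p.Prime) {P N : Subgroup G} (hind : ¬ p ∣ P.index)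
    (hN : ∀ y ∈ P, ∀ n ∈ N, y * n * y⁻¹ ∈ N)
    (hcomm : ∀ a ∈ P, ∀ b ∈ P, a * b * a⁻¹ * b⁻¹ ∈ N) {x : G} (hx : x ∈ P) {n : ℕ} (hn : n ≠ 0)
    (hxn : orderOf x = p ^ n) (hxN : x ^ (p ^ (n - 1)) ∉ N)
    (hconj : ∀ g : G, g * x * g⁻¹ ∈ P → (g * x * g⁻¹) * x⁻¹ ∈ N) : x ∉ commutator G := by
  have hnorm : (N.subgroupOf P).Normal := by
    refine ⟨fun n hn g => ?_⟩
    rw [mem_subgroupOf] at hn ⊢
    exact hN g g.2 n hn
  let hcg : CommGroup (P ⧸ N.subgroupOf P) :=
    { (inferInstance : Group (P ⧸ N.subgroupOf P)) with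
      mul_comm := by
        intro a b
        obtain ⟨a, rfl⟩ := QuotientGroup.mk_surjective a
        obtain ⟨b, rfl⟩ := QuotientGroup.mk_surjective b
        change ((a * b : P) : P ⧸ N.subgroupOf P) = ((b * a : P) : P ⧸ N.subgroupOf P)
        rw [eq_comm, QuotientGroup.eq, mem_subgroupOf]
        have h1 := hN _ (inv_mem (mul_mem b.2 a.2)) _ (hcomm a a.2 b b.2)
        have h2 : ((b : G) * a)⁻¹ * (a * b * (a : G)⁻¹ * (b : G)⁻¹) * ((b * a : G)⁻¹)⁻¹ =
            ((b : G) * a)⁻¹ * (a * b) := by group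
        rw [h2] at h1
        exact h1 }
  let lam : P →* (P ⧸ N.subgroupOf P) :=
    (powMonoidHom (p ^ (n - 1))).comp (QuotientGroup.mk' (N.subgroupOf P))
  have hlam : ∀ y : P, lam y = ((y ^ (p ^ (n - 1)) : P) : P ⧸ N.subgroupOf P) := fun y => rfl
  have hA : lam ⟨x, hx⟩ ^ p = 1 := by
    rw [← map_pow]
    have h1 : (⟨x, hx⟩ : P) ^ p = ⟨x ^ p, pow_mem hx p⟩ := rfl
    rw [hlam, h1]
    have h2 : (⟨x ^ p, pow_mem hx p⟩ : P) ^ (p ^ (n - 1)) = 1 := by
      apply Subtype.ext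
      change (x ^ p) ^ (p ^ (n - 1)) = 1
      rw [← pow_mul, ← pow_succ', Nat.sub_add_cancel (Nat.pos_of_ne_zero hn), ← hxn, pow_orderOf_eq_one]
    rw [h2]
    rfl
  have hne : lam ⟨x, hx⟩ ≠ 1 := by
    rw [hlam, Ne, QuotientGroup.eq_one_iff, mem_subgroupOf]
    exact hxN
  intro hxG
  have key := MetaTransfer.transfer_ne_one hp hind lam hx hn hxn ?_ ?_ hA hne
  · apply key
    have h1 : commutator G ≤ lam.transfer.ker := Abelianization.commutator_subset_ker _
    exact h1 hxG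
  · intro y hy
    rw [hlam]
    have h2 : y ^ (p ^ (n - 1)) = 1 := Subtype.ext (by simpa only [_root_.SubmonoidClass.coe_pow, _root_.OneMemClass.coe_one] using hy)
    rw [h2]
    rfl
  · intro g hg
    have h1 : x⁻¹⁻¹ = x := inv_inv x
    have h3 : (g⁻¹ * x * g⁻¹⁻¹) * x⁻¹ ∈ N := hconj g⁻¹ (by rw [inv_inv]; exact hg)
    rw [inv_inv] at h3
    have h4 : ((⟨g⁻¹ * x * g, hg⟩ : P) : P ⧸ N.subgroupOf P) = ((⟨x, hx⟩ : P) : P ⧸ N.subgroupOf P) := by
      rw [eq_comm, QuotientGroup.eq, mem_subgroupOf]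
      have h5 := hN _ (inv_mem hx) _ h3
      have h6 : x⁻¹ * (g⁻¹ * x * g * x⁻¹) * x⁻¹⁻¹ = x⁻¹ * (g⁻¹ * x * g) := by group
      rw [h6] at h5
      exact h5
    change ((⟨g⁻¹ * x * g, hg⟩ : P) : P ⧸ N.subgroupOf P) ^ _ = ((⟨x, hx⟩ : P) : P ⧸ N.subgroupOf P) ^ _
    rw [h4]

/-- counting a conjugacy class -/
theorem card_le_of_comm [Finite G] {P B : Subgroup G} {y : G}
    (h : ∀ g ∈ P, g * y * g⁻¹ * y⁻¹ ∈ B) :
    Nat.card P ≤ Nat.card B * Nat.card (P ⊓ centralizer ({y} : Set G) : Subgroup G) := by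
  set C := centralizer ({y} : Set G) with hC
  let f : P ⧸ C.subgroupOf P → B := Quotient.lift (fun g : P => (⟨g * y * (g : G)⁻¹ * y⁻¹, h g g.2⟩ : B)) (by
    intro a b hab
    apply Subtype.ext
    have h1 : a⁻¹ * b ∈ C.subgroupOf P := QuotientGroup.leftRel_apply.1 hab
    rw [mem_subgroupOf, hC, mem_centralizer_singleton_iff] at h1
    have h2 : ((a : G)⁻¹ * b) * y = y * ((a : G)⁻¹ * b) := h1
    change (a : G) * y * (a : G)⁻¹ * y⁻¹ = (b : G) * y * (b : G)⁻¹ * y⁻¹
    have h3 : (b : G) * y * (b : G)⁻¹ = a * (((a : G)⁻¹ * b) * y) * (b : G)⁻¹ := by group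
    rw [h3, h2]
    group)
  have hf : Function.Injective f := by
    intro a b
    refine Quotient.inductionOn₂ a b ?_
    intro a b hab
    have h1 : (a : G) * y * (a : G)⁻¹ * y⁻¹ = (b : G) * y * (b : G)⁻¹ * y⁻¹ := congrArg Subtype.val hab
    apply Quotient.sound
    refine QuotientGroup.leftRel_apply.2 ?_
    rw [mem_subgroupOf, hC, mem_centralizer_singleton_iff]
    change ((a : G)⁻¹ * b) * y = y * ((a : G)⁻¹ * b)
    have h2 : (a : G) * y * (a : G)⁻¹ = (b : G) * y * (b : G)⁻¹ := mul_right_cancel h1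
    have h3 : (a : G)⁻¹ * ((b : G) * y * (b : G)⁻¹) * b = ((a : G)⁻¹ * b) * y := by group
    rw [← h3, ← h2]
    group
  have h1 := Subgroup.card_eq_card_quotient_mul_card_subgroup (C.subgroupOf P)
  have h2 : Nat.card (P ⧸ C.subgroupOf P) ≤ Nat.card B := Nat.card_le_card_of_injective f hf
  have h3 : Nat.card (C.subgroupOf P) = Nat.card (P ⊓ C : Subgroup G) := by
    rw [inf_comm, ← subgroupOf_map_subtype]
    exact Nat.card_congr ((C.subgroupOf P).equivMapOfInjective _ P.subtype_injective).toEquiv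
  rw [h1, h3]
  exact Nat.mul_le_mul_right _ h2

end general

section arith

variable {p : ℕ}

theorem val_pow_sub (hp : p.Prime) (hp2 : p ≠ 2) {s : ℕ} (hs : 1 < s) (h1 : p ∣ s - 1) {n : ℕ} (hn : n ≠ 0) :
    padicValNat p (s ^ n - 1) = padicValNat p (s - 1) + padicValNat p n := by
  have : Fact p.Prime := ⟨hp⟩
  have h2 : ¬ p ∣ s := by
    intro h
    have h3 : p ∣ s - (s - 1) := Nat.dvd_sub h h1
    rw [Nat.sub_sub_self hs.le] at h3
    exact hp.one_lt.ne' (Nat.dvd_one.1 h3)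
  have h3 := padicValNat.pow_sub_pow (p := p) (hp.odd_of_ne_two hp2) (x := s) (y := 1) hs h1 h2 hn
  rwa [one_pow] at h3

theorem val_geom (hp : p.Prime) (hp2 : p ≠ 2) {s : ℕ} (hs : 1 < s) (h1 : p ∣ s - 1) (e : ℕ) :
    padicValNat p (∑ i ∈ range (p ^ e), s ^ i) = e := by
  have : Fact p.Prime := ⟨hp⟩
  have h2 := val_pow_sub hp hp2 hs h1 (n := p ^ e) (pow_ne_zero _ hp.ne_zero)
  have h3 : (∑ i ∈ range (p ^ e), s ^ i) * (s - 1) = s ^ (p ^ e) - 1 := geom_sum_mul_of_one_le hs.le _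
  have h4 : ∑ i ∈ range (p ^ e), s ^ i ≠ 0 := by
    intro h
    rw [h, zero_mul] at h3
    have h5 : 1 < s ^ (p ^ e) := Nat.one_lt_pow (pow_ne_zero _ hp.ne_zero) hs
    omega
  rw [← h3, padicValNat.mul h4 (by omega), padicValNat.prime_pow] at h2
  omega

theorem pow_dvd_of_dvd_mul (hp : p.Prime) {k e i S : ℕ} (hS : padicValNat p S = e) (hS0 : S ≠ 0)
    (h : p ^ (k + e) ∣ i * S) : p ^ k ∣ i := by
  have : Fact p.Prime := ⟨hp⟩
  by_cases hi : i = 0
  · rw [hi]; exact dvd_zero _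
  have h1 := (padicValNat_dvd_iff_le (p := p) (mul_ne_zero hi hS0)).1 h
  rw [padicValNat.mul hi hS0, hS] at h1
  exact (padicValNat_dvd_iff_le hi).2 (by omega)

end arith

section cyclic

variable {G : Type*} [Group G] {b x : G} {r : ℕ}

theorem conj_pow_pow (h : x * b * x⁻¹ = b ^ r) (j i : ℕ) : x ^ j * b ^ i * (x ^ j)⁻¹ = b ^ (i * r ^ j) := by
  induction j generalizing i with
  | zero => simp
  | succ j ih =>
    have h1 : x ^ (j + 1) * b ^ i * (x ^ (j + 1))⁻¹ = x ^ j * (x * b ^ i * x⁻¹) * (x ^ j)⁻¹ := by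
      rw [pow_succ]; group
    have h2 : x * b ^ i * x⁻¹ = b ^ (r * i) := by
      have := (MulAut.conj x).toMonoidHom.map_pow b i
      simp only [MulEquiv.coe_toMonoidHom, MulAut.conj_apply] at this
      rw [this, h, ← pow_mul]
    rw [h1, h2, ih]
    congr 1
    ring

theorem mul_pow_eq (h : x * b * x⁻¹ = b ^ r) (i j n : ℕ) :
    (b ^ i * x ^ j) ^ n = b ^ (i * ∑ l ∈ range n, (r ^ j) ^ l) * x ^ (j * n) := by
  induction n with
  | zero => simp
  | succ n ih =>
    rw [pow_succ', ih, geom_sum_succ]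
    have h1 := conj_pow_pow h j (i * ∑ l ∈ range n, (r ^ j) ^ l)
    have h2 : b ^ i * x ^ j * (b ^ (i * ∑ l ∈ range n, (r ^ j) ^ l) * x ^ (j * n)) =
        b ^ i * (x ^ j * b ^ (i * ∑ l ∈ range n, (r ^ j) ^ l) * (x ^ j)⁻¹) * (x ^ j * x ^ (j * n)) := by
      group
    rw [h2, h1, ← pow_add, ← pow_add]
    congr 2
    · ring
    · ring

/-- complement by counting -/
theorem exists_mul_of_card [Finite G] {P N : Subgroup G} (hNP : N ≤ P) (hx : x ∈ P)
    (hdisj : N ⊓ zpowers x = ⊥) (hcard : Nat.card P ≤ Nat.card N * orderOf x) :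
    ∀ y ∈ P, ∃ j : ℕ, y * (x ^ j)⁻¹ ∈ N := by
  have hxP : zpowers x ≤ P := by rwa [zpowers_le]
  let f : N × zpowers x → P := fun a => ⟨a.1 * a.2, mul_mem (hNP a.1.2) (hxP a.2.2)⟩
  have hf : Function.Injective f := by
    rintro ⟨a, c⟩ ⟨a', c'⟩ h
    have h1 : (a : G) * c = a' * c' := congrArg Subtype.val h
    have h2 : (a' : G)⁻¹ * a = c' * (c : G)⁻¹ := by
      have : (a' : G)⁻¹ * (a * c) * (c : G)⁻¹ = (a' : G)⁻¹ * (a' * c') * (c : G)⁻¹ := by rw [h1]
      have h3 : (a' : G)⁻¹ * (a * c) * (c : G)⁻¹ = (a' : G)⁻¹ * a := by group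
      have h4 : (a' : G)⁻¹ * (a' * c') * (c : G)⁻¹ = c' * (c : G)⁻¹ := by group
      rw [← h3, ← h4, this]
    have h3 : (a' : G)⁻¹ * a ∈ N ⊓ zpowers x :=
      mem_inf.2 ⟨mul_mem (inv_mem a'.2) a.2, by rw [h2]; exact mul_mem c'.2 (inv_mem c.2)⟩
    rw [hdisj, mem_bot] at h3
    have h4 : (a : G) = a' := by
      rw [← mul_one (a' : G), ← h3]; group
    have h5 : (c : G) = c' := by
      rw [h3] at h2
      rw [← one_mul (c : G), h2]; group
    exact Prod.ext (Subtype.ext h4) (Subtype.ext h5)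
  have hsurj : Function.Surjective f := by
    refine (hf.bijective_of_nat_card_le ?_).2
    rw [Nat.card_prod, Nat.card_zpowers]
    exact hcard
  intro y hy
  obtain ⟨⟨a, c⟩, hac⟩ := hsurj ⟨y, hy⟩
  obtain ⟨j, hj⟩ := (mem_powers_iff_mem_zpowers (x := x) (y := (c : G))).2 c.2
  refine ⟨j, ?_⟩
  have h1 : (a : G) * c = y := congrArg Subtype.val hac
  have h2 : x ^ j = c := hj
  rw [h2, ← h1]
  have h3 : (a : G) * c * (c : G)⁻¹ = a := by group
  rw [h3]
  exact a.2

/-- **Split metacyclic Sylow subgroups.** -/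
theorem not_mem_commutator_of_cyclic [Finite G] {p : ℕ} (hp : p.Prime) (hp2 : p ≠ 2) {P N : Subgroup G}
    (hP : IsPGroup p P) (hind : ¬ p ∣ P.index) (hNP : N ≤ P) (hN : ∀ y ∈ P, ∀ n ∈ N, y * n * y⁻¹ ∈ N)
    (hcyc : IsCyclic N) (hx : x ∈ P) {k e : ℕ} (hk : k ≠ 0) (he : e ≠ 0) (hxe : orderOf x = p ^ e)
    (hdisj : N ⊓ zpowers x = ⊥) (hPN : ∀ y ∈ P, ∃ j : ℕ, y * (x ^ j)⁻¹ ∈ N)
    (hcardN : Nat.card N = p ^ (k + e))
    (hCN : Nat.card (N ⊓ centralizer ({x} : Set G) : Subgroup G) = p ^ k)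
    (hCG : ∀ Q : Subgroup G, Q ≤ centralizer ({x} : Set G) → IsPGroup p Q → Nat.card Q ≤ p ^ (k + e))
    (hconj : ∀ g : G, g * x * g⁻¹ ∈ zpowers x → g * x * g⁻¹ = x) : x ∉ commutator G := by
  have hpf : Fact p.Prime := ⟨hp⟩
  -- a generator of `N`
  obtain ⟨⟨b, hbN⟩, hb⟩ := hcyc.exists_generator
  have hbgen : ∀ n ∈ N, ∃ i : ℕ, b ^ i = n := by
    intro n hn
    obtain ⟨i, hi⟩ := (mem_powers_iff_mem_zpowers).2 (hb ⟨n, hn⟩)
    exact ⟨i, congrArg Subtype.val hi⟩
  have hob : orderOf b = p ^ (k + e) := by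
    rw [← hcardN, ← Nat.card_zpowers]
    congr 1
    have : zpowers b = N := by
      refine le_antisymm (by rwa [zpowers_le]) ?_
      intro n hn
      obtain ⟨i, rfl⟩ := hbgen n hn
      exact pow_mem (mem_zpowers b) i
    rw [this]
  have hbpow : ∀ i : ℕ, b ^ i = 1 ↔ p ^ (k + e) ∣ i := by
    intro i
    rw [← hob, orderOf_dvd_iff_pow_eq_one]
  have hb1 : b ≠ 1 := by
    intro h
    have h1 : p ^ (k + e) ∣ 1 := (hbpow 1).1 (by rw [h, one_pow])
    have h2 : 1 < p ^ (k + e) := Nat.one_lt_pow (by omega) hp.one_lt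
    exact absurd (Nat.le_of_dvd one_pos h1) (by omega)
  -- the action
  obtain ⟨r, hr1, hr⟩ : ∃ r : ℕ, 1 < r ∧ x * b * x⁻¹ = b ^ r := by
    obtain ⟨r, hr⟩ := hbgen _ (hN x hx b hbN)
    refine ⟨r + p ^ (k + e) * 2, ?_, ?_⟩
    · have : 1 < p ^ (k + e) := Nat.one_lt_pow (by omega) hp.one_lt
      omega
    · rw [pow_add, (hbpow (p ^ (k + e) * 2)).2 (dvd_mul_right _ _), mul_one, hr]
  -- fixed points
  have hfix : ∀ i : ℕ, b ^ i ∈ centralizer ({x} : Set G) ↔ p ^ (k + e) ∣ i * (r - 1) := by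
    intro i
    rw [mem_centralizer_singleton_iff, ← hbpow]
    have h1 := conj_pow_pow hr 1 i
    rw [pow_one, pow_one] at h1
    have h2 : b ^ (i * r) = b ^ (i * (r - 1)) * b ^ i := by
      rw [← pow_add]
      congr 1
      obtain ⟨s, rfl⟩ : ∃ s, r = s + 1 := ⟨r - 1, by omega⟩
      simp only [Nat.add_sub_cancel]
      ring
    rw [h2] at h1
    constructor
    · intro h
      have h3 : x * b ^ i * x⁻¹ = b ^ i := by
        rw [← h]; group
      rw [h3] at h1
      exact (mul_eq_right.1 h1.symm)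
    · intro h
      rw [h, one_mul] at h1
      have h3 : x * b ^ i = b ^ i * x := by
        have : x * b ^ i * x⁻¹ * x = b ^ i * x := by rw [h1]
        rw [← this]; group
      exact h3.symm
  -- `p ^ k` exactly divides `r - 1`
  have hv : padicValNat p (r - 1) = k := by
    have hr0 : r - 1 ≠ 0 := by omega
    have hsub : (N ⊓ centralizer ({x} : Set G) : Subgroup G) = zpowers (b ^ (p ^ e)) := by
      have hle : (N ⊓ centralizer ({x} : Set G) : Subgroup G) ≤ zpowers (b ^ (p ^ e)) := by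
        intro n hn
        obtain ⟨i, rfl⟩ := hbgen n (mem_inf.1 hn).1
        have h1 : (b ^ i) ^ (p ^ k) = 1 := by
          have h2 : orderOf (⟨b ^ i, hn⟩ : (N ⊓ centralizer ({x} : Set G) : Subgroup G)) ∣ p ^ k := by
            rw [← hCN]; exact _root_.orderOf_dvd_natCard _
          rw [Subgroup.orderOf_mk] at h2
          exact orderOf_dvd_iff_pow_eq_one.1 h2
        rw [← pow_mul, hbpow, pow_add, mul_comm i] at h1
        have h2 : p ^ e ∣ i := Nat.dvd_of_mul_dvd_mul_left (pow_pos hp.pos k) h1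
        obtain ⟨j, rfl⟩ := h2
        rw [pow_mul]
        exact pow_mem (mem_zpowers _) j
      refine Subgroup.eq_of_le_of_card_ge hle ?_
      rw [hCN, Nat.card_zpowers, orderOf_pow_of_dvd (pow_ne_zero _ hp.ne_zero) (by
        rw [hob]; exact pow_dvd_pow p (by omega)), hob, Nat.pow_div (by omega) hp.pos]
      exact Nat.pow_le_pow_right hp.pos (by omega)
    have h1 : b ^ (p ^ e) ∈ centralizer ({x} : Set G) := by
      have : b ^ (p ^ e) ∈ (N ⊓ centralizer ({x} : Set G) : Subgroup G) := by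
        rw [hsub]; exact mem_zpowers _
      exact this.2
    rw [hfix, add_comm, pow_add] at h1
    have h2 : p ^ k ∣ r - 1 := Nat.dvd_of_mul_dvd_mul_left (pow_pos hp.pos e) h1
    have h3 : ¬ p ^ (k + 1) ∣ r - 1 := by
      intro h
      have h4 : b ^ (p ^ (e - 1)) ∈ centralizer ({x} : Set G) := by
        rw [hfix]
        have h5 : p ^ (k + e) = p ^ (e - 1) * p ^ (k + 1) := by
          rw [← pow_add]; congr 1; omega
        rw [h5]
        exact Nat.mul_dvd_mul_left _ h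
      have h5 : b ^ (p ^ (e - 1)) ∈ zpowers (b ^ (p ^ e)) := by
        rw [← hsub]; exact ⟨pow_mem hbN _, h4⟩
      have h6 : Nat.card (zpowers (b ^ (p ^ (e - 1)))) ∣ Nat.card (zpowers (b ^ (p ^ e))) :=
        card_dvd_of_le (by rwa [zpowers_le])
      rw [Nat.card_zpowers, Nat.card_zpowers, orderOf_pow_of_dvd (pow_ne_zero _ hp.ne_zero) (by
        rw [hob]; exact pow_dvd_pow p (by omega)), orderOf_pow_of_dvd (pow_ne_zero _ hp.ne_zero) (by
        rw [hob]; exact pow_dvd_pow p (by omega)), hob, Nat.pow_div (by omega) hp.pos,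
        Nat.pow_div (by omega) hp.pos, Nat.pow_dvd_pow_iff_le_right hp.one_lt] at h6
      omega
    have h4 := (padicValNat_dvd_iff_le hr0).1 h2
    have h5 := mt (padicValNat_dvd_iff_le hr0).2 h3
    omega
  have hpr : p ∣ r - 1 := by
    have : p ^ k ∣ r - 1 := (padicValNat_dvd_iff_le (by omega)).2 hv.ge
    exact (dvd_pow_self p hk).trans this
  -- powers of `r`
  have hrj : ∀ j : ℕ, j ≠ 0 → 1 < r ^ j ∧ p ∣ r ^ j - 1 ∧ padicValNat p (r ^ j - 1) = k + padicValNat p j := by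
    intro j hj
    refine ⟨Nat.one_lt_pow hj hr1, ?_, ?_⟩
    · have h1 := Nat.sub_dvd_pow_sub_pow r 1 j
      rw [one_pow] at h1
      exact hpr.trans h1
    · rw [val_pow_sub hp hp2 hr1 hpr hj, hv]
  -- normal form
  have hform : ∀ y ∈ P, ∃ i j : ℕ, j ≠ 0 ∧ y = b ^ i * x ^ j := by
    intro y hy
    obtain ⟨j, hj⟩ := hPN y hy
    obtain ⟨i, hi⟩ := hbgen _ hj
    refine ⟨i, j + p ^ e, by have := pow_pos hp.pos e; omega, ?_⟩
    rw [pow_add, ← hxe, pow_orderOf_eq_one, mul_one, hi]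
    group
  have hxb : ∀ i j : ℕ, b ^ i * x ^ j ∈ P := fun i j => mul_mem (pow_mem (hNP hbN) i) (pow_mem hx j)
  -- elements with `y ^ (p ^ e) = 1`
  have hpow : ∀ i j : ℕ, j ≠ 0 → (b ^ i * x ^ j) ^ (p ^ e) = 1 → p ^ k ∣ i := by
    intro i j hj h
    obtain ⟨h1, h2, -⟩ := hrj j hj
    rw [mul_pow_eq hr, mul_comm j, pow_mul x, ← hxe, pow_orderOf_eq_one, one_pow, mul_one, hxe, hbpow] at h
    refine pow_dvd_of_dvd_mul hp (val_geom hp hp2 h1 h2 e) ?_ h
    intro h3
    have h4 := val_geom hp hp2 h1 h2 e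
    rw [h3, padicValNat_zero_right] at h4
    omega
  refine not_mem_commutator hp hind hN ?_ hx he hxe ?_ ?_
  · -- commutators
    intro y hy z hz
    obtain ⟨i, j, -, rfl⟩ := hform y hy
    obtain ⟨i', j', -, rfl⟩ := hform z hz
    have h1 := conj_pow_pow hr j i'
    have h2 := conj_pow_pow hr j' i
    have h3 : b ^ i * x ^ j * (b ^ i' * x ^ j') * (b ^ i * x ^ j)⁻¹ * (b ^ i' * x ^ j')⁻¹ =
        b ^ i * (x ^ j * b ^ i' * (x ^ j)⁻¹) * (x ^ j' * b ^ i * (x ^ j')⁻¹)⁻¹ * (b ^ i')⁻¹ := by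
      have h4 : x ^ j * x ^ j' = x ^ j' * x ^ j := by rw [← pow_add, ← pow_add, add_comm]
      have h5 : x ^ j * x ^ j' * (x ^ j)⁻¹ = x ^ j' := by rw [h4]; group
      calc b ^ i * x ^ j * (b ^ i' * x ^ j') * (b ^ i * x ^ j)⁻¹ * (b ^ i' * x ^ j')⁻¹
          = b ^ i * (x ^ j * b ^ i' * (x ^ j)⁻¹) * (x ^ j * x ^ j' * (x ^ j)⁻¹) * (b ^ i)⁻¹ *
              (x ^ j')⁻¹ * (b ^ i')⁻¹ := by group
        _ = _ := by rw [h5]; group
    rw [h3, h1, h2]
    exact mul_mem (mul_mem (mul_mem (pow_mem hbN _) (pow_mem hbN _)) (inv_mem (pow_mem hbN _)))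
      (inv_mem (pow_mem hbN _))
  · -- `x ^ (p ^ (e - 1)) ∉ N`
    intro h
    have h1 : x ^ (p ^ (e - 1)) ∈ N ⊓ zpowers x := ⟨h, pow_mem (mem_zpowers x) _⟩
    rw [hdisj, mem_bot, ← orderOf_dvd_iff_pow_eq_one, hxe, Nat.pow_dvd_pow_iff_le_right hp.one_lt] at h1
    omega
  · intro g hg
    set y := g * x * g⁻¹ with hy
    have hoy : orderOf y = p ^ e := by
      rw [← hxe]
      exact (MulAut.conj g).orderOf_eq x
    have hy1 : y ^ (p ^ e) = 1 := by rw [← hoy, pow_orderOf_eq_one]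
    obtain ⟨i, j, hj, hyij⟩ := hform y hg
    have hki : p ^ k ∣ i := hpow i j hj (by rw [← hyij]; exact hy1)
    obtain ⟨h1, h2, h3⟩ := hrj j hj
    by_cases hpj : p ∣ j
    · -- impossible
      exfalso
      -- commutators with `y`
      have hcl : ∀ z ∈ P, z * y * z⁻¹ * y⁻¹ ∈ zpowers (b ^ (p ^ (k + 1))) := by
        intro z hz
        obtain ⟨a, c, hc, rfl⟩ := hform z hz
        have h4 := conj_pow_pow hr c i
        have h5 := conj_pow_pow hr j a
        have h6 : b ^ a * x ^ c * y * (b ^ a * x ^ c)⁻¹ * y⁻¹ =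
            b ^ a * (x ^ c * b ^ i * (x ^ c)⁻¹) * (x ^ j * b ^ a * (x ^ j)⁻¹)⁻¹ * (b ^ i)⁻¹ := by
          rw [hyij]
          have h4 : x ^ c * x ^ j = x ^ j * x ^ c := by rw [← pow_add, ← pow_add, add_comm]
          have h5 : x ^ c * x ^ j * (x ^ c)⁻¹ = x ^ j := by rw [h4]; group
          calc b ^ a * x ^ c * (b ^ i * x ^ j) * (b ^ a * x ^ c)⁻¹ * (b ^ i * x ^ j)⁻¹
              = b ^ a * (x ^ c * b ^ i * (x ^ c)⁻¹) * (x ^ c * x ^ j * (x ^ c)⁻¹) * (b ^ a)⁻¹ *
                (x ^ j)⁻¹ * (b ^ i)⁻¹ := by group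
            _ = _ := by rw [h5]; group
        rw [h6, h4, h5]
        -- exponents
        have e1 : b ^ (i * r ^ c) = b ^ i * b ^ (i * (r ^ c - 1)) := by
          rw [← pow_add]
          congr 1
          have : 1 ≤ r ^ c := Nat.one_le_pow _ _ (by omega)
          obtain ⟨s, hs⟩ : ∃ s, r ^ c = s + 1 := ⟨r ^ c - 1, by omega⟩
          rw [hs, Nat.add_sub_cancel]
          ring
        have e2 : b ^ (a * r ^ j) = b ^ a * b ^ (a * (r ^ j - 1)) := by
          rw [← pow_add]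
          congr 1
          have : 1 ≤ r ^ j := Nat.one_le_pow _ _ (by omega)
          obtain ⟨s, hs⟩ : ∃ s, r ^ j = s + 1 := ⟨r ^ j - 1, by omega⟩
          rw [hs, Nat.add_sub_cancel]
          ring
        have e3 : b ^ a * (b ^ i * b ^ (i * (r ^ c - 1))) * (b ^ a * b ^ (a * (r ^ j - 1)))⁻¹ * (b ^ i)⁻¹ =
            b ^ (i * (r ^ c - 1)) * (b ^ (a * (r ^ j - 1)))⁻¹ := by
          simp only [← zpow_natCast, ← zpow_add, ← zpow_neg]
          congr 1
          ring
        rw [e1, e2, e3]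
        refine mul_mem ?_ (inv_mem ?_)
        · have d1 : p ^ (k + 1) ∣ i * (r ^ c - 1) := by
            obtain ⟨-, c2, -⟩ := hrj c hc
            rw [pow_succ]
            exact Nat.mul_dvd_mul hki c2
          obtain ⟨l, hl⟩ := d1
          rw [hl, pow_mul]
          exact pow_mem (mem_zpowers _) l
        · have d1 : p ^ (k + 1) ∣ a * (r ^ j - 1) := by
            apply dvd_mul_of_dvd_right
            rw [padicValNat_dvd_iff_le (by omega), h3]
            have : 1 ≤ padicValNat p j := one_le_padicValNat_of_dvd hj hpj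
            omega
          obtain ⟨l, hl⟩ := d1
          rw [hl, pow_mul]
          exact pow_mem (mem_zpowers _) l
      have hle := card_le_of_comm hcl
      -- the centralizer
      have hCy : Nat.card (P ⊓ centralizer ({y} : Set G) : Subgroup G) ≤ p ^ (k + e) := by
        have h4 : ((P ⊓ centralizer ({y} : Set G) : Subgroup G).map (MulAut.conj g⁻¹).toMonoidHom) ≤
            centralizer ({x} : Set G) := by
          rintro _ ⟨z, hz, rfl⟩
          have h5 := (mem_centralizer_singleton_iff.1 hz.2)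
          rw [mem_centralizer_singleton_iff]
          change g⁻¹ * z * g⁻¹⁻¹ * x = x * (g⁻¹ * z * g⁻¹⁻¹)
          have h6 : g⁻¹ * z * g⁻¹⁻¹ * x = g⁻¹ * (z * y) * g := by rw [hy]; group
          have h7 : x * (g⁻¹ * z * g⁻¹⁻¹) = g⁻¹ * (y * z) * g := by rw [hy]; group
          rw [h6, h7, h5]
        have h5 := hCG _ h4 ((hP.to_le inf_le_left).map _)
        rwa [Subgroup.card_map_of_injective (MulAut.conj g⁻¹).injective] at h5
      have hBcard : Nat.card (zpowers (b ^ (p ^ (k + 1)))) = p ^ (e - 1) := by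
        rw [Nat.card_zpowers, orderOf_pow_of_dvd (pow_ne_zero _ hp.ne_zero) (by
          rw [hob]; exact pow_dvd_pow p (by omega)), hob, Nat.pow_div (by omega) hp.pos]
        congr 1
        omega
      have hPcard : p ^ (k + e) * p ^ e ≤ Nat.card P := by
        let f : N × zpowers x → P := fun a => ⟨a.1 * a.2, mul_mem (hNP a.1.2)
          ((zpowers_le.2 hx) a.2.2)⟩
        have hf : Function.Injective f := by
          rintro ⟨a, c⟩ ⟨a', c'⟩ h
          have h1 : (a : G) * c = a' * c' := congrArg Subtype.val h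
          have h2 : (a' : G)⁻¹ * a = c' * (c : G)⁻¹ := by
            have : (a' : G)⁻¹ * (a * c) * (c : G)⁻¹ = (a' : G)⁻¹ * (a' * c') * (c : G)⁻¹ := by rw [h1]
            have h3 : (a' : G)⁻¹ * (a * c) * (c : G)⁻¹ = (a' : G)⁻¹ * a := by group
            have h4 : (a' : G)⁻¹ * (a' * c') * (c : G)⁻¹ = c' * (c : G)⁻¹ := by group
            rw [← h3, ← h4, this]
          have h3 : (a' : G)⁻¹ * a ∈ N ⊓ zpowers x :=
            mem_inf.2 ⟨mul_mem (inv_mem a'.2) a.2, by rw [h2]; exact mul_mem c'.2 (inv_mem c.2)⟩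
          rw [hdisj, mem_bot] at h3
          have h4 : (a : G) = a' := by
            rw [← mul_one (a' : G), ← h3]; group
          have h5 : (c : G) = c' := by
            rw [h3] at h2
            rw [← one_mul (c : G), h2]; group
          exact Prod.ext (Subtype.ext h4) (Subtype.ext h5)
        have h4 := Nat.card_le_card_of_injective f hf
        rwa [Nat.card_prod, Nat.card_zpowers, hcardN, hxe] at h4
      have h4 : p ^ (k + e) * p ^ e ≤ p ^ (e - 1) * p ^ (k + e) := by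
        refine hPcard.trans (hle.trans ?_)
        rw [hBcard]
        exact Nat.mul_le_mul_left _ hCy
      rw [mul_comm] at h4
      have h5 := Nat.le_of_mul_le_mul_right h4 (pow_pos hp.pos _)
      have h6 : p ^ (e - 1) < p ^ e := Nat.pow_lt_pow_right hp.one_lt (by omega)
      omega
    · -- `y` is conjugate to `x ^ j`
      obtain ⟨i', rfl⟩ := hki
      have hvj : padicValNat p j = 0 := padicValNat.eq_zero_of_not_dvd hpj
      rw [hvj, add_zero] at h3
      obtain ⟨u, hu⟩ : p ^ k ∣ r ^ j - 1 := (padicValNat_dvd_iff_le (by omega)).2 h3.ge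
      have hpu : ¬ p ∣ u := by
        rintro ⟨u', rfl⟩
        have h4 : p ^ (k + 1) ∣ r ^ j - 1 := ⟨u', by rw [hu]; ring⟩
        rw [padicValNat_dvd_iff_le (by omega), h3] at h4
        omega
      have hcop : IsCoprime (u : ℤ) ((p ^ e : ℕ) : ℤ) := by
        rw [Nat.isCoprime_iff_coprime]
        exact (Nat.Coprime.pow_left e ((Nat.Prime.coprime_iff_not_dvd hp).2 hpu)).symm
      obtain ⟨α, β, hαβ⟩ := hcop
      obtain ⟨m, hm⟩ : ∃ m : ℤ, m = α * i' := ⟨_, rfl⟩
      have hxj : b ^ m * y * (b ^ m)⁻¹ = x ^ j := by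
        have h4 := conj_pow_pow hr j 1
        have h5 : x ^ j * b ^ m * (x ^ j)⁻¹ = b ^ (m * (r ^ j : ℕ)) := by
          rw [pow_one, one_mul] at h4
          have := (MulAut.conj (x ^ j)).toMonoidHom.map_zpow b m
          simp only [MulEquiv.coe_toMonoidHom, MulAut.conj_apply] at this
          rw [this, h4, mul_comm m, zpow_mul, zpow_natCast]
        have h6 : b ^ m * y * (b ^ m)⁻¹ = b ^ m * b ^ (p ^ k * i') * (x ^ j * b ^ m * (x ^ j)⁻¹)⁻¹ * x ^ j := by
          rw [hyij]; group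
        rw [h6, h5]
        have h7 : b ^ m * b ^ (p ^ k * i') * (b ^ (m * (r ^ j : ℕ)))⁻¹ = 1 := by
          rw [← zpow_natCast b (p ^ k * i'), ← zpow_neg, ← zpow_add, ← zpow_add,
            ← orderOf_dvd_iff_zpow_eq_one, hob]
          have h8 : ((r ^ j : ℕ) : ℤ) = 1 + p ^ k * u := by
            have : r ^ j = 1 + p ^ k * u := by omega
            rw [this]; push_cast; ring
          refine ⟨β * i', ?_⟩
          rw [h8, hm]
          push_cast
          have h9 : (p : ℤ) ^ (k + e) = p ^ k * (p ^ e : ℕ) := by push_cast; ring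
          rw [h9]
          have h10 : (β : ℤ) * ((p ^ e : ℕ) : ℤ) = 1 - α * u := by linarith only [hαβ]
          calc α * i' + p ^ k * i' + -(α * i' * (1 + p ^ k * u))
              = p ^ k * i' * (1 - α * u) := by ring
            _ = p ^ k * i' * (β * ((p ^ e : ℕ) : ℤ)) := by rw [h10]
            _ = _ := by ring
        rw [h7, one_mul]
      have h4 := hconj (b ^ m * g) (by
        have h5 : b ^ m * g * x * (b ^ m * g)⁻¹ = b ^ m * y * (b ^ m)⁻¹ := by rw [hy]; group
        rw [h5, hxj]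
        exact pow_mem (mem_zpowers x) j)
      have h5 : b ^ m * g * x * (b ^ m * g)⁻¹ = b ^ m * y * (b ^ m)⁻¹ := by rw [hy]; group
      rw [h5, hxj] at h4
      rw [hyij, h4]
      have h6 : b ^ (p ^ k * i') * x * x⁻¹ = b ^ (p ^ k * i') := by group
      rw [h6]
      exact pow_mem hbN _

end cyclic

end Cfsg.Agent.Walter.MetaCyclic
end

-- part: Walter/MetaWreath
section
/-!
# Sylow subgroups which are extensions of an elementary abelian group of order `p ^ p` by a group of order `p`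
-/

set_option autoImplicit false

namespace Cfsg.Agent.Walter.MetaWreath

open Subgroup Finset

section norm

open Polynomial in
theorem poly_identity {p : ℕ} (hp : p.Prime) :
    ∑ i ∈ range p, (X : (ZMod p)[X]) ^ i = (X - 1) ^ (p - 1) := by
  have : Fact p.Prime := ⟨hp⟩
  have h1 : (∑ i ∈ range p, (X : (ZMod p)[X]) ^ i) * (X - 1) = (X - 1) ^ (p - 1) * (X - 1) := by
    rw [geom_sum_mul, ← pow_succ, Nat.sub_add_cancel hp.one_lt.le, sub_pow_char, one_pow]
  have h2 : (X : (ZMod p)[X]) - 1 ≠ 0 := by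
    have := Polynomial.X_sub_C_ne_zero (1 : ZMod p)
    rwa [map_one] at this
  exact mul_right_cancel₀ h2 h1

theorem card_le_mul {V : Type*} [AddCommGroup V] [Finite V] (f : V →+ V) (M : AddSubgroup V) :
    Nat.card M ≤ Nat.card (M.map f) * Nat.card f.ker := by
  have h1 := AddSubgroup.card_eq_card_quotient_mul_card_addSubgroup (f.addSubgroupMap M).ker
  have h2 : Nat.card (M ⧸ (f.addSubgroupMap M).ker) = Nat.card (M.map f) :=
    Nat.card_congr (QuotientAddGroup.quotientKerEquivOfSurjective _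
      (f.addSubgroupMap_surjective M)).toEquiv
  rw [h1, h2]
  refine Nat.mul_le_mul_left _ ?_
  refine Nat.card_le_card_of_injective
    (fun v : (f.addSubgroupMap M).ker => (⟨v.1.1, ?_⟩ : f.ker)) ?_
  · have := v.2
    rw [AddMonoidHom.mem_ker] at this ⊢
    exact congrArg Subtype.val this
  · intro v w h
    apply Subtype.ext
    apply Subtype.ext
    have h3 := congrArg Subtype.val h
    exact h3

/-- The norm of an automorphism of order `p` with few fixed points is not trivial. -/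
theorem exists_norm_ne_zero {p : ℕ} (hp : p.Prime) {V : Type*} [AddCommGroup V] [Finite V]
    (hV : ∀ v : V, p • v = 0) (σ : V →+ V) (hker : Nat.card (σ - AddMonoidHom.id V).ker ≤ p)
    (hcard : p ^ (p - 1) < Nat.card V) : ∃ v : V, ∑ i ∈ range p, (σ^[i]) v ≠ 0 := by
  have : Fact p.Prime := ⟨hp⟩
  obtain ⟨hmod⟩ : Nonempty (Module (ZMod p) V) := ⟨AddCommGroup.zmodModule hV⟩
  let A : V →ₗ[ZMod p] V := AddMonoidHom.toZModLinearMap p σ
  have hA : (fun v => A v) = (fun v => σ v) := rfl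
  let δ : V →+ V := σ - AddMonoidHom.id V
  -- the sum is a power of `σ - 1`
  have h1 := congrArg (Polynomial.aeval (A : Module.End (ZMod p) V)) (poly_identity hp)
  simp only [map_sum, map_pow, map_sub, map_one, Polynomial.aeval_X] at h1
  have hsum : ∀ v, ∑ i ∈ range p, (σ^[i]) v = (δ^[p - 1]) v := by
    intro v
    have h2 := congrArg (fun B : Module.End (ZMod p) V => B v) h1
    simp only [LinearMap.sum_apply, Module.End.pow_apply, hA] at h2
    exact h2
  -- the images of the powers of `δ`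
  have hrange : ∀ n : ℕ, ∃ M : AddSubgroup V, (∀ m ∈ M, ∃ v, (δ^[n]) v = m) ∧
      Nat.card V ≤ Nat.card M * p ^ n := by
    intro n
    induction n with
    | zero => exact ⟨⊤, fun m _ => ⟨m, rfl⟩, by simp only [_root_.AddSubgroup.mem_top, _root_.nonempty_subtype, _root_.exists_const, _root_.Nat.card_subtype_true, _root_.pow_zero, _root_.mul_one, _root_.Std.le_refl]⟩
    | succ n ih =>
      obtain ⟨M, hM1, hM2⟩ := ih
      refine ⟨M.map δ, ?_, ?_⟩
      · rintro _ ⟨m, hm, rfl⟩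
        obtain ⟨v, rfl⟩ := hM1 m hm
        exact ⟨v, Function.iterate_succ_apply' _ _ _⟩
      · refine hM2.trans ?_
        have h2 := card_le_mul δ M
        calc Nat.card M * p ^ n ≤ (Nat.card (M.map δ) * Nat.card δ.ker) * p ^ n :=
              Nat.mul_le_mul_right _ h2
          _ ≤ (Nat.card (M.map δ) * p) * p ^ n :=
              Nat.mul_le_mul_right _ (Nat.mul_le_mul_left _ hker)
          _ = _ := by rw [pow_succ']; ring
  obtain ⟨M, hM1, hM2⟩ := hrange (p - 1)
  have hM3 : 1 < Nat.card M := by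
    by_contra h
    have h2 : Nat.card M * p ^ (p - 1) ≤ 1 * p ^ (p - 1) := Nat.mul_le_mul_right _ (by omega)
    omega
  obtain ⟨m, hm, hm0⟩ := (AddSubgroup.one_lt_card_iff_ne_bot M).1 hM3 |>
    (AddSubgroup.ne_bot_iff_exists_ne_zero).1 |> fun ⟨m, hm⟩ => (⟨m.1, m.2, fun h => hm (Subtype.ext h)⟩ :
      ∃ m : V, ∃ _ : m ∈ M, m ≠ 0)
  obtain ⟨v, hv⟩ := hM1 m hm
  exact ⟨v, by rw [hsum, hv]; exact hm0⟩

/-- additive Hilbert 90 -/
theorem exists_sub_eq {p : ℕ} (hp : p.Prime) {V : Type*} [AddCommGroup V] [Finite V]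
    (hV : ∀ v : V, p • v = 0) (σ : V →+ V) (hσ : ∀ v, (σ^[p]) v = v)
    (hker : Nat.card (σ - AddMonoidHom.id V).ker ≤ p)
    (hcard : Nat.card V = p ^ p) {v : V} (hv : ∑ i ∈ range p, (σ^[i]) v = 0) : ∃ w, σ w - w = v := by
  have hpf : Fact p.Prime := ⟨hp⟩
  obtain ⟨v₀, hv₀⟩ := exists_norm_ne_zero hp hV σ hker (by
    rw [hcard]; exact Nat.pow_lt_pow_right hp.one_lt (Nat.sub_lt hp.pos one_pos))
  let ν : V →+ V := ∑ i ∈ range p, (⟨⟨fun v => (σ^[i]) v, iterate_map_zero σ i⟩, iterate_map_add σ i⟩ : V →+ V)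
  have hν : ∀ v, ν v = ∑ i ∈ range p, (σ^[i]) v := by
    intro v
    simp only [ν, AddMonoidHom.finsetSum_apply]
    rfl
  let δ : V →+ V := σ - AddMonoidHom.id V
  have hδ : ∀ v, δ v = σ v - v := fun v => rfl
  have hle : δ.range ≤ ν.ker := by
    rintro _ ⟨w, rfl⟩
    rw [AddMonoidHom.mem_ker, hν, hδ]
    have h1 : ∀ i, (σ^[i]) (σ w - w) = (σ^[i + 1]) w - (σ^[i]) w := by
      intro i
      rw [iterate_map_sub, Function.iterate_succ_apply]
    simp only [h1]
    rw [Finset.sum_range_sub (fun i => (σ^[i]) w), hσ]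
    simp
  have h1 : Nat.card V = Nat.card δ.range * Nat.card δ.ker := by
    have h2 := AddSubgroup.card_eq_card_quotient_mul_card_addSubgroup δ.ker
    rwa [Nat.card_congr (QuotientAddGroup.quotientKerEquivRange δ).toEquiv] at h2
  have h2 : ν.ker ≠ ⊤ := by
    intro h
    apply hv₀
    rw [← hν, ← AddMonoidHom.mem_ker, h]
    trivial
  have h3 : Nat.card ν.ker * p ≤ p ^ p := by
    obtain ⟨m, hm, h4⟩ := (Nat.dvd_prime_pow hp).1 (hcard ▸ AddSubgroup.card_addSubgroup_dvd_card ν.ker)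
    have h5 : m ≠ p := by
      rintro rfl
      exact h2 (AddSubgroup.eq_top_of_card_eq _ (by rw [h4, hcard]))
    rw [h4, ← pow_succ]
    exact Nat.pow_le_pow_right hp.pos (by omega)
  have h4 : δ.range = ν.ker := by
    refine AddSubgroup.eq_of_le_of_card_ge hle ?_
    have h5 : Nat.card V ≤ Nat.card δ.range * p := by
      rw [h1]; exact Nat.mul_le_mul_left _ hker
    rw [hcard] at h5
    exact Nat.le_of_mul_le_mul_right (h3.trans h5) hp.pos
  have h5 : v ∈ ν.ker := by rw [AddMonoidHom.mem_ker, hν, hv]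
  rw [← h4] at h5
  exact h5

end norm

section wreath

variable {G : Type*} [Group G]

/-- powers of `n * z` with `n` in an abelian subgroup normalised by `z` -/
theorem mul_pow_eq {N : Type*} [CommGroup N] (ι : N →* G) {z : G} (σ : N →* N)
    (hz : ∀ a, z * ι a * z⁻¹ = ι (σ a)) (n : N) (k : ℕ) :
    (ι n * z) ^ k = ι (∏ i ∈ range k, (σ^[i]) n) * z ^ k := by
  induction k with
  | zero => simp
  | succ k ih =>
    have h1 : ∏ i ∈ range (k + 1), (σ^[i]) n = n * σ (∏ i ∈ range k, (σ^[i]) n) := by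
      rw [Finset.prod_range_succ', map_prod, mul_comm]
      congr 1
      refine Finset.prod_congr rfl fun i _ => ?_
      rw [Function.iterate_succ_apply']
    rw [pow_succ', ih, h1, map_mul, ← hz, pow_succ']
    group

/-- multiplicative Hilbert 90 -/
theorem exists_div_eq {p : ℕ} (hp : p.Prime) {N : Type*} [CommGroup N] [Finite N]
    (hN : ∀ v : N, v ^ p = 1) (σ : N →* N) (hσ : ∀ v, (σ^[p]) v = v)
    (hker : Nat.card {v : N // σ v = v} ≤ p)
    (hcard : Nat.card N = p ^ p) {v : N} (hv : ∏ i ∈ range p, (σ^[i]) v = 1) : ∃ w, σ w * w⁻¹ = v := by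
  let τ : Additive N →+ Additive N := MonoidHom.toAdditive σ
  have hτ : ∀ (i : ℕ) (w : N), (τ^[i]) (Additive.ofMul w) = Additive.ofMul ((σ^[i]) w) := by
    intro i
    induction i with
    | zero => intro w; rfl
    | succ i ih => intro w; rw [Function.iterate_succ_apply, Function.iterate_succ_apply, ← ih]; rfl
  obtain ⟨w, hw⟩ := exists_sub_eq hp (V := Additive N) (fun v => by
      have := hN (Additive.toMul v)
      exact congrArg Additive.ofMul this) τ (fun v => by
      have := hτ p (Additive.toMul v)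
      rw [hσ] at this
      exact this) (by
      refine le_trans (Nat.card_le_card_of_injective
        (fun v : (τ - AddMonoidHom.id (Additive N)).ker => (⟨Additive.toMul v.1, ?_⟩ : {v : N // σ v = v})) ?_) hker
      · have h1 := v.2
        rw [AddMonoidHom.mem_ker, AddMonoidHom.sub_apply, sub_eq_zero] at h1
        exact congrArg Additive.toMul h1
      · intro a b h
        apply Subtype.ext
        have h1 := congrArg Subtype.val h
        exact h1) hcard (v := Additive.ofMul v) (by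
      have h1 : ∀ i ∈ range p, (τ^[i]) (Additive.ofMul v) = Additive.ofMul ((σ^[i]) v) := fun i _ => hτ i v
      rw [Finset.sum_congr rfl h1, ← ofMul_prod, hv]
      rfl)
  refine ⟨Additive.toMul w, ?_⟩
  have h1 := congrArg Additive.toMul hw
  rw [toMul_sub, div_eq_mul_inv] at h1
  exact h1

/-- **Elementary abelian by cyclic of order `p`.** -/
theorem not_mem_commutator_of_wreath [Finite G] {p : ℕ} (hp : p.Prime) (hp2 : p ≠ 2) {P N : Subgroup G}
    (hind : ¬ p ∣ P.index) (hN : ∀ y ∈ P, ∀ n ∈ N, y * n * y⁻¹ ∈ N)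
    (hcomm : ∀ a ∈ N, ∀ b ∈ N, a * b = b * a) (hexp : ∀ a ∈ N, a ^ p = 1) {x : G}
    (hx : x ∈ P) (hxo : orderOf x = p) (hcardN : Nat.card N = p ^ p)
    (hCN : Nat.card (N ⊓ centralizer ({x} : Set G) : Subgroup G) = p)
    (hPN : ∀ y ∈ P, ∃ j : ℕ, y * (x ^ j)⁻¹ ∈ N)
    (hCG : ∀ Q : Subgroup G, Q ≤ centralizer ({x} : Set G) → IsPGroup p Q → Nat.card Q ≤ p ^ 2)
    (hconj : ∀ g : G, g * x * g⁻¹ ∈ zpowers x → g * x * g⁻¹ = x) : x ∉ commutator G := by
  have hpf : Fact p.Prime := ⟨hp⟩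
  let hcg : CommGroup N := { (inferInstance : Group N) with
    mul_comm := fun a b => Subtype.ext (hcomm a a.2 b b.2) }
  have hNp : IsPGroup p N := fun a => ⟨1, by rw [pow_one]; exact Subtype.ext (hexp a a.2)⟩
  -- conjugates of `x` are not in `N`
  have hnot : ∀ g : G, g * x * g⁻¹ ∉ N := by
    intro g hg
    have h1 : N.map (MulAut.conj g⁻¹).toMonoidHom ≤ centralizer ({x} : Set G) := by
      rintro _ ⟨a, ha, rfl⟩
      rw [mem_centralizer_singleton_iff]
      change g⁻¹ * a * g⁻¹⁻¹ * x = x * (g⁻¹ * a * g⁻¹⁻¹)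
      have h2 := hcomm a ha _ hg
      have h3 : g⁻¹ * a * g⁻¹⁻¹ * x = g⁻¹ * (a * (g * x * g⁻¹)) * g := by group
      have h4 : x * (g⁻¹ * a * g⁻¹⁻¹) = g⁻¹ * (g * x * g⁻¹ * a) * g := by group
      rw [h3, h4, h2]
    have h2 := hCG _ h1 (hNp.map _)
    rw [Subgroup.card_map_of_injective (MulAut.conj g⁻¹).injective, hcardN] at h2
    have h3 := (Nat.pow_le_pow_iff_right hp.one_lt).1 h2
    have h4 := hp.two_le
    omega
  refine MetaCyclic.not_mem_commutator hp hind hN ?_ hx one_ne_zero (by rw [hxo, pow_one]) ?_ ?_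
  · -- commutators
    intro y hy z hz
    obtain ⟨i, hi⟩ := hPN y hy
    obtain ⟨j, hj⟩ := hPN z hz
    set a := y * (x ^ i)⁻¹ with ha
    set c := z * (x ^ j)⁻¹ with hc
    have e1 : y = a * x ^ i := by rw [ha]; group
    have e2 : z = c * x ^ j := by rw [hc]; group
    have h1 := hN (x ^ i) (pow_mem hx i) c hj
    have h2 := hN (x ^ j) (pow_mem hx j) a hi
    have h3 : y * z * y⁻¹ * z⁻¹ = a * (x ^ i * c * (x ^ i)⁻¹) * (x ^ j * a * (x ^ j)⁻¹)⁻¹ * c⁻¹ := by
      rw [e1, e2]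
      have h4 : x ^ i * x ^ j = x ^ j * x ^ i := by rw [← pow_add, ← pow_add, add_comm]
      have h5 : x ^ i * x ^ j * (x ^ i)⁻¹ = x ^ j := by rw [h4]; group
      calc a * x ^ i * (c * x ^ j) * (a * x ^ i)⁻¹ * (c * x ^ j)⁻¹
          = a * (x ^ i * c * (x ^ i)⁻¹) * (x ^ i * x ^ j * (x ^ i)⁻¹) * a⁻¹ * (x ^ j)⁻¹ * c⁻¹ := by group
        _ = _ := by rw [h5]; group
    rw [h3]
    exact mul_mem (mul_mem (mul_mem hi h1) (inv_mem h2)) (inv_mem hj)
  · have h1 := hnot 1
    simpa using h1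
  · intro g hg
    set y := g * x * g⁻¹ with hy
    obtain ⟨j, hj⟩ := hPN y hg
    set n : N := ⟨y * (x ^ j)⁻¹, hj⟩ with hn
    have hyn : y = n * x ^ j := by rw [hn]; group
    set z := x ^ j with hz
    have hyp : y ^ p = 1 := by
      have : orderOf y = p := by rw [← hxo]; exact (MulAut.conj g).orderOf_eq x
      rw [← this, pow_orderOf_eq_one]
    have hzp : z ^ p = 1 := by
      rw [hz, ← pow_mul, mul_comm, pow_mul, ← hxo, pow_orderOf_eq_one, one_pow]
    have hpj : ¬ p ∣ j := by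
      rintro ⟨l, rfl⟩
      have : z = 1 := by rw [hz, pow_mul, ← hxo, pow_orderOf_eq_one, one_pow]
      apply hnot g
      rw [← hy, hyn, this, mul_one]
      exact n.2
    -- conjugation by `z`
    let σ : N →* N :=
      { toFun := fun a => ⟨z * a * z⁻¹, hN z (pow_mem hx j) a a.2⟩
        map_one' := Subtype.ext (by simp)
        map_mul' := fun a b => Subtype.ext (by simp only [mul_assoc, _root_.Subgroup.coe_mul, _root_.MulMemClass.mk_mul_mk, _root_.inv_mul_cancel_left]) }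
    have hσ : ∀ a : N, z * (N.subtype a) * z⁻¹ = N.subtype (σ a) := fun a => rfl
    have hσi : ∀ (i : ℕ) (a : N), (((σ^[i]) a : N) : G) = z ^ i * a * (z ^ i)⁻¹ := by
      intro i
      induction i with
      | zero => intro a; simp
      | succ i ih =>
        intro a
        rw [Function.iterate_succ_apply']
        change z * (((σ^[i]) a : N) : G) * z⁻¹ = _
        rw [ih, pow_succ']
        group
    have hnorm : ∏ i ∈ range p, (σ^[i]) n = 1 := by
      have h1 := mul_pow_eq N.subtype σ hσ n p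
      have h2 : N.subtype n * z = y := hyn.symm
      rw [h2, hyp, hzp, mul_one] at h1
      exact Subtype.ext h1.symm
    obtain ⟨w, hw⟩ := exists_div_eq hp (fun v => Subtype.ext (by simpa only [_root_.SubmonoidClass.coe_pow, _root_.OneMemClass.coe_one] using hexp v v.2)) σ (fun v => by
      apply Subtype.ext
      rw [hσi, hzp]
      group) (by
      refine le_trans (Nat.card_le_card_of_injective
        (fun v : {v : N // σ v = v} =>
          (⟨v.1, ?_⟩ : (N ⊓ centralizer ({x} : Set G) : Subgroup G))) ?_) hCN.le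
      · refine mem_inf.2 ⟨v.1.2, ?_⟩
        have h1 : z * (v.1 : G) * z⁻¹ = v.1 := congrArg Subtype.val v.2
        have h2 : Commute (v.1 : G) z := by
          have : z * (v.1 : G) = v.1 * z := by
            have h3 : z * (v.1 : G) * z⁻¹ * z = v.1 * z := by rw [h1]
            rw [← h3]; group
          exact this.symm
        have hcop : Nat.Coprime j (orderOf x) := by
          rw [hxo]; exact ((Nat.Prime.coprime_iff_not_dvd hp).2 hpj).symm
        obtain ⟨m, hm⟩ := exists_pow_eq_self_of_coprime hcop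
        rw [mem_centralizer_singleton_iff]
        have h3 : Commute (v.1 : G) (z ^ m) := h2.pow_right m
        rw [hz, hm] at h3
        exact h3
      · intro a b h
        apply Subtype.ext
        apply Subtype.ext
        exact congrArg (fun u : (N ⊓ centralizer ({x} : Set G) : Subgroup G) => (u : G)) h) hcardN hnorm
    have h1 : (w : G) * y * (w : G)⁻¹ = z := by
      have h2 : (n : G) = z * w * z⁻¹ * (w : G)⁻¹ := (congrArg Subtype.val hw).symm
      have h3 : (w : G) * n = n * w := hcomm w w.2 n n.2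
      have h4 : (w : G) * y * (w : G)⁻¹ = w * n * z * (w : G)⁻¹ := by rw [hyn]; group
      rw [h4, h3, h2]
      group
    have h2 := hconj (w * g) (by
      have h5 : (w : G) * g * x * ((w : G) * g)⁻¹ = w * y * (w : G)⁻¹ := by rw [hy]; group
      rw [h5, h1]
      exact pow_mem (mem_zpowers x) j)
    have h5 : (w : G) * g * x * ((w : G) * g)⁻¹ = w * y * (w : G)⁻¹ := by rw [hy]; group
    rw [h5, h1] at h2
    rw [hyn, h2]
    have h6 : (n : G) * x * x⁻¹ = n := by group
    rw [h6]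
    exact n.2

end wreath

end Cfsg.Agent.Walter.MetaWreath
end

-- part: Walter/MetaSylow
section
/-!
# The Sylow `p`-subgroup of the centralizer of an involution

`C = C(t)`, `L` is normal in `C`, `x ∈ C` has order `p ^ e`, `⟨x⟩ ∩ L = 1`, `|C|_p = |L|_p p ^ e`, and
`|C_G(x)|_p = |C_L(x)|_p p ^ e`.
-/

set_option autoImplicit false

namespace Cfsg.Agent.Walter.MetaSylow

open Subgroup Cfsg.Agent.Walter.SylowIn

variable {G : Type*} [Group G] [Finite G] {p : ℕ}

theorem card_of_sylIn (hp : p.Prime) {P H : Subgroup G} (h : SylIn p P H) :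
    Nat.card P = p ^ padicValNat p (Nat.card H) := by
  have : Fact p.Prime := ⟨hp⟩
  obtain ⟨T, rfl⟩ := h
  rw [card_map_of_injective H.subtype_injective, Sylow.card_eq_multiplicity, Nat.factorization_def _ hp]

theorem sylIn_of_card (hp : p.Prime) {P H : Subgroup G} (hP : IsPGroup p P) (hPH : P ≤ H)
    (hc : Nat.card P = p ^ padicValNat p (Nat.card H)) : SylIn p P H := by
  have : Fact p.Prime := ⟨hp⟩
  obtain ⟨Q, hQ⟩ := exists_sylIn p H
  exact sylIn_of_card_le hQ hPH hP (by rw [card_of_sylIn hp hQ, hc])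

omit [Finite G] in
/-- an element of `p`-power order commuting with a Sylow `p`-subgroup of `H` lies in it -/
theorem mem_of_commute (hp : p.Prime) {R H : Subgroup G} (hR : SylIn p R H) {y : G} (hyH : y ∈ H)
    (hy : ∃ k : ℕ, y ^ (p ^ k) = 1) (hn : y ∈ normalizer (R : Set G)) : y ∈ R := by
  have : Fact p.Prime := ⟨hp⟩
  have h1 : IsPGroup p (zpowers y) := by
    rintro ⟨x, hx⟩
    obtain ⟨i, rfl⟩ := mem_zpowers_iff.1 hx
    obtain ⟨k, hk⟩ := hy
    refine ⟨k, ?_⟩
    apply Subtype.ext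
    simp only [SubmonoidClass.coe_pow, OneMemClass.coe_one]
    rw [← zpow_natCast, ← zpow_mul, mul_comm, zpow_mul, zpow_natCast, hk, one_zpow]
  have h2 := hR.eq_of_le (R := R ⊔ zpowers y) le_sup_left
    (sup_le hR.le (by rwa [zpowers_le])) (hR.isPGroup.to_sup_of_normal_left' h1 (by rwa [zpowers_le]))
  have h3 : y ∈ R ⊔ zpowers y := mem_sup_right (mem_zpowers y)
  rwa [h2] at h3

/-- **The Sylow subgroup.** -/
theorem exists_P (hp : p.Prime) {t x : G} (ht : ∃ k : ℕ, t ^ (2 ^ k) = 1) {L : Subgroup G} {a k e : ℕ}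
    (hLC : L ≤ centralizer ({t} : Set G)) (hCL : centralizer ({t} : Set G) ≤ normalizer (L : Set G))
    (hxC : x ∈ centralizer ({t} : Set G)) (hxe : orderOf x = p ^ e) (hdisj : L ⊓ zpowers x = ⊥)
    (hvL : padicValNat p (Nat.card L) = a)
    (hvC : padicValNat p (Nat.card (centralizer ({t} : Set G))) = a + e)
    (hvk : padicValNat p (Nat.card (L ⊓ centralizer ({x} : Set G) : Subgroup G)) = k)
    (hvG : padicValNat p (Nat.card (centralizer ({x} : Set G))) = k + e)
    (hT : ∀ T : Subgroup G, IsPGroup 2 T → t ∈ T → T ≤ centralizer ({x} : Set G) →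
      (∃ Q : Subgroup G, SylIn p Q L ∧ T ≤ centralizer (Q : Set G)) →
        ∀ y ∈ normalizer (T : Set G), (∃ k : ℕ, y ^ (p ^ k) = 1) → y * t = t * y) :
    ∃ P : Subgroup G, IsPGroup p P ∧ ¬ p ∣ P.index ∧ P ≤ centralizer ({t} : Set G) ∧ x ∈ P ∧
      (∀ y ∈ P, ∀ n ∈ P ⊓ L, y * n * y⁻¹ ∈ P ⊓ L) ∧
      SylIn p (P ⊓ L) L ∧ Nat.card (P ⊓ L : Subgroup G) = p ^ a ∧
      Nat.card (P ⊓ L ⊓ centralizer ({x} : Set G) : Subgroup G) = p ^ k ∧
      (P ⊓ L) ⊓ zpowers x = ⊥ ∧
      ∀ y ∈ P, ∃ j : ℕ, y * (x ^ j)⁻¹ ∈ P ⊓ L := by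
  have hpf : Fact p.Prime := ⟨hp⟩
  set C := centralizer ({t} : Set G) with hC
  set D := centralizer ({x} : Set G) with hD
  have hxD : x ∈ D := by rw [hD, mem_centralizer_singleton_iff]
  have hx1 : IsPGroup p (zpowers x) := by
    rw [IsPGroup.iff_card]
    exact ⟨e, by rw [Nat.card_zpowers, hxe]⟩
  -- a Sylow `p`-subgroup of `C ⊓ D`
  obtain ⟨R₀, hR₀, hxR₀⟩ := exists_sylIn_ge (p := p) (R := zpowers x) (H := C ⊓ D)
    (by rw [zpowers_le]; exact mem_inf.2 ⟨hxC, hxD⟩) hx1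
  obtain ⟨P, hP, hRP⟩ := exists_sylIn_ge (p := p) (R := R₀) (H := C) (hR₀.le.trans inf_le_left) hR₀.isPGroup
  have hxR : x ∈ R₀ := hxR₀ (mem_zpowers x)
  have hxP : x ∈ P := hRP hxR
  have hNS : SylIn p (P ⊓ L) L := hP.inf hLC hCL
  have hNcard : Nat.card (P ⊓ L : Subgroup G) = p ^ a := by rw [card_of_sylIn hp hNS, hvL]
  have hPcard : Nat.card P = p ^ (a + e) := by rw [card_of_sylIn hp hP, hvC]
  -- the fixed points
  have hLD : C ⊓ D ≤ normalizer ((L ⊓ D : Subgroup G) : Set G) := by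
    intro y hy
    obtain ⟨hyC, hyD⟩ := mem_inf.1 hy
    have h1 := hCL hyC
    rw [mem_normalizer_iff] at h1 ⊢
    intro z
    rw [mem_inf, mem_inf, ← h1]
    constructor
    · rintro ⟨h2, h3⟩
      exact ⟨h2, mul_mem (mul_mem hyD h3) (inv_mem hyD)⟩
    · rintro ⟨h2, h3⟩
      refine ⟨h2, ?_⟩
      have h4 := mul_mem (mul_mem (inv_mem hyD) h3) hyD
      have h5 : y⁻¹ * (y * z * y⁻¹) * y = z := by group
      rwa [h5] at h4
  have hAS : SylIn p (R₀ ⊓ (L ⊓ D)) (L ⊓ D) :=
    hR₀.inf (inf_le_inf_right D hLC) hLD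
  have hAcard : Nat.card (R₀ ⊓ (L ⊓ D) : Subgroup G) = p ^ k := by rw [card_of_sylIn hp hAS, hvk]
  have hAeq : (P ⊓ L ⊓ D : Subgroup G) = R₀ ⊓ (L ⊓ D) := by
    refine hAS.eq_of_le ?_ ?_ (hP.isPGroup.to_le (inf_le_left.trans inf_le_left))
    · exact le_inf (le_inf (inf_le_left.trans hRP) (inf_le_right.trans inf_le_left))
        (inf_le_right.trans inf_le_right)
    · exact le_inf (inf_le_left.trans inf_le_right) inf_le_right
  have hNd : (P ⊓ L) ⊓ zpowers x = ⊥ := by
    rw [eq_bot_iff, ← hdisj]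
    exact inf_le_inf_right _ inf_le_right
  -- normality of `N`
  have hNn : ∀ y ∈ P, ∀ n ∈ P ⊓ L, y * n * y⁻¹ ∈ P ⊓ L := by
    intro y hy n hn
    obtain ⟨h1, h2⟩ := mem_inf.1 hn
    exact mem_inf.2 ⟨mul_mem (mul_mem hy h1) (inv_mem hy), (mem_normalizer_iff.1 (hCL (hP.le hy)) n).1 h2⟩
  have hPN : ∀ y ∈ P, ∃ j : ℕ, y * (x ^ j)⁻¹ ∈ P ⊓ L :=
    MetaCyclic.exists_mul_of_card inf_le_left hxP hNd (by rw [hPcard, hNcard, hxe, pow_add])
  -- `A⟨x⟩` is a Sylow subgroup of `D`
  set A : Subgroup G := R₀ ⊓ (L ⊓ D) with hA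
  have hAD : A ≤ D := inf_le_right.trans inf_le_right
  have hxnA : zpowers x ≤ normalizer (A : Set G) := by
    rw [zpowers_le]
    refine centralizer_le_normalizer _ ?_
    rw [mem_centralizer_iff]
    intro y hy
    have h1 := hAD hy
    rw [hD, mem_centralizer_singleton_iff] at h1
    exact h1
  have hAxP : IsPGroup p (A ⊔ zpowers x : Subgroup G) :=
    hAS.isPGroup.to_sup_of_normal_left' hx1 hxnA
  have hAxD : A ⊔ zpowers x ≤ D := sup_le hAD (by rwa [zpowers_le])
  have hAxcard : Nat.card (A ⊔ zpowers x : Subgroup G) = p ^ (k + e) := by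
    have h1 : Nat.card (A ⊔ zpowers x : Subgroup G) ≤ p ^ (k + e) := by
      obtain ⟨Q, hQ, hQ2⟩ := exists_sylIn_ge hAxD hAxP
      rw [← hvG, ← card_of_sylIn hp hQ]
      exact Nat.le_of_dvd Nat.card_pos (card_dvd_of_le hQ2)
    refine le_antisymm h1 ?_
    -- injection
    let f : A × zpowers x → (A ⊔ zpowers x : Subgroup G) := fun c =>
      ⟨c.1 * c.2, mul_mem (mem_sup_left c.1.2) (mem_sup_right c.2.2)⟩
    have hf : Function.Injective f := by
      rintro ⟨a, c⟩ ⟨a', c'⟩ h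
      have h1 : (a : G) * c = a' * c' := congrArg Subtype.val h
      have h2 : (a' : G)⁻¹ * a = c' * (c : G)⁻¹ := by
        have : (a' : G)⁻¹ * (a * c) * (c : G)⁻¹ = (a' : G)⁻¹ * (a' * c') * (c : G)⁻¹ := by rw [h1]
        have h3 : (a' : G)⁻¹ * (a * c) * (c : G)⁻¹ = (a' : G)⁻¹ * a := by group
        have h4 : (a' : G)⁻¹ * (a' * c') * (c : G)⁻¹ = c' * (c : G)⁻¹ := by group
        rw [← h3, ← h4, this]
      have hAL : A ≤ L := inf_le_right.trans inf_le_left
      have h3 : (a' : G)⁻¹ * a ∈ L ⊓ zpowers x :=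
        mem_inf.2 ⟨mul_mem (inv_mem (hAL a'.2)) (hAL a.2), by rw [h2]; exact mul_mem c'.2 (inv_mem c.2)⟩
      rw [hdisj, mem_bot] at h3
      have h4 : (a : G) = a' := by
        rw [← mul_one (a' : G), ← h3]; group
      have h5 : (c : G) = c' := by
        rw [h3] at h2
        rw [← one_mul (c : G), h2]; group
      exact Prod.ext (Subtype.ext h4) (Subtype.ext h5)
    have h2 := Nat.card_le_card_of_injective f hf
    rwa [Nat.card_prod, Nat.card_zpowers, hAcard, hxe, ← pow_add] at h2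
  have hAxS : SylIn p (A ⊔ zpowers x) D := sylIn_of_card hp hAxP hAxD (by rw [hAxcard, hvG])
  refine ⟨P, hP.isPGroup, ?_, hP.le, hxP, hNn, hNS, hNcard, by rw [hAeq, hAcard], hNd, hPN⟩
  refine MetaTransfer.not_dvd_index hp ht hP.isPGroup hP.le ?_ ?_ ?_
  · intro Q hQ hPQ hQC
    exact hP.eq_of_le hPQ hQC hQ
  · intro y hy hyp
    have hyx : y ∈ D := by
      rw [hD, mem_centralizer_singleton_iff]
      exact (mem_centralizer_iff.1 hy x hxP).symm
    have hAP : A ⊔ zpowers x ≤ P := sup_le (inf_le_left.trans hRP) (by rwa [zpowers_le])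
    apply hAP
    refine mem_of_commute hp hAxS hyx hyp ?_
    refine centralizer_le_normalizer _ ?_
    rw [mem_centralizer_iff]
    intro z hz
    exact mem_centralizer_iff.1 hy z (hAP hz)
  · intro T hT2 hTC htT
    refine hT T hT2 htT ?_ ⟨P ⊓ L, hNS, ?_⟩
    · intro s hs
      rw [hD, mem_centralizer_singleton_iff]
      exact (mem_centralizer_iff.1 (hTC hs) x hxP).symm
    · intro s hs
      rw [mem_centralizer_iff]
      intro z hz
      exact mem_centralizer_iff.1 (hTC hs) z (mem_inf.1 hz).1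

/-- **Case M**: cyclic Sylow `p`-subgroups of `L`. -/
theorem not_mem_commutator_cyclic (hp : p.Prime) (hp2 : p ≠ 2) {t x : G} (ht : ∃ k : ℕ, t ^ (2 ^ k) = 1)
    {L : Subgroup G} {k e : ℕ} (hk : k ≠ 0) (he : e ≠ 0)
    (hLC : L ≤ centralizer ({t} : Set G)) (hCL : centralizer ({t} : Set G) ≤ normalizer (L : Set G))
    (hxC : x ∈ centralizer ({t} : Set G)) (hxe : orderOf x = p ^ e) (hdisj : L ⊓ zpowers x = ⊥)
    (hvL : padicValNat p (Nat.card L) = k + e)
    (hvC : padicValNat p (Nat.card (centralizer ({t} : Set G))) = k + e + e)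
    (hvk : padicValNat p (Nat.card (L ⊓ centralizer ({x} : Set G) : Subgroup G)) = k)
    (hvG : padicValNat p (Nat.card (centralizer ({x} : Set G))) = k + e)
    (hcyc : ∀ Q : Subgroup G, Q ≤ L → IsPGroup p Q → IsCyclic Q)
    (hT : ∀ T : Subgroup G, IsPGroup 2 T → t ∈ T → T ≤ centralizer ({x} : Set G) →
      (∃ Q : Subgroup G, SylIn p Q L ∧ T ≤ centralizer (Q : Set G)) →
        ∀ y ∈ normalizer (T : Set G), (∃ k : ℕ, y ^ (p ^ k) = 1) → y * t = t * y)
    (hconj : ∀ g : G, g * x * g⁻¹ ∈ zpowers x → g * x * g⁻¹ = x) : x ∉ _root_.commutator G := by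
  obtain ⟨P, hP, hind, -, hxP, hN, hNS, hNcard, hfix, hNd, hPN⟩ :=
    exists_P hp ht hLC hCL hxC hxe hdisj hvL hvC hvk hvG hT
  refine MetaCyclic.not_mem_commutator_of_cyclic hp hp2 hP hind inf_le_left hN
    (hcyc _ inf_le_right (hP.to_le inf_le_left)) hxP hk he hxe hNd hPN hNcard hfix ?_ hconj
  intro Q hQ hQp
  obtain ⟨R, hR, hQR⟩ := exists_sylIn_ge hQ hQp
  rw [← hvG, ← card_of_sylIn hp hR]
  exact Nat.le_of_dvd Nat.card_pos (card_dvd_of_le hQR)

/-- **Case W**: Sylow `p`-subgroups of `L` elementary abelian of order `p ^ p`. -/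
theorem not_mem_commutator_wreath (hp : p.Prime) (hp2 : p ≠ 2) {t x : G} (ht : ∃ k : ℕ, t ^ (2 ^ k) = 1)
    {L : Subgroup G}
    (hLC : L ≤ centralizer ({t} : Set G)) (hCL : centralizer ({t} : Set G) ≤ normalizer (L : Set G))
    (hxC : x ∈ centralizer ({t} : Set G)) (hxe : orderOf x = p) (hdisj : L ⊓ zpowers x = ⊥)
    (hvL : padicValNat p (Nat.card L) = p)
    (hvC : padicValNat p (Nat.card (centralizer ({t} : Set G))) = p + 1)
    (hvk : padicValNat p (Nat.card (L ⊓ centralizer ({x} : Set G) : Subgroup G)) = 1)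
    (hvG : padicValNat p (Nat.card (centralizer ({x} : Set G))) = 2)
    (hab : ∀ Q : Subgroup G, Q ≤ L → IsPGroup p Q → ∀ a ∈ Q, ∀ b ∈ Q, a * b = b * a ∧ a ^ p = 1)
    (hT : ∀ T : Subgroup G, IsPGroup 2 T → t ∈ T → T ≤ centralizer ({x} : Set G) →
      (∃ Q : Subgroup G, SylIn p Q L ∧ T ≤ centralizer (Q : Set G)) →
        ∀ y ∈ normalizer (T : Set G), (∃ k : ℕ, y ^ (p ^ k) = 1) → y * t = t * y)
    (hconj : ∀ g : G, g * x * g⁻¹ ∈ zpowers x → g * x * g⁻¹ = x) : x ∉ _root_.commutator G := by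
  obtain ⟨P, hP, hind, -, hxP, hN, hNS, hNcard, hfix, hNd, hPN⟩ :=
    exists_P (a := p) (k := 1) (e := 1) hp ht hLC hCL hxC (by rw [hxe, pow_one]) hdisj hvL hvC hvk hvG hT
  have hNp : IsPGroup p (P ⊓ L : Subgroup G) := hP.to_le inf_le_left
  refine MetaWreath.not_mem_commutator_of_wreath hp hp2 hind hN
    (fun a ha b hb => (hab _ inf_le_right hNp a ha b hb).1)
    (fun a ha => (hab _ inf_le_right hNp a ha a ha).2) hxP hxe hNcard (by rw [hfix, pow_one]) hPN ?_ hconj
  intro Q hQ hQp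
  obtain ⟨R, hR, hQR⟩ := exists_sylIn_ge hQ hQp
  rw [← hvG, ← card_of_sylIn hp hR]
  exact Nat.le_of_dvd Nat.card_pos (card_dvd_of_le hQR)

/-- **Case B**: `⟨x⟩` is a Sylow `p`-subgroup of `C(x)` (Burnside). -/
theorem not_mem_commutator_burnside (hp : p.Prime) {x : G} {e : ℕ} (he : e ≠ 0) (hxe : orderOf x = p ^ e)
    (hvG : padicValNat p (Nat.card (centralizer ({x} : Set G))) = e)
    (hconj : ∀ g : G, g * x * g⁻¹ ∈ zpowers x → g * x * g⁻¹ = x) : x ∉ commutator G := by
  have hpf : Fact p.Prime := ⟨hp⟩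
  have hx1 : IsPGroup p (zpowers x) := by
    rw [IsPGroup.iff_card]
    exact ⟨e, by rw [Nat.card_zpowers, hxe]⟩
  have hxD : zpowers x ≤ centralizer ({x} : Set G) := by
    rw [zpowers_le, mem_centralizer_singleton_iff]
  have hS : SylIn p (zpowers x) (centralizer ({x} : Set G)) :=
    sylIn_of_card hp hx1 hxD (by rw [Nat.card_zpowers, hxe, hvG])
  have hind : ¬ p ∣ (zpowers x).index := by
    refine MetaTransfer.not_dvd_index_of_normalizer hp hx1 ?_
    intro Q hQ hle hQN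
    refine hS.eq_of_le hle ?_ hQ
    intro y hy
    have h1 := hconj y ((mem_normalizer_iff.1 (hQN hy) x).1 (mem_zpowers x))
    rw [mem_centralizer_singleton_iff]
    have h2 : y * x * y⁻¹ * y = x * y := by rw [h1]
    rw [← h2]; group
  refine MetaCyclic.not_mem_commutator (N := ⊥) hp hind ?_ ?_ (mem_zpowers x) he hxe ?_ ?_
  · intro y _ n hn
    rw [mem_bot] at hn ⊢
    rw [hn]; group
  · intro a ha b hb
    rw [mem_bot]
    obtain ⟨i, rfl⟩ := mem_zpowers_iff.1 ha
    obtain ⟨j, rfl⟩ := mem_zpowers_iff.1 hb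
    have h1 : x ^ i * x ^ j = x ^ j * x ^ i := by rw [← zpow_add, ← zpow_add, add_comm]
    rw [h1]; group
  · rw [mem_bot, ← orderOf_dvd_iff_pow_eq_one, hxe, Nat.pow_dvd_pow_iff_le_right hp.one_lt]
    omega
  · intro g hg
    rw [hconj g hg, mem_bot, mul_inv_cancel]

end Cfsg.Agent.Walter.MetaSylow
end

-- part: Walter/MetaPSL
section
/-!
# Facts on `PSL(2, q)` used in the transfer argument
-/

set_option autoImplicit false

namespace Cfsg.Agent.Walter.MetaPSL

open Subgroup Matrix Cfsg.Agent.Walter.SylowIn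
open scoped MatrixGroups

section split

variable (F : Type*) [Field F]

/-- the diagonal torus -/
def diagHom : Fˣ →* Matrix.SpecialLinearGroup (Fin 2) F where
  toFun a := ⟨!![(a : F), 0; 0, ((a⁻¹ : Fˣ) : F)], by simp [Matrix.det_fin_two]⟩
  map_one' := by
    apply Subtype.ext
    ext i j
    (revert i j; simp only [_root_.Fin.forall_fin_succ, _root_.Units.val_one, _root_.inv_one, _root_.Matrix.of_apply, _root_.Matrix.cons_val', _root_.Matrix.cons_val_fin_one, _root_.Matrix.SpecialLinearGroup.coe_one, Fin.isValue, _root_.Matrix.cons_val_zero, _root_.Matrix.cons_val_succ, _root_.IsEmpty.forall_iff, _root_.and_true, _root_.Matrix.one_apply_eq, Nat.reduceAdd, _root_.Fin.succ_zero_eq_one, _root_.ne_eq, _root_.zero_ne_one, _root_.not_false_eq_true, _root_.Matrix.one_apply_ne, _root_.and_self, _root_.Fin.succ_ne_zero, _root_.true_and])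
  map_mul' a b := by
    apply Subtype.ext
    change !![((a * b : Fˣ) : F), 0; 0, (((a * b)⁻¹ : Fˣ) : F)] =
      !![(a : F), 0; 0, ((a⁻¹ : Fˣ) : F)] * !![(b : F), 0; 0, ((b⁻¹ : Fˣ) : F)]
    rw [Matrix.mul_fin_two]
    simp only [mul_comm, _root_.Units.val_mul, _root_.mul_inv_rev, _root_.Units.val_inv_eq_inv_val, _root_.MulZeroClass.mul_zero, _root_.add_zero, _root_.zero_add]

theorem diagHom_apply (a : Fˣ) : (diagHom F a : Matrix (Fin 2) (Fin 2) F) 0 0 = a := rfl

theorem exists_split [Fintype F] :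
    ∃ C : Subgroup (Matrix.ProjectiveSpecialLinearGroup (Fin 2) F),
      IsCyclic C ∧ (Fintype.card F - 1) ∣ 2 * Nat.card C := by
  classical
  let f : Fˣ →* Matrix.ProjectiveSpecialLinearGroup (Fin 2) F :=
    (Cfsg.Agent.ClassicalGeometry.PSLTorus.pr F).comp (diagHom F)
  have h1 : Nat.card f.ker ≤ 2 := by
    let S : Set Fˣ := {1, -1}
    have hS : Nat.card S ≤ 2 := by
      have := Set.ncard_le_ncard (s := S) (t := {1, -1}) (le_refl _)
      rw [Nat.card_coe_set_eq]
      exact Set.ncard_insert_le 1 {-1} |>.trans (by simp)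
    refine (Nat.card_mono (Set.toFinite S) ?_).trans hS
    intro a ha
    have h2 : f a = 1 := ha
    have h3 := (Cfsg.Agent.ClassicalGeometry.PSLTorus.pr_eq_one_iff (diagHom F a)).1 h2
    rcases h3 with h3 | h3
    · left
      have h4 := congrArg (fun g : Matrix.SpecialLinearGroup (Fin 2) F => (g : Matrix (Fin 2) (Fin 2) F) 0 0) h3
      apply Units.ext
      simpa [diagHom_apply] using h4
    · right
      have h4 := congrArg (fun g : Matrix.SpecialLinearGroup (Fin 2) F => (g : Matrix (Fin 2) (Fin 2) F) 0 0) h3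
      apply Units.ext
      simpa [diagHom_apply] using h4
  refine ⟨f.range, isCyclic_of_surjective f.rangeRestrict f.rangeRestrict_surjective, ?_⟩
  have h2 : Nat.card f.range * Nat.card f.ker = Fintype.card F - 1 := by
    have h3 := Subgroup.card_eq_card_quotient_mul_card_subgroup f.ker
    rw [Nat.card_congr (QuotientGroup.quotientKerEquivRange f).toEquiv, Nat.card_eq_fintype_card,
      Fintype.card_units] at h3
    exact h3.symm
  have h3 : 0 < Nat.card f.ker := Nat.card_pos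
  rw [← h2]
  have h4 : Nat.card f.ker = 1 ∨ Nat.card f.ker = 2 := by omega
  rcases h4 with h4 | h4
  · rw [h4, mul_one]; exact dvd_mul_left _ _
  · rw [h4, mul_comm]

end split

section cyc

/-- a group with a cyclic subgroup of index prime to `p` -/
theorem isCyclic_of_index {L : Type*} [Group L] [Finite L] {p : ℕ} (hp : p.Prime) {C : Subgroup L} (hC : IsCyclic C)
    (hi : ¬ p ∣ C.index) (Q : Subgroup L) (hQ : IsPGroup p Q) : IsCyclic Q := by
  have hpf : Fact p.Prime := ⟨hp⟩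
  obtain ⟨P, hP⟩ := exists_sylIn p C
  have hPt : SylIn p P (⊤ : Subgroup L) := by
    refine sylIn_of le_top hP.isPGroup ?_
    rw [← relIndex_mul_relIndex P C ⊤ hP.le le_top, relIndex_top_right]
    intro h
    rcases (Nat.Prime.dvd_mul hp).1 h with h | h
    · exact hP.not_dvd h
    · exact hi h
  obtain ⟨g, -, hg⟩ := hPt.conj_le le_top hQ
  have hPc : IsCyclic P := isCyclic_of_injective (Subgroup.inclusion hP.le) (Subgroup.inclusion_injective _)
  let f : Q →* P :=
    { toFun := fun x => ⟨g * x * g⁻¹, hg x x.2⟩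
      map_one' := Subtype.ext (by simp)
      map_mul' := fun a b => Subtype.ext (by simp only [_root_.Subgroup.coe_mul, _root_.MulMemClass.mk_mul_mk, _root_.conj_mul]) }
  refine isCyclic_of_injective f ?_
  intro a b h
  have h1 : g * (a : L) * g⁻¹ = g * b * g⁻¹ := congrArg Subtype.val h
  exact Subtype.ext (mul_left_cancel (mul_right_cancel h1))

end cyc

section psl

variable {F : Type*} [Field F] [Fintype F] {L : Type*} [Group L] [Finite L]

omit [Finite L] in
theorem card_mul (hodd : Odd (Fintype.card F)) (e : L ≃* Matrix.ProjectiveSpecialLinearGroup (Fin 2) F) :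
    Nat.card L * 2 = Fintype.card F * (Fintype.card F ^ 2 - 1) := by
  rw [Nat.card_congr e.toEquiv]
  exact ClassicalGeometry.PSL2Basic.card_PSL2_odd F hodd

theorem val_card (hodd : Odd (Fintype.card F)) (e : L ≃* Matrix.ProjectiveSpecialLinearGroup (Fin 2) F)
    {p : ℕ} (hp : p.Prime) (hp2 : p ≠ 2) (hpF : ¬ p ∣ Fintype.card F) :
    padicValNat p (Nat.card L) = padicValNat p (Fintype.card F ^ 2 - 1) := by
  have hpf : Fact p.Prime := ⟨hp⟩
  have h1 := card_mul hodd e
  have h2 : 1 < Fintype.card F := Fintype.one_lt_card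
  have h3 : Fintype.card F ^ 2 - 1 ≠ 0 := by
    have : 1 < Fintype.card F ^ 2 := Nat.one_lt_pow (by norm_num) h2
    omega
  have h4 := congrArg (padicValNat p) h1
  rw [padicValNat.mul Nat.card_pos.ne' (by norm_num), padicValNat.mul (by omega) h3,
    padicValNat.eq_zero_of_not_dvd hpF, padicValNat.eq_zero_of_not_dvd (n := 2), add_zero, zero_add] at h4
  · exact h4
  · intro h
    exact hp2 ((Nat.prime_dvd_prime_iff_eq hp Nat.prime_two).1 h)

/-- Sylow `p`-subgroups of `PSL(2, q)`, `p` odd, `p ∤ q`, are cyclic. -/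
theorem isCyclic_of_isPGroup (hodd : Odd (Fintype.card F))
    (e : L ≃* Matrix.ProjectiveSpecialLinearGroup (Fin 2) F)
    {p : ℕ} (hp : p.Prime) (hp2 : p ≠ 2) (hpF : ¬ p ∣ Fintype.card F) (Q : Subgroup L) (hQ : IsPGroup p Q) :
    IsCyclic Q := by
  have hpf : Fact p.Prime := ⟨hp⟩
  have hq1 : 1 < Fintype.card F := Fintype.one_lt_card
  set q := Fintype.card F with hq
  have hcard := card_mul hodd e
  have hfac : q ^ 2 - 1 = (q - 1) * (q + 1) := by
    have h5 : 1 ≤ q ^ 2 := Nat.one_le_pow _ _ (by omega)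
    zify [h5, hq1.le]
    ring
  have hnot2 : ¬ p ∣ 2 := fun h => hp2 ((Nat.prime_dvd_prime_iff_eq hp Nat.prime_two).1 h)
  have hfin : Finite (Matrix.ProjectiveSpecialLinearGroup (Fin 2) F) := Finite.of_equiv _ e.toEquiv
  have hval := val_card hodd e hp hp2 hpF
  have hval' : padicValNat p (Nat.card L) = padicValNat p (q - 1) + padicValNat p (q + 1) := by
    rw [hval, ← hq, hfac, padicValNat.mul (by omega) (by omega)]
  -- it suffices to find a cyclic subgroup with the right order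
  suffices h : ∃ C : Subgroup (Matrix.ProjectiveSpecialLinearGroup (Fin 2) F), IsCyclic C ∧
      padicValNat p (Nat.card L) ≤ padicValNat p (Nat.card C) by
    obtain ⟨C, hC, hv⟩ := h
    let C' : Subgroup L := C.comap e.toMonoidHom
    have e' : C' ≃* C := by
      have h1 : C'.map e.toMonoidHom = C := map_comap_eq_self_of_surjective e.surjective C
      exact (e.subgroupMap C').trans (MulEquiv.subgroupCongr h1)
    have hC' : IsCyclic C' := isCyclic_of_injective e'.toMonoidHom e'.injective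
    have hcC : Nat.card C' = Nat.card C := Nat.card_congr e'.toEquiv
    refine isCyclic_of_index hp hC' ?_ Q hQ
    intro hdvd
    have h1 := C'.index_mul_card
    have h2 : C'.index ≠ 0 := Subgroup.index_ne_zero_of_finite
    have h3 := congrArg (padicValNat p) h1
    rw [padicValNat.mul h2 Nat.card_pos.ne', hcC] at h3
    have h4 := one_le_padicValNat_of_dvd h2 hdvd
    omega
  by_cases hpq : p ∣ q - 1
  · obtain ⟨C, hC, hdiv⟩ := exists_split F
    refine ⟨C, hC, ?_⟩
    have h1 : ¬ p ∣ q + 1 := by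
      intro h
      apply hnot2
      have h2 := Nat.dvd_sub h hpq
      have h3 : q + 1 - (q - 1) = 2 := by omega
      rwa [h3] at h2
    rw [hval', padicValNat.eq_zero_of_not_dvd h1, add_zero]
    have h2 : padicValNat p (q - 1) ≤ padicValNat p (2 * Nat.card C) :=
      (padicValNat_dvd_iff_le (by have := Nat.card_pos (α := C); omega)).1 (pow_padicValNat_dvd.trans hdiv)
    rwa [padicValNat.mul (by norm_num) Nat.card_pos.ne', padicValNat.eq_zero_of_not_dvd hnot2, zero_add] at h2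
  · obtain ⟨C, H, -, -, hC, hcC, -, -⟩ := ClassicalGeometry.PSLTorus.exists_psl_torus F
    refine ⟨C, hC, ?_⟩
    have hgcd : Nat.gcd 2 (q - 1) = 2 := Nat.gcd_eq_left ((Nat.Odd.sub_odd hodd odd_one).two_dvd)
    have h2 : q + 1 = 2 * Nat.card C := by
      rw [hcC, ← hq, hgcd]
      exact (Nat.mul_div_cancel' ((hodd.add_odd odd_one).two_dvd)).symm
    rw [hval', padicValNat.eq_zero_of_not_dvd hpq, zero_add, h2,
      padicValNat.mul (by norm_num) Nat.card_pos.ne', padicValNat.eq_zero_of_not_dvd hnot2, zero_add]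

/-- in natural characteristic the Sylow subgroups are elementary abelian -/
theorem abelian_of_isPGroup (e : L ≃* Matrix.ProjectiveSpecialLinearGroup (Fin 2) F)
    {p : ℕ} [Fact p.Prime] [CharP F p] (Q : Subgroup L) (hQ : IsPGroup p Q) :
    ∀ a ∈ Q, ∀ b ∈ Q, a * b = b * a ∧ a ^ p = 1 := by
  let π : Matrix.SpecialLinearGroup (Fin 2) F →* L :=
    e.symm.toMonoidHom.comp (ClassicalGeometry.PSLTorus.pr F)
  have hπ : Function.Surjective π := e.symm.surjective.comp (ClassicalGeometry.PSLTorus.pr_surjective F)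
  let P : Sylow p L := (Lib.AutSL2.sylU F p).mapSurjective hπ
  have hP : ∀ y ∈ (P : Subgroup L), ∃ b : F, y = π (Lib.SL2Mat.up b) := by
    intro y hy
    have h1 : y ∈ (Lib.AutSL2.sylU F p : Subgroup _).map π := by
      have h2 : (P : Subgroup L) = (Lib.AutSL2.sylU F p : Subgroup _).map π := Sylow.coe_mapSurjective _ _
      rwa [h2] at hy
    obtain ⟨_, ⟨b, rfl⟩, rfl⟩ := h1
    exact ⟨b, rfl⟩
  obtain ⟨R, hR⟩ := hQ.exists_le_sylow
  obtain ⟨g, hg⟩ := MulAction.exists_smul_eq L P R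
  have hR' : ∀ y ∈ Q, ∃ b : F, y = g * π (Lib.SL2Mat.up b) * g⁻¹ := by
    intro y hy
    have h1 := hR hy
    rw [← hg] at h1
    obtain ⟨z, hz, rfl⟩ := h1
    obtain ⟨b, rfl⟩ := hP z hz
    exact ⟨b, rfl⟩
  intro a ha b hb
  obtain ⟨s, rfl⟩ := hR' a ha
  obtain ⟨r, rfl⟩ := hR' b hb
  constructor
  · have h1 : π (Lib.SL2Mat.up s) * π (Lib.SL2Mat.up r) = π (Lib.SL2Mat.up r) * π (Lib.SL2Mat.up s) := by
      rw [← map_mul, ← map_mul, Lib.SL2Mat.up_mul, Lib.SL2Mat.up_mul, add_comm]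
    calc g * π (Lib.SL2Mat.up s) * g⁻¹ * (g * π (Lib.SL2Mat.up r) * g⁻¹)
        = g * (π (Lib.SL2Mat.up s) * π (Lib.SL2Mat.up r)) * g⁻¹ := by group
      _ = g * (π (Lib.SL2Mat.up r) * π (Lib.SL2Mat.up s)) * g⁻¹ := by rw [h1]
      _ = _ := by group
  · have h1 : π (Lib.SL2Mat.up s) ^ p = 1 := by
      rw [← map_pow, Lib.AutSL2.up_pow, CharP.cast_eq_zero, zero_mul, Lib.SL2Mat.up_zero, map_one]
    have h2 := (MulAut.conj g).toMonoidHom.map_pow (π (Lib.SL2Mat.up s)) p
    simp only [MulEquiv.coe_toMonoidHom, MulAut.conj_apply] at h2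
    rw [← h2, h1]; group

omit [Finite L] in
/-- primes dividing the order of the centralizer of an involution -/
theorem dvd_of_commute (h2 : (2 : F) ≠ 0) (e : L ≃* Matrix.ProjectiveSpecialLinearGroup (Fin 2) F) {u z : L}
    (hu1 : u ≠ 1) (hu : u * u = 1) (hz : z * u = u * z) (hz1 : z ≠ 1) {p k : ℕ} (hp : p.Prime) (hp2 : p ≠ 2)
    (hzp : z ^ (p ^ k) = 1) :
    (Fintype.card F % 4 = 1 ∧ p ∣ Fintype.card F - 1) ∨ (Fintype.card F % 4 = 3 ∧ p ∣ Fintype.card F + 1) := by
  obtain ⟨T, m, hT, hm⟩ := Lib.PSL2Torus.exists_torus h2 e hu1 hu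
  rw [Nat.card_eq_fintype_card] at hm
  have hord : orderOf z ≠ 1 := fun h => hz1 (orderOf_eq_one_iff.1 h)
  have hdvd : orderOf z ∣ p ^ k := orderOf_dvd_of_pow_eq_one hzp
  have hpz : p ∣ orderOf z := by
    obtain ⟨j, -, hj⟩ := (Nat.dvd_prime_pow hp).1 hdvd
    rw [hj] at hord ⊢
    refine dvd_pow_self p ?_
    rintro rfl
    exact hord (pow_zero p)
  have hzT : z ∈ T := by
    by_contra h
    obtain ⟨-, h3, -⟩ := hT.out z hz h
    have h4 : orderOf z ∣ 2 := orderOf_dvd_of_pow_eq_one (by rw [pow_two]; exact h3)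
    have h5 := hpz.trans h4
    exact hp2 ((Nat.prime_dvd_prime_iff_eq hp Nat.prime_two).1 h5)
  have h3 : orderOf z ∣ m := by
    rw [← hT.card]; exact Subgroup.orderOf_dvd_natCard T hzT
  have h4 : p ∣ 2 * m := dvd_mul_of_dvd_right (hpz.trans h3) 2
  rcases hm with ⟨h5, h6⟩ | ⟨h5, h6⟩
  · left; exact ⟨h5, by rw [← h6]; exact h4⟩
  · right; exact ⟨h5, by rw [← h6]; exact h4⟩

end psl

section local_

variable {G : Type*} [Group G] [Finite G]

/-- a `p`-element, `p ≥ 5`, normalising a group of order at most 4 centralises it -/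
theorem commute_of_card_le {p : ℕ} (hp : p.Prime) (hp5 : 5 ≤ p) {T : Subgroup G} (hT : Nat.card T ≤ 4) {y t : G}
    (hy : y ∈ normalizer (T : Set G)) (hyp : ∃ k : ℕ, y ^ (p ^ k) = 1) (ht : t ∈ T) : y * t = t * y := by
  classical
  have hfin : Fintype T := Fintype.ofFinite T
  obtain ⟨k, hk⟩ := hyp
  let f : normalizer (T : Set G) →* Equiv.Perm T := (MulAut.toPerm T).comp T.normalizerMonoidHom
  have h1 : f ⟨y, hy⟩ ^ (p ^ k) = 1 := by
    rw [← map_pow]
    have h2 : (⟨y, hy⟩ : normalizer (T : Set G)) ^ (p ^ k) = 1 := Subtype.ext (by simpa only [_root_.SubmonoidClass.mk_pow, _root_.OneMemClass.coe_one] using hk)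
    rw [h2, map_one]
  have h2 : orderOf (f ⟨y, hy⟩) ∣ (Nat.card T).factorial := by
    have h3 := _root_.orderOf_dvd_natCard (f ⟨y, hy⟩)
    rwa [Nat.card_eq_fintype_card, Fintype.card_perm, ← Nat.card_eq_fintype_card] at h3
  have h3 : Nat.Coprime (p ^ k) (Nat.card T).factorial := by
    apply Nat.Coprime.pow_left
    rw [Nat.Prime.coprime_iff_not_dvd hp, Nat.Prime.dvd_factorial hp]
    omega
  have h4 : orderOf (f ⟨y, hy⟩) ∣ 1 := by
    rw [← h3]
    exact Nat.dvd_gcd (orderOf_dvd_of_pow_eq_one h1) h2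
  have h5 : f ⟨y, hy⟩ = 1 := orderOf_eq_one_iff.1 (Nat.dvd_one.1 h4)
  have h6 : y * t * y⁻¹ = t := congrArg Subtype.val (congrArg (fun σ : Equiv.Perm T => σ ⟨t, ht⟩) h5)
  have h7 : y * t * y⁻¹ * y = t * y := by rw [h6]
  rw [← h7]; group

/-- the analysis of `T` -/
theorem commute_of_normalizer {p : ℕ} (hp : p.Prime) (hp2 : p ≠ 2) (S : Sylow 2 G)
    (hS : ∀ s ∈ (S : Subgroup G), s * s = 1) (hS8 : Nat.card (S : Subgroup G) = 8) {t : G} (ht1 : t ≠ 1)
    {L : Subgroup G} (hLC : L ≤ centralizer ({t} : Set G))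
    (hCL : centralizer ({t} : Set G) ≤ normalizer (L : Set G)) (htL : t ∉ L)
    (hV : ∀ V : Subgroup G, SylIn 2 V L → Nat.card V = 4 ∧ ∀ y ∈ L, (∀ v ∈ V, y * v = v * y) → y ∈ V)
    (hcase : 5 ≤ p ∨ ∀ u ∈ L, u ≠ 1 → u * u = 1 →
      ∀ Q : Subgroup G, Q ≤ L → IsPGroup p Q → Q ≠ ⊥ → ¬ Q ≤ centralizer ({u} : Set G))
    {T : Subgroup G} (hT2 : IsPGroup 2 T) (htT : t ∈ T) {Q : Subgroup G} (hQL : Q ≤ L) (hQp : IsPGroup p Q)
    (hQ1 : Q ≠ ⊥) (hTQ : T ≤ centralizer (Q : Set G)) {y : G} (hy : y ∈ normalizer (T : Set G))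
    (hyp : ∃ k : ℕ, y ^ (p ^ k) = 1) : y * t = t * y := by
  have hf2 : Fact (Nat.Prime 2) := ⟨Nat.prime_two⟩
  have hfp : Fact p.Prime := ⟨hp⟩
  obtain ⟨S', hS'⟩ := hT2.exists_le_sylow
  -- `S'` is elementary abelian of order 8
  have hS8' : Nat.card (S' : Subgroup G) = 8 := by
    rw [← hS8, Sylow.card_eq_multiplicity, Sylow.card_eq_multiplicity]
  have hSq' : ∀ s ∈ (S' : Subgroup G), s * s = 1 := by
    obtain ⟨g, hg⟩ := MulAction.exists_smul_eq G S S'
    intro s hs
    rw [← hg] at hs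
    obtain ⟨s₀, hs₀, rfl⟩ := hs
    change (g * s₀ * g⁻¹) * (g * s₀ * g⁻¹) = 1
    have h1 := hS s₀ hs₀
    calc (g * s₀ * g⁻¹) * (g * s₀ * g⁻¹) = g * (s₀ * s₀) * g⁻¹ := by group
      _ = 1 := by rw [h1]; group
  have hScomm : ∀ a ∈ (S' : Subgroup G), ∀ b ∈ (S' : Subgroup G), a * b = b * a := by
    intro a ha b hb
    have h1 := hSq' _ (mul_mem ha hb)
    have h2 := hSq' a ha
    have h3 := hSq' b hb
    have e1 : a⁻¹ = a := inv_eq_of_mul_eq_one_left h2
    have e2 : b⁻¹ = b := inv_eq_of_mul_eq_one_left h3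
    have e3 : (a * b)⁻¹ = a * b := inv_eq_of_mul_eq_one_left h1
    rw [← e3, _root_.mul_inv_rev, e1, e2]
  have htS : t ∈ (S' : Subgroup G) := hS' htT
  have hSC : (S' : Subgroup G) ≤ centralizer ({t} : Set G) := by
    intro s hs
    rw [mem_centralizer_singleton_iff]
    exact hScomm s hs t htS
  have hSyl : SylIn 2 (S' : Subgroup G) (centralizer ({t} : Set G)) := sylIn_of_sylow S' hSC
  have hVS := hSyl.inf hLC hCL
  obtain ⟨hV4, hVc⟩ := hV _ hVS
  set V : Subgroup G := (S' : Subgroup G) ⊓ L with hVdef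
  -- elements of `S'`
  have hform : ∀ s ∈ (S' : Subgroup G), s ∈ V ∨ s * t ∈ V := by
    intro s hs
    by_cases hsV : s ∈ V
    · exact Or.inl hsV
    right
    by_contra h
    -- the cosets `V`, `V t`, `V s` are disjoint
    let f : Fin 3 × V → (S' : Subgroup G) := fun c =>
      ⟨(![1, t, s] c.1) * c.2, by
        have : (![1, t, s] c.1) ∈ (S' : Subgroup G) := by
          rcases c with ⟨i, v⟩
          fin_cases i
          · exact one_mem _
          · exact htS
          · exact hs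
        exact mul_mem this (mem_inf.1 c.2.2).1⟩
    have htV : t ∉ V := fun h => htL (mem_inf.1 h).2
    have ht2 := hSq' t htS
    have hs2 := hSq' s hs
    have hf : Function.Injective f := by
      rintro ⟨i, v⟩ ⟨j, w⟩ h1
      have h2 : (![1, t, s] i) * (v : G) = (![1, t, s] j) * w := congrArg Subtype.val h1
      have h3 : (![1, t, s] j)⁻¹ * (![1, t, s] i) = (w : G) * (v : G)⁻¹ := by
        have : (![1, t, s] j)⁻¹ * ((![1, t, s] i) * (v : G)) * (v : G)⁻¹ =
          (![1, t, s] j)⁻¹ * ((![1, t, s] j) * w) * (v : G)⁻¹ := by rw [h2]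
        simpa only [mul_assoc, _root_.Nat.succ_eq_add_one, _root_.Nat.reduceAdd, _root_.mul_inv_cancel, _root_.mul_one, _root_.inv_mul_cancel_left] using this
      have h4 : (![1, t, s] j)⁻¹ * (![1, t, s] i) ∈ V := by
        rw [h3]; exact mul_mem w.2 (inv_mem v.2)
      have et : t⁻¹ = t := inv_eq_of_mul_eq_one_left ht2
      have es : s⁻¹ = s := inv_eq_of_mul_eq_one_left hs2
      have hij : i = j := by
        fin_cases i <;> fin_cases j <;> simp [et, es] at h4 ⊢
        · exact htV h4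
        · exact hsV h4
        · exact htV h4
        · apply h
          exact h4
        · exact hsV h4
        · apply h
          rw [hScomm s hs t htS]
          exact h4
      subst hij
      have h5 : (v : G) = w := mul_left_cancel h2
      exact Prod.ext rfl (Subtype.ext h5)
    have h1 := Nat.card_le_card_of_injective f hf
    rw [Nat.card_prod, hV4, hS8', Nat.card_eq_fintype_card, Fintype.card_fin] at h1
    omega
  -- the cases
  by_cases hT8 : Nat.card T = 8
  · exfalso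
    have hTS : T = S' := eq_of_le_of_card_ge hS' (by rw [hT8, hS8'])
    obtain ⟨z, hz, hz1⟩ := (bot_or_exists_ne_one Q).resolve_left hQ1
    have hzV : z ∈ V := by
      refine hVc z (hQL hz) ?_
      intro v hv
      have h1 : v ∈ T := by rw [hTS]; exact (mem_inf.1 hv).1
      exact (mem_centralizer_iff.1 (hTQ h1) z hz)
    have h2 : z * z = 1 := hSq' z (mem_inf.1 hzV).1
    obtain ⟨k, hk⟩ := hQp ⟨z, hz⟩
    have h3 : z ^ (p ^ k) = 1 := by simpa only [_root_.SubmonoidClass.mk_pow, _root_.OneMemClass.coe_one] using congrArg Subtype.val hk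
    have h4 : orderOf z ∣ Nat.gcd 2 (p ^ k) :=
      Nat.dvd_gcd (orderOf_dvd_of_pow_eq_one (by rw [pow_two]; exact h2)) (orderOf_dvd_of_pow_eq_one h3)
    have h5 : Nat.gcd 2 (p ^ k) = 1 :=
      Nat.Coprime.pow_right k ((Nat.coprime_primes Nat.prime_two hp).2 (Ne.symm hp2))
    rw [h5, Nat.dvd_one, orderOf_eq_one_iff] at h4
    exact hz1 h4
  · rcases hcase with hp5 | hcase
    · -- small `T`
      have hT4 : Nat.card T ≤ 4 := by
        have h1 : Nat.card T ∣ 8 := by rw [← hS8']; exact card_dvd_of_le hS'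
        have h2 : Nat.card T ≤ 8 := Nat.le_of_dvd (by norm_num) h1
        interval_cases h3 : Nat.card T <;> (clear * - h1 hT8; omega)
      exact commute_of_card_le hp hp5 hT4 hy hyp htT
    · -- `T = {1, t}`
      have hTt : ∀ s ∈ T, s ≠ 1 → s = t := by
        intro s hs hs1
        by_contra hst
        have key : ∀ v ∈ V, v ∈ T → v ≠ 1 → False := by
          intro v hv hvT hv1
          refine hcase v (mem_inf.1 hv).2 hv1 (hSq' v (mem_inf.1 hv).1) Q hQL hQp hQ1 ?_
          intro z hz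
          rw [mem_centralizer_singleton_iff]
          exact mem_centralizer_iff.1 (hTQ hvT) z hz
        rcases hform s (hS' hs) with h1 | h1
        · exact key s h1 hs hs1
        · refine key (s * t) h1 (mul_mem hs htT) ?_
          intro h2
          apply hst
          have ht2 := hSq' t htS
          have et : t⁻¹ = t := inv_eq_of_mul_eq_one_left ht2
          rw [eq_inv_of_mul_eq_one_left h2, et]
      have h1 : y * t * y⁻¹ ∈ T := (mem_normalizer_iff.1 hy t).1 htT
      have h2 : y * t * y⁻¹ ≠ 1 := by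
        intro h3
        apply ht1
        have h4 : y⁻¹ * (y * t * y⁻¹) * y = t := by group
        rw [← h4, h3]; group
      have h3 := hTt _ h1 h2
      have h7 : y * t * y⁻¹ * y = t * y := by rw [h3]
      rw [← h7]; group

end local_

end Cfsg.Agent.Walter.MetaPSL
end
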